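import Cfsg.Agent.Mrg.Omega.Assembly
import Cfsg.Agent.Mrg.Omega.Half.Blocks

section


/-!
# THEOREM C (bb OMEGA 15545, helper610), case `q = 2`: DATA (W)

`Dat S Q Z x z`: `S` a Sylow 2-subgroup of `G`, `Q = C_S(Ω₁Z(Q))`, `C_G(Q) ≤ Q`,
`Ω₁Z(Q) = ∏ Z l`, `x l ∈ N_G(Q)` acts without fixed points of order 3 on `Z l`, trivially on the
other factors, `S` permutes the factors transitively and the `⟨x l⟩` modulo `C(Ω₁Z(Q))`,
`C_{Z l}(N_S(Z l)) = ⟨z l⟩`.

Target (THEOREM C): `O₂(C_G(z i))` centralises `z l` for `l ≠ i`.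
-/

set_option autoImplicit false

namespace Cfsg.Agent.Omega.ThmC

open Subgroup Cfsg Cfsg.Agent.ZN Cfsg.Agent.MinSimple.VModule

universe u

variable {G : Type u} [Group G]

/-- DATA (W) of THEOREM C. -/
structure Dat (S : Sylow 2 G) (Q : Subgroup G) {ι : Type} (Z : ι → Subgroup G) (x z : ι → G) :
    Prop where
  QS : Q ≤ S
  SC : (S : Subgroup G) ⊓ centralizer (zc Q : Set G) ≤ Q
  CQ : centralizer (Q : Set G) ≤ Q
  xQ : ∀ l, x l ∈ normalizer (Q : Set G)
  le : ∀ l, Z l ≤ zc Q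
  sup : zc Q ≤ ⨆ l, Z l
  nor : ∀ l, ∀ v ∈ Z l, x l * v * (x l)⁻¹ ∈ Z l
  three : ∀ l, ∀ v ∈ Z l,
    v * (x l * v * (x l)⁻¹) * (x l * (x l * v * (x l)⁻¹) * (x l)⁻¹) = 1
  triv : ∀ l m, l ≠ m → ∀ v ∈ Z m, x l * v * (x l)⁻¹ = v
  perm : ∀ s ∈ (S : Subgroup G), ∀ l, ∃ m, (∀ v ∈ Z l, s * v * s⁻¹ ∈ Z m) ∧
    ((∀ v ∈ zc Q, (s * x l * s⁻¹) * v * (s * x l * s⁻¹)⁻¹ = x m * v * (x m)⁻¹) ∨
      (∀ v ∈ zc Q, (s * x l * s⁻¹) * v * (s * x l * s⁻¹)⁻¹ = (x m)⁻¹ * v * x m))
  trans : ∀ l m, ∃ s ∈ (S : Subgroup G), ∀ v ∈ Z l, s * v * s⁻¹ ∈ Z m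
  zm : ∀ l, z l ∈ Z l
  z1 : ∀ l, z l ≠ 1
  zfix : ∀ l, ∀ v ∈ Z l, (∀ s ∈ (S : Subgroup G), (∀ w ∈ Z l, s * w * s⁻¹ ∈ Z l) →
    s * v * s⁻¹ = v) → v = 1 ∨ v = z l

/-- THEOREM C for `q = 2`. -/
def Stmt (G : Type u) [Group G] : Prop :=
  ∀ (S : Sylow 2 G) (Q : Subgroup G) (ι : Type) (_ : Finite ι) (Z : ι → Subgroup G) (x z : ι → G),
    Dat S Q Z x z → ∀ i l, i ≠ l → o2 (centralizer {z i}) ≤ centralizer ({z l} : Set G)

end Cfsg.Agent.Omega.ThmC

end

section


/-!
# THEOREM C, `q = 2`: the module `Md X = Ω₁Z(X)`, written additively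

`val : Md X → G`, `cjE hg : MulAut (zc X)` = conjugation by `g ∈ N(zc X)`, `lft` = additive
endomorphisms of `Md X` from functions on `G`, `inc : Md X →+ Md Y`.
-/

set_option autoImplicit false

namespace Cfsg.Agent.Omega.ThmC

open Subgroup Cfsg Cfsg.Agent.MinSimple.VModule
open Cfsg.Agent.ZN (zc o2)

universe u

variable {G : Type u} [Group G]

/-- `Ω₁Z(X)`, additively. -/
def Md (X : Subgroup G) : Type u := Additive ↥(zc X)

namespace Md

variable {X Y : Subgroup G}

instance : AddGroup (Md X) := inferInstanceAs (AddGroup (Additive ↥(zc X)))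

instance : AddCommGroup (Md X) :=
  { (inferInstance : AddGroup (Md X)) with
    add_comm := fun a b => by
      apply Additive.toMul.injective
      exact Subtype.ext (zc_comm X _ (Additive.toMul a : ↥(zc X)).2 _ (Additive.toMul b : ↥(zc X)).2) }

instance [Finite G] : Finite (Md X) := inferInstanceAs (Finite (Additive ↥(zc X)))

instance : DistribMulAction (MulAut ↥(zc X)) (Md X) where
  smul f a := Additive.ofMul (f (Additive.toMul a))
  one_smul _ := rfl
  mul_smul _ _ _ := rfl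
  smul_zero f := congrArg Additive.ofMul (map_one f)
  smul_add f a b := congrArg Additive.ofMul (map_mul f _ _)

/-- the underlying element of `G`. -/
def val (a : Md X) : G := ((Additive.toMul (α := ↥(zc X)) a : ↥(zc X)) : G)

/-- the element of `Md X` of an element of `zc X`. -/
def mk (v : G) (hv : v ∈ zc X) : Md X := Additive.ofMul (⟨v, hv⟩ : ↥(zc X))

theorem val_mem (a : Md X) : val a ∈ zc X := (Additive.toMul (α := ↥(zc X)) a : ↥(zc X)).2

@[simp] theorem val_mk (v : G) (hv : v ∈ zc X) : val (mk v hv) = v := rfl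

theorem ext {a b : Md X} (h : val a = val b) : a = b :=
  Additive.toMul.injective (Subtype.ext h)

theorem val_inj {a b : Md X} : val a = val b ↔ a = b := ⟨ext, congrArg val⟩

@[simp] theorem val_zero : val (0 : Md X) = 1 := rfl

@[simp] theorem val_add (a b : Md X) : val (a + b) = val a * val b := rfl

theorem val_eq_one {a : Md X} : val a = 1 ↔ a = 0 := ⟨fun h => ext (by simpa using h), fun h => by simp [h]⟩

theorem two (a : Md X) : a + a = 0 := by
  apply ext
  have := zc_sq X _ (val_mem a)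
  rw [pow_two] at this
  simpa using this

theorem neg_eq (a : Md X) : -a = a := neg_eq_of_add_eq_zero_left (two a)

/-- conjugation by `g ∈ N(zc X)`. -/
def cjE {g : G} (hg : g ∈ normalizer (zc X : Set G)) : MulAut ↥(zc X) :=
  (zc X).normalizerMonoidHom ⟨g, hg⟩

@[simp] theorem val_cjE {g : G} (hg : g ∈ normalizer (zc X : Set G)) (a : Md X) :
    val (cjE hg • a) = g * val a * g⁻¹ := rfl

theorem val_smul (f : MulAut ↥(zc X)) (a : Md X) : val (f • a) = ((f ⟨val a, val_mem a⟩ : ↥(zc X)) : G) :=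
  rfl

theorem faith {f : MulAut ↥(zc X)} (h : ∀ a : Md X, f • a = a) : f = 1 := by
  ext v
  exact congrArg val (h (mk (v : G) v.2))

theorem ext_smul {f g : MulAut ↥(zc X)} (h : ∀ a : Md X, f • a = g • a) : f = g := by
  have : g⁻¹ * f = 1 := faith (fun a => by rw [mul_smul, h, inv_smul_smul])
  exact (inv_mul_eq_one.mp this).symm

/-- endomorphisms from functions on `G`. -/
def lft (f : G → G) (h1 : ∀ v ∈ zc X, f v ∈ zc X) (h2 : ∀ v ∈ zc X, ∀ w ∈ zc X, f (v * w) = f v * f w) :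
    Md X →+ Md X :=
  AddMonoidHom.mk' (fun a => mk (f (val a)) (h1 _ (val_mem a))) (fun a b => ext (by
    simp only [val_mk, val_add]
    exact h2 _ (val_mem a) _ (val_mem b)))

@[simp] theorem val_lft (f : G → G) (h1 : ∀ v ∈ zc X, f v ∈ zc X)
    (h2 : ∀ v ∈ zc X, ∀ w ∈ zc X, f (v * w) = f v * f w) (a : Md X) :
    val (lft f h1 h2 a) = f (val a) := rfl

/-- inclusion. -/
def inc (h : zc X ≤ zc Y) : Md X →+ Md Y :=
  AddMonoidHom.mk' (fun a => mk (val a) (h (val_mem a))) (fun a b => ext (by simp))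

@[simp] theorem val_inc (h : zc X ≤ zc Y) (a : Md X) : val (inc h a) = val a := rfl

theorem inc_inj (h : zc X ≤ zc Y) {a b : Md X} (hab : inc h a = inc h b) : a = b :=
  ext (by simpa using congrArg val hab)

end Md

end Cfsg.Agent.Omega.ThmC

end

section


/-!
# THEOREM C without induction: the count (bb OMEGA #19789, helper653; #17979 (A6)-(A8))

`S` a Sylow 2-subgroup permutes the `z l` (`l : ι`) transitively, `A ≤ O₂(C_G(z o))` centralises all `z l`, `l ∉ J`,
`o ∉ J`, `|J| ∈ {1, 2}`.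

* `count` : `|A : C_A(z j)| ≥ 4 ^ |J|` is impossible for some `j ∈ J`.
-/

set_option autoImplicit false

namespace Cfsg.Agent.Omega.IId.ThmCD

open Subgroup Cfsg Cfsg.Agent.MinSimple.VModule
open Cfsg.Agent.ZN (zc o2)

universe u

variable {G : Type u} [Group G]

/-- the conjugate `s A s⁻¹` -/
def cv (s : G) (A : Subgroup G) : Subgroup G := A.map (MulAut.conj s).toMonoidHom

theorem mem_cv {s x : G} {A : Subgroup G} : x ∈ cv s A ↔ s⁻¹ * x * s ∈ A := by
  rw [cv, mem_map_equiv]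
  rfl

theorem cv_relIndex (s : G) (A B : Subgroup G) : (cv s A).relIndex (cv s B) = A.relIndex B :=
  relIndex_map_map_of_injective _ _ (MulAut.conj s).injective

theorem cv_mono {s : G} {A B : Subgroup G} (h : A ≤ B) : cv s A ≤ cv s B := map_mono h

theorem cv_centralizer (s v : G) : cv s (centralizer {v}) = centralizer {s * v * s⁻¹} := by
  ext x
  rw [mem_cv, mem_centralizer_singleton_iff, mem_centralizer_singleton_iff]
  constructor
  · intro h
    calc x * (s * v * s⁻¹) = s * (s⁻¹ * x * s * v) * s⁻¹ := by group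
      _ = s * (v * (s⁻¹ * x * s)) * s⁻¹ := by rw [h]
      _ = s * v * s⁻¹ * x := by group
  · intro h
    calc s⁻¹ * x * s * v = s⁻¹ * (x * (s * v * s⁻¹)) * s := by group
      _ = s⁻¹ * (s * v * s⁻¹ * x) * s := by rw [h]
      _ = v * (s⁻¹ * x * s) := by group

theorem isPGroup_cv {s : G} {A : Subgroup G} (h : IsPGroup 2 A) : IsPGroup 2 (cv s A) := h.map _

theorem cv_le_o2 {s v : G} {A : Subgroup G} (h : A ≤ o2 (centralizer {v})) :
    cv s A ≤ o2 (centralizer {s * v * s⁻¹}) := by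
  refine (cv_mono h).trans (le_o2 ?_ (isPGroup_cv (o2_isPGroup _)) ?_)
  · rw [← cv_centralizer]
    exact cv_mono (o2_le _)
  · intro x hx
    rw [← cv_centralizer, mem_cv] at hx
    have h1 := le_normalizer_o2 _ hx
    rw [mem_normalizer_iff] at h1 ⊢
    intro y
    rw [mem_cv, mem_cv]
    have h2 := h1 (s⁻¹ * y * s)
    have e : s⁻¹ * x * s * (s⁻¹ * y * s) * (s⁻¹ * x * s)⁻¹ = s⁻¹ * (x * y * x⁻¹) * s := by group
    rwa [e] at h2

/-- a 2-group normalised by the Sylow group `S` lies in `S` -/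
theorem le_sylow_of_normalized [Finite G] (S : Sylow 2 G) {N : Subgroup G} (hN : IsPGroup 2 N)
    (hn : (S : Subgroup G) ≤ normalizer (N : Set G)) : N ≤ S := by
  have h1 : IsPGroup 2 ↥((S : Subgroup G) ⊔ N) := S.2.to_sup_of_normal_right' hN hn
  have h2 := S.is_maximal' h1 le_sup_left
  exact le_sup_right.trans h2.le

theorem card_le_sylow [Finite G] (S : Sylow 2 G) {N : Subgroup G} (hN : IsPGroup 2 N) :
    Nat.card N ≤ Nat.card (S : Subgroup G) := by
  obtain ⟨P, hP⟩ := hN.exists_le_sylow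
  have : Fact (Nat.Prime 2) := ⟨Nat.prime_two⟩
  have h1 : Nat.card (P : Subgroup G) = Nat.card (S : Subgroup G) := Nat.card_congr (P.equiv S).toEquiv
  rw [← h1]
  exact Nat.card_le_card_of_injective _ (inclusion_injective hP)

/-- the centraliser of a set which is permuted by `S` -/
theorem nor_centralizer {X : Set G} {s : G} (h : ∀ x ∈ X, s * x * s⁻¹ ∈ X) (h' : ∀ x ∈ X, s⁻¹ * x * s ∈ X) :
    s ∈ normalizer (centralizer X : Set G) := by
  have key : ∀ s : G, (∀ x ∈ X, s⁻¹ * x * s ∈ X) → ∀ c ∈ centralizer X, s * c * s⁻¹ ∈ centralizer X := by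
    intro s h c hc
    rw [mem_centralizer_iff] at hc ⊢
    intro x hx
    have h1 := hc _ (h x hx)
    calc x * (s * c * s⁻¹) = s * (s⁻¹ * x * s * c) * s⁻¹ := by group
      _ = s * (c * (s⁻¹ * x * s)) * s⁻¹ := by rw [h1]
      _ = s * c * s⁻¹ * x := by group
  rw [mem_normalizer_iff]
  intro c
  refine ⟨key s h' c, fun hc => ?_⟩
  have h1 := key s⁻¹ (by simpa using h) _ hc
  have e : s⁻¹ * (s * c * s⁻¹) * s⁻¹⁻¹ = c := by group
  rwa [e] at h1

theorem nor_inf {A B : Subgroup G} {x : G} (hA : x ∈ normalizer (A : Set G)) (hB : x ∈ normalizer (B : Set G)) :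
    x ∈ normalizer ((A ⊓ B : Subgroup G) : Set G) := by
  rw [mem_normalizer_iff] at hA hB ⊢
  intro h
  rw [mem_inf, mem_inf, hA h, hB h]

theorem nor_o2 {C : Subgroup G} {s : G} (hs : s ∈ normalizer (C : Set G)) : s ∈ normalizer (o2 C : Set G) := by
  have key : ∀ s ∈ normalizer (C : Set G), cv s (o2 C) ≤ o2 C := by
    intro s hs
    have e : cv s C = C := by
      ext x
      rw [mem_cv]
      have h := mem_normalizer_iff.1 hs (s⁻¹ * x * s)
      have e : s * (s⁻¹ * x * s) * s⁻¹ = x := by group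
      rwa [e] at h
    refine le_o2 ((cv_mono (o2_le _)).trans e.le) (isPGroup_cv (o2_isPGroup _)) ?_
    intro x hx
    rw [← e, mem_cv] at hx
    have h1 := le_normalizer_o2 _ hx
    rw [mem_normalizer_iff] at h1 ⊢
    intro y
    rw [mem_cv, mem_cv]
    have h2 := h1 (s⁻¹ * y * s)
    have e : s⁻¹ * x * s * (s⁻¹ * y * s) * (s⁻¹ * x * s)⁻¹ = s⁻¹ * (x * y * x⁻¹) * s := by group
    rwa [e] at h2
  rw [mem_normalizer_iff]
  intro x
  constructor
  · intro hx
    refine key s hs (mem_cv.2 ?_)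
    have e : s⁻¹ * (s * x * s⁻¹) * s = x := by group
    rwa [e]
  · intro hx
    have h1 := key s⁻¹ (inv_mem hs) (x := x) (mem_cv.2 (by rwa [inv_inv]))
    exact h1

/-- **The count.** -/
theorem count [Finite G] (S : Sylow 2 G) {ι : Type} [Finite ι] [DecidableEq ι] (z : ι → G)
    (hinj : Function.Injective z) (hS : ∀ s ∈ (S : Subgroup G), ∀ l, ∃ m, s * z l * s⁻¹ = z m)
    (htr : ∀ l m, ∃ s ∈ (S : Subgroup G), s * z l * s⁻¹ = z m) (o : ι) (A : Subgroup G) (J : Finset ι)
    (ho : o ∉ J) (hJ : J.card = 1 ∨ J.card = 2) (hA : A ≤ o2 (centralizer {z o}))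
    (hAl : ∀ l, l ∉ J → A ≤ centralizer {z l})
    (hi : ∀ j ∈ J, 4 ^ J.card ≤ (centralizer {z j}).relIndex A) : False := by
  classical
  have : Fact (Nat.Prime 2) := ⟨Nat.prime_two⟩
  -- the action of `S` on `ι`
  choose f hf using fun (s : (S : Subgroup G)) (l : ι) => hS s s.2 l
  let act : MulAction (S : Subgroup G) ι :=
    { smul := f
      one_smul := fun l => by
        apply hinj
        change z (f 1 l) = z l
        rw [← hf]
        simp
      mul_smul := fun s t l => by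
        apply hinj
        change z (f (s * t) l) = z (f s (f t l))
        rw [← hf, ← hf, ← hf]
        simp [mul_assoc] }
  have hz : ∀ (s : (S : Subgroup G)) (l : ι), (s : G) * z l * (s : G)⁻¹ = z (s • l) := hf
  have htr' : ∀ a b : ι, ∃ s : (S : Subgroup G), s • a = b := by
    intro a b
    obtain ⟨s, hs, e⟩ := htr a b
    refine ⟨⟨s, hs⟩, hinj ?_⟩
    rw [← hz, ← e]
  -- `J = {j, j'}`
  obtain ⟨j, j', hjJ, hjJ', hJs⟩ : ∃ j j' : ι, j ∈ J ∧ j' ∈ J ∧ ∀ i ∈ J, i = j ∨ i = j' := by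
    rcases hJ with h | h
    · obtain ⟨j, rfl⟩ := Finset.card_eq_one.1 h
      exact ⟨j, j, by simp, by simp, by simp⟩
    · obtain ⟨j, j', _, rfl⟩ := Finset.card_eq_two.1 h
      exact ⟨j, j', by simp, by simp, by simp⟩
  obtain ⟨Γ, ⟨s₀, hs₀⟩, hΓ, hcard⟩ := levels S.2 htr' (o := o) (j := j) (j' := j')
    (fun h => ho (h ▸ hjJ)) (fun h => ho (h ▸ hjJ'))
  set JJ : Set ι := {i : ι | ∃ s : (S : Subgroup G), s • o ∈ Γ ∧ (i = s • j ∨ i = s • j')} with hJJ
  -- the groups
  set CΓ : Subgroup G := centralizer (z '' Γ) with hCΓ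
  set R : Subgroup G := o2 CΓ with hR
  let RT : Set ι → Subgroup G := fun T => R ⊓ centralizer (z '' Tᶜ)
  have hRT : ∀ {T T' : Set ι}, T ⊆ T' → RT T ≤ RT T' := fun {T T'} h =>
    inf_le_inf_left _ (centralizer_le (Set.image_mono (Set.compl_subset_compl.2 h)))
  have hRTc : ∀ {T : Set ι} {b : ι}, b ∉ T → RT T ≤ centralizer {z b} := fun {T b} hb =>
    inf_le_right.trans (centralizer_le (by
      rw [Set.singleton_subset_iff]
      exact ⟨b, hb, rfl⟩))
  -- the conjugates of `A`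
  have hAs : ∀ s : (S : Subgroup G), s • o ∈ Γ → ∀ T : Set ι, (∀ i ∈ J, s • i ∈ T) → cv (s : G) A ≤ RT T := by
    intro s hs T hT
    have hcen : ∀ l, (∀ i ∈ J, l ≠ s • i) → cv (s : G) A ≤ centralizer {z l} := by
      intro l hl
      have h1 : s⁻¹ • l ∉ J := fun h => hl _ h (smul_inv_smul s l).symm
      have h2 := cv_mono (s := (s : G)) (hAl _ h1)
      rw [cv_centralizer, hz, smul_inv_smul] at h2
      exact h2
    have hcen' : ∀ X : Set ι, (∀ l ∈ X, ∀ i ∈ J, l ≠ s • i) → cv (s : G) A ≤ centralizer (z '' X) := by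
      intro X hX c hc
      rw [mem_centralizer_iff]
      rintro _ ⟨l, hl, rfl⟩
      have := hcen l (hX l hl) hc
      rw [mem_centralizer_singleton_iff] at this
      exact this.symm
    have hΓs : cv (s : G) A ≤ CΓ := hcen' Γ fun l hl i hi e => by
      have h1 := hΓ s hs
      rcases hJs i hi with rfl | rfl
      · exact h1.1 (e ▸ hl)
      · exact h1.2 (e ▸ hl)
    have hCle : CΓ ≤ centralizer {z (s • o)} := centralizer_le (by
      rw [Set.singleton_subset_iff]
      exact ⟨_, hs, rfl⟩)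
    have h3 : cv (s : G) A ≤ R := by
      have h4 : cv (s : G) A ≤ o2 (centralizer {z (s • o)}) := by
        rw [← hz]
        exact cv_le_o2 hA
      have h5 : o2 (centralizer {z (s • o)}) ⊓ CΓ ≤ R := by
        refine le_o2 inf_le_right ((o2_isPGroup _).to_le inf_le_left) fun x hx => ?_
        exact nor_inf (le_normalizer_o2 _ (hCle hx)) (le_normalizer hx)
      exact (le_inf h4 hΓs).trans h5
    refine le_inf h3 (hcen' _ fun l hl i hi e => hl (e ▸ hT i hi))
  have hidx : ∀ s : (S : Subgroup G), ∀ i ∈ J, 4 ^ J.card ≤ (centralizer {z (s • i)}).relIndex (cv (s : G) A) := by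
    intro s i hi'
    rw [← hz, ← cv_centralizer, cv_relIndex]
    exact hi i hi'
  have hne : ∀ A B : Subgroup G, A.relIndex B ≠ 0 := fun A B => Subgroup.index_ne_zero_of_finite
  -- the chain
  have hchain : ∃ T : Finset ι, JJ ⊆ ↑T ∧ 4 ^ T.card ≤ (RT ∅).relIndex (RT ↑T) := by
    set P : Finset ι → Prop := fun T => 4 ^ T.card ≤ (RT ∅).relIndex (RT ↑T) with hP
    have hfin : {T : Finset ι | P T}.Finite := Set.toFinite _
    have hnon : {T : Finset ι | P T}.Nonempty := ⟨∅, by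
      change 4 ^ (∅ : Finset ι).card ≤ _
      rw [Finset.card_empty, pow_zero, Finset.coe_empty, relIndex_self]⟩
    obtain ⟨T, hT, hmax⟩ := hfin.exists_maximalFor (fun T : Finset ι => T.card) _ hnon
    refine ⟨T, ?_, hT⟩
    by_contra hcon
    obtain ⟨b, hb, hbT⟩ := Set.not_subset.1 hcon
    obtain ⟨s, hs, hbs⟩ := hb
    obtain ⟨i, hiJ, rfl⟩ : ∃ i ∈ J, b = s • i := by
      rcases hbs with h | h
      · exact ⟨j, hjJ, h⟩
      · exact ⟨j', hjJ', h⟩
    set T' : Finset ι := T ∪ J.image (fun i => s • i) with hT'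
    have hTT : (↑T : Set ι) ⊆ ↑T' := by
      rw [hT', Finset.coe_union]
      exact Set.subset_union_left
    have hc1 : T'.card ≤ T.card + J.card :=
      (Finset.card_union_le _ _).trans (Nat.add_le_add_left Finset.card_image_le _)
    have hc2 : T.card < T'.card := by
      refine Finset.card_lt_card ⟨Finset.coe_subset.1 hTT, fun h => hbT ?_⟩
      have : s • i ∈ T' := by
        rw [hT', Finset.mem_union]
        exact Or.inr (Finset.mem_image.2 ⟨i, hiJ, rfl⟩)
      exact h this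
    have hPT' : P T' := by
      change 4 ^ T'.card ≤ (RT ∅).relIndex (RT ↑T')
      have e1 : (RT ∅).relIndex (RT ↑T) * (RT ↑T).relIndex (RT ↑T') = (RT ∅).relIndex (RT ↑T') :=
        relIndex_mul_relIndex _ _ _ (hRT (Set.empty_subset _)) (hRT hTT)
      have e2 : 4 ^ J.card ≤ (RT ↑T).relIndex (RT ↑T') := by
        have h1 : cv (s : G) A ≤ RT ↑T' := hAs s hs _ fun i hi => by
          rw [hT', Finset.coe_union]
          exact Or.inr (Finset.mem_coe.2 (Finset.mem_image.2 ⟨i, hi, rfl⟩))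
        have h2 : RT ↑T ≤ centralizer {z (s • i)} := hRTc hbT
        calc 4 ^ J.card ≤ (centralizer {z (s • i)}).relIndex (cv (s : G) A) := hidx s i hiJ
          _ ≤ (centralizer {z (s • i)}).relIndex (RT ↑T') := relIndex_le_of_le_right h1 (hne _ _)
          _ ≤ (RT ↑T).relIndex (RT ↑T') := relIndex_le_of_le_left h2 (hne _ _)
      calc 4 ^ T'.card ≤ 4 ^ (T.card + J.card) := Nat.pow_le_pow_right (by norm_num) hc1
        _ = 4 ^ T.card * 4 ^ J.card := pow_add _ _ _
        _ ≤ (RT ∅).relIndex (RT ↑T) * (RT ↑T).relIndex (RT ↑T') := Nat.mul_le_mul hT e2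
        _ = _ := e1
    have h1 : T'.card ≤ T.card := hmax hPT' hc2.le
    omega
  obtain ⟨T, hJT, hT⟩ := hchain
  -- `2 ^ k ≤ |R : R ∩ C(all z)|`
  set R₀ : Subgroup G := R ⊓ centralizer (Set.range z) with hR₀
  have hR₀e : RT ∅ = R₀ := by
    change R ⊓ centralizer (z '' (∅ : Set ι)ᶜ) = _
    rw [Set.compl_empty, Set.image_univ]
  have h2k : 2 ^ Nat.card ι ≤ R₀.relIndex R := by
    have h1 : JJ.ncard ≤ T.card := by
      rw [← Set.ncard_coe_finset]
      exact Set.ncard_le_ncard hJT (Set.toFinite _)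
    calc 2 ^ Nat.card ι ≤ 2 ^ (2 * T.card) := Nat.pow_le_pow_right (by norm_num) (hcard.trans (by omega))
      _ = 4 ^ T.card := by rw [pow_mul]; norm_num
      _ ≤ (RT ∅).relIndex (RT ↑T) := hT
      _ ≤ (RT ∅).relIndex R := relIndex_le_of_le_right inf_le_left (hne _ _)
      _ = R₀.relIndex R := by rw [hR₀e]
  -- `R₀ ≤ S`
  have hSz : (S : Subgroup G) ≤ normalizer (centralizer (Set.range z) : Set G) := by
    intro s hs
    refine nor_centralizer ?_ ?_
    · rintro _ ⟨l, rfl⟩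
      exact ⟨(⟨s, hs⟩ : (S : Subgroup G)) • l, (hz ⟨s, hs⟩ l).symm⟩
    · rintro _ ⟨l, rfl⟩
      refine ⟨(⟨s, hs⟩ : (S : Subgroup G))⁻¹ • l, ?_⟩
      rw [← hz]
      simp
  have hCC : centralizer (Set.range z) ≤ CΓ := centralizer_le (Set.image_subset_range _ _)
  have hR₀S : R₀ ≤ S := by
    have h1 : R₀ ≤ o2 (centralizer (Set.range z)) := by
      refine le_o2 inf_le_right ((o2_isPGroup _).to_le inf_le_left) fun x hx => ?_
      exact nor_inf (le_normalizer_o2 _ (hCC hx)) (le_normalizer hx)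
    refine h1.trans (le_sylow_of_normalized S (o2_isPGroup _) fun s hs => ?_)
    exact nor_o2 (hSz hs)
  -- the end
  set S₀ : Subgroup G := (S : Subgroup G) ⊓ centralizer (Set.range z) with hS₀
  have hRS : R ⊓ S₀ = R₀ := by
    apply le_antisymm
    · exact inf_le_inf_left _ inf_le_right
    · exact le_inf inf_le_left (le_inf hR₀S inf_le_right)
  have h3 : R₀.relIndex R = S₀.relIndex R := by rw [← hRS, inf_relIndex_left]
  have h4 : S₀.relIndex R ≤ S₀.relIndex (S : Subgroup G) := by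
    have h5 : S₀ ≤ normalizer (R : Set G) := (inf_le_right.trans hCC).trans (le_normalizer_o2 _)
    have h6 : IsPGroup 2 ↥(S₀ ⊔ R) := (S.2.to_le inf_le_left : IsPGroup 2 S₀).to_sup_of_normal_right' (o2_isPGroup _) h5
    have h7 := card_le_sylow S h6
    have h8 : Nat.card S₀ * S₀.relIndex (S₀ ⊔ R) = Nat.card ↥(S₀ ⊔ R) := card_mul_relIndex_of_le le_sup_left
    have h9 : Nat.card S₀ * S₀.relIndex (S : Subgroup G) = Nat.card (S : Subgroup G) :=
      card_mul_relIndex_of_le inf_le_left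
    have h10 : S₀.relIndex R ≤ S₀.relIndex (S₀ ⊔ R) := relIndex_le_of_le_right le_sup_right (hne _ _)
    refine h10.trans (Nat.le_of_mul_le_mul_left ?_ (Nat.card_pos (α := S₀)))
    rw [h8, h9]
    exact h7
  have h5 : S₀.relIndex (S : Subgroup G) ∣ (Nat.card ι).factorial := by
    have h6 : S₀.subgroupOf (S : Subgroup G) = (MulAction.toPermHom (S : Subgroup G) ι).ker := by
      ext s
      rw [mem_subgroupOf, MonoidHom.mem_ker, hS₀, mem_inf]
      constructor
      · rintro ⟨-, h⟩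
        ext l
        apply hinj
        change z (s • l) = z l
        rw [← hz, ← mem_centralizer_iff.1 h _ ⟨l, rfl⟩, mul_inv_cancel_right]
      · intro h
        refine ⟨s.2, ?_⟩
        rw [mem_centralizer_iff]
        rintro _ ⟨l, rfl⟩
        have h7 : s • l = l := congrArg (fun σ : Equiv.Perm ι => σ l) h
        have h8 := hz s l
        rw [h7] at h8
        exact (mul_inv_eq_iff_eq_mul.1 h8).symm
    rw [relIndex, h6, index_ker, ← Nat.card_perm]
    exact card_subgroup_dvd_card _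
  obtain ⟨a, ha⟩ : ∃ a, S₀.relIndex (S : Subgroup G) = 2 ^ a := (S.2 : IsPGroup 2 (S : Subgroup G)).index _
  have hk : Nat.card ι ≠ 0 := by
    have : Nonempty ι := ⟨o⟩
    exact Nat.card_pos.ne'
  have h6 : Nat.card ι ≤ a := by
    have h7 : 2 ^ Nat.card ι ≤ 2 ^ a := by
      rw [← ha]
      exact (h2k.trans h3.le).trans h4
    exact (Nat.pow_le_pow_iff_right (by norm_num)).1 h7
  have h7 : a ≤ padicValNat 2 (Nat.card ι).factorial := by
    rw [← padicValNat_dvd_iff_le (Nat.factorial_ne_zero _), ← ha]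
    exact h5
  have h8 := sub_one_mul_padicValNat_factorial_lt_of_ne_zero 2 hk
  omega

end Cfsg.Agent.Omega.IId.ThmCD

end
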