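import Mathlib
import Cfsg.Agent.Lib.CoprimeHyperplane

section


/-!
# THEOREM C, case `q ≥ 4`, (3)(b): the ring computation

`e`, `f` orthogonal idempotents, `u` an involution which commutes with `e + f`, `D` central, `H = D` on the image
of `e`, `H = 1` on the image of `1 - e`.  If `u` commutes with `v = H u H⁻¹`, then `b₀ = u v`, `b₁ = H b₀ H⁻¹` and
`b₀ b₁` have the same image of `b - 1`.
-/

set_option autoImplicit false

namespace Cfsg.Agent.Omega.ThmC.Four

universe u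

theorem eq_of_add {R : Type*} [Ring R] (h2 : ∀ x : R, x + x = 0) {x y : R} (h : x + y = 0) : x = y := by
  calc x = x + (y + y) := by rw [h2, add_zero]
    _ = y := by rw [← add_assoc, h, zero_add]

theorem core {R : Type*} [Ring R] (h2 : ∀ x : R, x + x = 0) {e f u D D' H H' : R}
    (ee : e * e = e) (ff : f * f = f) (ef : e * f = 0) (fe : f * e = 0) (uu : u * u = 1)
    (ug : u * (e + f) = (e + f) * u) (DD : D * D' = 1) (DD' : D' * D = 1)
    (De : D * e = e * D) (Df : D * f = f * D) (Du : D * u = u * D) (DH : D * H = H * D) (DH' : D * H' = H' * D)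
    (HH' : H' * H = 1) (He : H * e = D * e) (Hf : H * f = f)
    (Hg : H * (1 + (e + f)) = 1 + (e + f))
    (comm : u * (H * u * H') = H * u * H' * u)
    (ce : ∀ T : R, e * T = T → D * T = T → T = 0) (cf : ∀ T : R, f * T = T → D * T = T → T = 0)
    (ce2 : ∀ T : R, e * T = T → D * (D * T) = T → T = 0)
    (cf2 : ∀ T : R, f * T = T → D * (D * T) = T → T = 0) {b₀ b₁ : R} (hb₀ : b₀ = u * (H * u * H'))
    (hb₁ : b₁ = H * b₀ * H') :
    ((1 + b₁) * e = D' * ((1 + b₀) * e) ∧ (1 + b₁) * f = D * ((1 + b₀) * f)) ∧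
    ((1 + b₀ * b₁) * e = (1 + D') * ((1 + b₀) * e) ∧ (1 + b₀ * b₁) * f = (1 + D) * ((1 + b₀) * f)) ∧
    ((1 + b₀) * (1 + (e + f)) = 0 ∧ (1 + b₁) * (1 + (e + f)) = 0 ∧ (1 + b₀ * b₁) * (1 + (e + f)) = 0) ∧
    D * b₀ = b₀ * D := by
  have D'_comm : ∀ {x : R}, D * x = x * D → D' * x = x * D' := by
    intro x hx
    calc D' * x = D' * x * (D * D') := by rw [DD, mul_one]
      _ = D' * (x * D) * D' := by noncomm_ring
      _ = D' * (D * x) * D' := by rw [hx]
      _ = (D' * D) * x * D' := by noncomm_ring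
      _ = x * D' := by rw [DD', one_mul]
  have De' := D'_comm De
  have Df' := D'_comm Df
  have Du' := D'_comm Du
  have DH1 := D'_comm DH
  have H'e : H' * e = D' * e := by
    calc H' * e = D' * (D * (H' * e)) := by rw [← mul_assoc D', DD', one_mul]
      _ = D' * (H' * (D * e)) := by rw [← mul_assoc D H', DH', mul_assoc H' D]
      _ = D' * ((H' * H) * e) := by rw [← He, mul_assoc H']
      _ = D' * e := by rw [HH', one_mul]
  have H'f : H' * f = f := by
    calc H' * f = H' * (H * f) := by rw [Hf]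
      _ = f := by rw [← mul_assoc, HH', one_mul]
  have H'g : H' * (1 + (e + f)) = 1 + (e + f) := by
    calc H' * (1 + (e + f)) = H' * (H * (1 + (e + f))) := by rw [Hg]
      _ = 1 + (e + f) := by rw [← mul_assoc, HH', one_mul]
  obtain ⟨α, hα⟩ : ∃ α, α = e * u * e := ⟨_, rfl⟩
  obtain ⟨δ, hδ⟩ : ∃ δ, δ = f * u * f := ⟨_, rfl⟩
  obtain ⟨P, hP⟩ : ∃ P, P = e * u * f := ⟨_, rfl⟩
  obtain ⟨Q, hQ⟩ : ∃ Q, Q = f * u * e := ⟨_, rfl⟩
  have eα : e * α = α := by rw [hα, ← mul_assoc, ← mul_assoc, ee]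
  have eP : e * P = P := by rw [hP, ← mul_assoc, ← mul_assoc, ee]
  have fδ : f * δ = δ := by rw [hδ, ← mul_assoc, ← mul_assoc, ff]
  have fQ : f * Q = Q := by rw [hQ, ← mul_assoc, ← mul_assoc, ff]
  have fα : f * α = 0 := by rw [hα, ← mul_assoc, ← mul_assoc, fe, zero_mul, zero_mul]
  have fP : f * P = 0 := by rw [hP, ← mul_assoc, ← mul_assoc, fe, zero_mul, zero_mul]
  have eδ : e * δ = 0 := by rw [hδ, ← mul_assoc, ← mul_assoc, ef, zero_mul, zero_mul]
  have eQ : e * Q = 0 := by rw [hQ, ← mul_assoc, ← mul_assoc, ef, zero_mul, zero_mul]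
  have ue : u * e = α + Q := by
    calc u * e = u * (e + f) * e := by rw [mul_assoc, add_mul, ee, fe, add_zero]
      _ = (e + f) * u * e := by rw [ug]
      _ = α + Q := by rw [hα, hQ, add_mul, add_mul]
  have uf : u * f = P + δ := by
    calc u * f = u * (e + f) * f := by rw [mul_assoc, add_mul, ff, ef, zero_add]
      _ = (e + f) * u * f := by rw [ug]
      _ = P + δ := by rw [hP, hδ, add_mul, add_mul]
  have Dα : D * α = α * D := by
    rw [hα, ← mul_assoc, ← mul_assoc, De, mul_assoc e D u, Du, mul_assoc e, mul_assoc u D e, De]; noncomm_ring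
  have Dδ : D * δ = δ * D := by
    rw [hδ, ← mul_assoc, ← mul_assoc, Df, mul_assoc f D u, Du, mul_assoc f, mul_assoc u D f, Df]; noncomm_ring
  have DP : D * P = P * D := by
    rw [hP, ← mul_assoc, ← mul_assoc, De, mul_assoc e D u, Du, mul_assoc e, mul_assoc u D f, Df]; noncomm_ring
  have DQ : D * Q = Q * D := by
    rw [hQ, ← mul_assoc, ← mul_assoc, Df, mul_assoc f D u, Du, mul_assoc f, mul_assoc u D e, De]; noncomm_ring
  have Dα' := D'_comm Dα
  have Dδ' := D'_comm Dδ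
  have DP' := D'_comm DP
  have DQ' := D'_comm DQ
  have Hα : H * α = D * α := by
    calc H * α = H * (e * α) := by rw [eα]
      _ = D * (e * α) := by rw [← mul_assoc, He, mul_assoc]
      _ = D * α := by rw [eα]
  have HP : H * P = D * P := by
    calc H * P = H * (e * P) := by rw [eP]
      _ = D * (e * P) := by rw [← mul_assoc, He, mul_assoc]
      _ = D * P := by rw [eP]
  have Hδ : H * δ = δ := by
    calc H * δ = H * (f * δ) := by rw [fδ]
      _ = δ := by rw [← mul_assoc, Hf, fδ]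
  have HQ : H * Q = Q := by
    calc H * Q = H * (f * Q) := by rw [fQ]
      _ = Q := by rw [← mul_assoc, Hf, fQ]
  obtain ⟨v, hv⟩ : ∃ v, v = H * u * H' := ⟨_, rfl⟩
  rw [← hv] at comm hb₀
  have ve : v * e = α + D' * Q := by
    calc v * e = H * u * (H' * e) := by rw [hv, mul_assoc]
      _ = H * (u * D') * e := by rw [H'e]; noncomm_ring
      _ = (H * D') * (u * e) := by rw [← Du']; noncomm_ring
      _ = D' * (H * α + H * Q) := by rw [← DH1, ue]; noncomm_ring
      _ = D' * D * α + D' * Q := by rw [Hα, HQ]; noncomm_ring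
      _ = α + D' * Q := by rw [DD', one_mul]
  have vf : v * f = D * P + δ := by
    calc v * f = H * u * (H' * f) := by rw [hv, mul_assoc]
      _ = H * (u * f) := by rw [H'f, mul_assoc]
      _ = D * P + δ := by rw [uf, mul_add, HP, Hδ]
  have uα : u * α = α * α + Q * α := by
    calc u * α = (u * e) * α := by rw [mul_assoc, eα]
      _ = _ := by rw [ue, add_mul]
  have uQ : u * Q = P * Q + δ * Q := by
    calc u * Q = (u * f) * Q := by rw [mul_assoc, fQ]
      _ = _ := by rw [uf, add_mul]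
  have uP : u * P = α * P + Q * P := by
    calc u * P = (u * e) * P := by rw [mul_assoc, eP]
      _ = _ := by rw [ue, add_mul]
  have uδ : u * δ = P * δ + δ * δ := by
    calc u * δ = (u * f) * δ := by rw [mul_assoc, fδ]
      _ = _ := by rw [uf, add_mul]
  have vα : v * α = α * α + D' * (Q * α) := by
    calc v * α = (v * e) * α := by rw [mul_assoc, eα]
      _ = _ := by rw [ve, add_mul, mul_assoc]
  have vQ : v * Q = D * (P * Q) + δ * Q := by
    calc v * Q = (v * f) * Q := by rw [mul_assoc, fQ]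
      _ = _ := by rw [vf, add_mul, mul_assoc]
  have vP : v * P = α * P + D' * (Q * P) := by
    calc v * P = (v * e) * P := by rw [mul_assoc, eP]
      _ = _ := by rw [ve, add_mul, mul_assoc]
  have vδ : v * δ = D * (P * δ) + δ * δ := by
    calc v * δ = (v * f) * δ := by rw [mul_assoc, fδ]
      _ = _ := by rw [vf, add_mul, mul_assoc]
  have uve : u * v * e = (α * α + D' * (P * Q)) + (Q * α + D' * (δ * Q)) := by
    calc u * v * e = u * (v * e) := mul_assoc _ _ _
      _ = u * α + (u * D') * Q := by rw [ve, mul_add, mul_assoc]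
      _ = (α * α + Q * α) + D' * (P * Q + δ * Q) := by rw [uα, ← Du', mul_assoc, uQ]
      _ = _ := by rw [mul_add]; abel
  have vue : v * u * e = (α * α + D * (P * Q)) + (D' * (Q * α) + δ * Q) := by
    calc v * u * e = v * (u * e) := mul_assoc _ _ _
      _ = _ := by rw [ue, mul_add, vα, vQ]; abel
  have uvf : u * v * f = (D * (α * P) + P * δ) + (D * (Q * P) + δ * δ) := by
    calc u * v * f = u * (v * f) := mul_assoc _ _ _
      _ = (u * D) * P + u * δ := by rw [vf, mul_add, mul_assoc]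
      _ = D * (α * P + Q * P) + (P * δ + δ * δ) := by rw [← Du, mul_assoc, uP, uδ]
      _ = _ := by rw [mul_add]; abel
  have vuf : v * u * f = (α * P + D * (P * δ)) + (D' * (Q * P) + δ * δ) := by
    calc v * u * f = v * (u * f) := mul_assoc _ _ _
      _ = _ := by rw [uf, mul_add, vP, vδ]; abel
  have hcomm : u * v = v * u := comm
  rw [hcomm, vue] at uve
  rw [hcomm, vuf] at uvf
  -- projections
  have pe : ∀ {x y x' y' : R}, e * x = x → e * y = 0 → e * x' = x' → e * y' = 0 → x + y = x' + y' → x = x' := by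
    intro x y x' y' h1 h2 h3 h4 h
    have := congrArg (fun t => e * t) h
    simpa [mul_add, h1, h2, h3, h4] using this
  have pf : ∀ {x y x' y' : R}, f * x = 0 → f * y = y → f * x' = 0 → f * y' = y' → x + y = x' + y' → y = y' := by
    intro x y x' y' h1 h2 h3 h4 h
    have := congrArg (fun t => f * t) h
    simpa [mul_add, h1, h2, h3, h4] using this
  have E1 : ∀ x, e * x = x → e * (D * x) = D * x := by
    intro x hx; rw [← mul_assoc, ← De, mul_assoc, hx]
  have E1' : ∀ x, e * x = x → e * (D' * x) = D' * x := by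
    intro x hx; rw [← mul_assoc, ← De', mul_assoc, hx]
  have E0 : ∀ x, e * x = 0 → e * (D * x) = 0 := by
    intro x hx; rw [← mul_assoc, ← De, mul_assoc, hx, mul_zero]
  have E0' : ∀ x, e * x = 0 → e * (D' * x) = 0 := by
    intro x hx; rw [← mul_assoc, ← De', mul_assoc, hx, mul_zero]
  have F1 : ∀ x, f * x = x → f * (D * x) = D * x := by
    intro x hx; rw [← mul_assoc, ← Df, mul_assoc, hx]
  have F1' : ∀ x, f * x = x → f * (D' * x) = D' * x := by
    intro x hx; rw [← mul_assoc, ← Df', mul_assoc, hx]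
  have F0 : ∀ x, f * x = 0 → f * (D * x) = 0 := by
    intro x hx; rw [← mul_assoc, ← Df, mul_assoc, hx, mul_zero]
  have F0' : ∀ x, f * x = 0 → f * (D' * x) = 0 := by
    intro x hx; rw [← mul_assoc, ← Df', mul_assoc, hx, mul_zero]
  have mule : ∀ {x : R} (y : R), e * x = x → e * (x * y) = x * y := by
    intro x y hx; rw [← mul_assoc, hx]
  have mule0 : ∀ {x : R} (y : R), e * x = 0 → e * (x * y) = 0 := by
    intro x y hx; rw [← mul_assoc, hx, zero_mul]
  have mulf : ∀ {x : R} (y : R), f * x = x → f * (x * y) = x * y := by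
    intro x y hx; rw [← mul_assoc, hx]
  have mulf0 : ∀ {x : R} (y : R), f * x = 0 → f * (x * y) = 0 := by
    intro x y hx; rw [← mul_assoc, hx, zero_mul]
  have adde : ∀ {x y : R}, e * x = x → e * y = y → e * (x + y) = x + y := by
    intro x y hx hy; rw [mul_add, hx, hy]
  have adde0 : ∀ {x y : R}, e * x = 0 → e * y = 0 → e * (x + y) = 0 := by
    intro x y hx hy; rw [mul_add, hx, hy, add_zero]
  have addf : ∀ {x y : R}, f * x = x → f * y = y → f * (x + y) = x + y := by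
    intro x y hx hy; rw [mul_add, hx, hy]
  have addf0 : ∀ {x y : R}, f * x = 0 → f * y = 0 → f * (x + y) = 0 := by
    intro x y hx hy; rw [mul_add, hx, hy, add_zero]
  -- the four equations
  have q1 : α * α + D * (P * Q) = α * α + D' * (P * Q) :=
    pe (adde (mule _ eα) (E1 _ (mule _ eP))) (adde0 (E0' _ (mule0 _ eQ)) (mule0 _ eδ))
      (adde (mule _ eα) (E1' _ (mule _ eP))) (adde0 (mule0 _ eQ) (E0' _ (mule0 _ eδ))) uve
  have q2 : D' * (Q * α) + δ * Q = Q * α + D' * (δ * Q) :=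
    pf (addf0 (mulf0 _ fα) (F0 _ (mulf0 _ fP))) (addf (F1' _ (mulf _ fQ)) (mulf _ fδ))
      (addf0 (mulf0 _ fα) (F0' _ (mulf0 _ fP))) (addf (mulf _ fQ) (F1' _ (mulf _ fδ))) uve
  have q3 : α * P + D * (P * δ) = D * (α * P) + P * δ :=
    pe (adde (mule _ eα) (E1 _ (mule _ eP))) (adde0 (E0' _ (mule0 _ eQ)) (mule0 _ eδ))
      (adde (E1 _ (mule _ eα)) (mule _ eP)) (adde0 (E0 _ (mule0 _ eQ)) (mule0 _ eδ)) uvf
  have q4 : D' * (Q * P) + δ * δ = D * (Q * P) + δ * δ :=
    pf (addf0 (mulf0 _ fα) (F0 _ (mulf0 _ fP))) (addf (F1' _ (mulf _ fQ)) (mulf _ fδ))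
      (addf0 (F0 _ (mulf0 _ fα)) (mulf0 _ fP)) (addf (F1 _ (mulf _ fQ)) (mulf _ fδ)) uvf
  have PQ : P * Q = 0 := by
    refine ce2 _ (mule _ eP) ?_
    rw [add_left_cancel q1, ← mul_assoc, DD, one_mul]
  have QP : Q * P = 0 := by
    refine cf2 _ (mulf _ fQ) ?_
    rw [← add_right_cancel q4, ← mul_assoc, DD, one_mul]
  have Qα : Q * α = δ * Q := by
    refine eq_of_add h2 (cf _ (addf (mulf _ fQ) (mulf _ fδ)) ?_)
    have h3 : D * (D' * (Q * α) + δ * Q) = D * (Q * α + D' * (δ * Q)) := by rw [q2]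
    rw [mul_add, mul_add, ← mul_assoc D D', ← mul_assoc D D', DD, one_mul, one_mul] at h3
    -- Qα + D(δQ) = D(Qα) + δQ
    rw [mul_add]
    have h4 := h2 (D * (δ * Q))
    have h5 := h2 (δ * Q)
    calc D * (Q * α) + D * (δ * Q) = D * (Q * α) + δ * Q + (δ * Q + D * (δ * Q)) := by
          rw [add_assoc (D * (Q * α)), ← add_assoc (δ * Q), h5, zero_add]
      _ = Q * α + D * (δ * Q) + (δ * Q + D * (δ * Q)) := by rw [h3]
      _ = Q * α + δ * Q + (D * (δ * Q) + D * (δ * Q)) := by abel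
      _ = Q * α + δ * Q := by rw [h4, add_zero]
  have αP : α * P = P * δ := by
    refine eq_of_add h2 (ce _ (adde (mule _ eα) (mule _ eP)) ?_)
    rw [mul_add]
    have h4 := h2 (D * (P * δ))
    have h5 := h2 (P * δ)
    calc D * (α * P) + D * (P * δ) = D * (α * P) + P * δ + (P * δ + D * (P * δ)) := by
          rw [add_assoc (D * (α * P)), ← add_assoc (P * δ), h5, zero_add]
      _ = α * P + D * (P * δ) + (P * δ + D * (P * δ)) := by rw [q3]
      _ = α * P + P * δ + (D * (P * δ) + D * (P * δ)) := by abel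
      _ = α * P + P * δ := by rw [h4, add_zero]
  have αα : α * α = e := by
    have h3 : (α * α + P * Q) + (Q * α + δ * Q) = e + 0 := by
      calc (α * α + P * Q) + (Q * α + δ * Q) = u * α + u * Q := by rw [uα, uQ]; abel
        _ = u * (u * e) := by rw [ue, mul_add]
        _ = e + 0 := by rw [← mul_assoc, uu, one_mul, add_zero]
    have h4 := pe (adde (mule _ eα) (mule _ eP)) (adde0 (mule0 _ eQ) (mule0 _ eδ)) ee (mul_zero e) h3
    rw [PQ, add_zero] at h4
    exact h4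
  have δδ : δ * δ = f := by
    have h3 : (α * P + P * δ) + (Q * P + δ * δ) = 0 + f := by
      calc (α * P + P * δ) + (Q * P + δ * δ) = u * P + u * δ := by rw [uP, uδ]; abel
        _ = u * (u * f) := by rw [uf, mul_add]
        _ = 0 + f := by rw [← mul_assoc, uu, one_mul, zero_add]
    have h4 := pf (addf0 (mulf0 _ fα) (mulf0 _ fP)) (addf (mulf _ fQ) (mulf _ fδ)) (mul_zero f) ff h3
    rw [QP, zero_add] at h4
    exact h4
  -- the new element
  have b₀v : b₀ = u * v := hb₀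
  obtain ⟨Q₁, hQ₁⟩ : ∃ Q₁, Q₁ = (1 + D') * (Q * α) := ⟨_, rfl⟩
  obtain ⟨P₁, hP₁⟩ : ∃ P₁, P₁ = (1 + D) * (α * P) := ⟨_, rfl⟩
  have b₀e : b₀ * e = e + Q₁ := by
    rw [b₀v, hcomm, vue, PQ, mul_zero, add_zero, αα, ← Qα, hQ₁, add_mul, one_mul]
    abel
  have b₀f : b₀ * f = f + P₁ := by
    rw [b₀v, hcomm, vuf, QP, mul_zero, zero_add, δδ, ← αP, hP₁, add_mul, one_mul]
    abel
  have fQ₁ : f * Q₁ = Q₁ := by
    rw [hQ₁, add_mul, one_mul]
    exact addf (mulf _ fQ) (F1' _ (mulf _ fQ))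
  have eP₁ : e * P₁ = P₁ := by
    rw [hP₁, add_mul, one_mul]
    exact adde (mule _ eα) (E1 _ (mule _ eα))
  have PQ₁ : P₁ * Q₁ = 0 := by
    calc P₁ * Q₁ = (1 + D) * α * (P * (1 + D')) * (Q * α) := by rw [hP₁, hQ₁]; noncomm_ring
      _ = (1 + D) * α * ((1 + D') * P) * (Q * α) := by
          rw [show P * (1 + D') = (1 + D') * P by rw [mul_add, add_mul, mul_one, one_mul, DP']]
      _ = (1 + D) * α * (1 + D') * (P * Q) * α := by noncomm_ring
      _ = 0 := by rw [PQ, mul_zero, zero_mul]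
  have QP₁ : Q₁ * P₁ = 0 := by
    calc Q₁ * P₁ = (1 + D') * Q * (α * (1 + D)) * (α * P) := by rw [hP₁, hQ₁]; noncomm_ring
      _ = (1 + D') * Q * ((1 + D) * α) * (α * P) := by
          rw [show α * (1 + D) = (1 + D) * α by rw [mul_add, add_mul, mul_one, one_mul, Dα]]
      _ = (1 + D') * (Q * (1 + D)) * ((α * α) * P) := by noncomm_ring
      _ = (1 + D') * ((1 + D) * Q) * P := by
          rw [αα, eP, show Q * (1 + D) = (1 + D) * Q by rw [mul_add, add_mul, mul_one, one_mul, DQ]]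
      _ = (1 + D') * (1 + D) * (Q * P) := by noncomm_ring
      _ = 0 := by rw [QP, mul_zero]
  have Dv : D * v = v * D := by
    calc D * v = (D * H) * u * H' := by rw [hv]; noncomm_ring
      _ = H * (D * u) * H' := by rw [DH]; noncomm_ring
      _ = H * u * (D * H') := by rw [Du]; noncomm_ring
      _ = v * D := by rw [DH', hv]; noncomm_ring
  have Db₀ : D * b₀ = b₀ * D := by
    calc D * b₀ = (D * u) * v := by rw [b₀v]; noncomm_ring
      _ = u * (D * v) := by rw [Du]; noncomm_ring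
      _ = b₀ * D := by rw [Dv, b₀v]; noncomm_ring
  have Db₀' := D'_comm Db₀
  have HQ₁ : H * Q₁ = Q₁ := by
    calc H * Q₁ = H * (f * Q₁) := by rw [fQ₁]
      _ = Q₁ := by rw [← mul_assoc, Hf, fQ₁]
  have HP₁ : H * P₁ = D * P₁ := by
    calc H * P₁ = H * (e * P₁) := by rw [eP₁]
      _ = D * (e * P₁) := by rw [← mul_assoc, He, mul_assoc]
      _ = D * P₁ := by rw [eP₁]
  have b₁e : b₁ * e = e + D' * Q₁ := by
    calc b₁ * e = H * b₀ * (H' * e) := by rw [hb₁, mul_assoc]
      _ = H * (b₀ * D') * e := by rw [H'e]; noncomm_ring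
      _ = (H * D') * (b₀ * e) := by rw [← Db₀']; noncomm_ring
      _ = D' * (H * e + H * Q₁) := by rw [← DH1, b₀e]; noncomm_ring
      _ = (D' * D) * e + D' * Q₁ := by rw [He, HQ₁]; noncomm_ring
      _ = e + D' * Q₁ := by rw [DD', one_mul]
  have b₁f : b₁ * f = f + D * P₁ := by
    calc b₁ * f = H * b₀ * (H' * f) := by rw [hb₁, mul_assoc]
      _ = H * (b₀ * f) := by rw [H'f, mul_assoc]
      _ = f + D * P₁ := by rw [b₀f, mul_add, Hf, HP₁]
  have b₀Q₁ : b₀ * Q₁ = Q₁ := by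
    calc b₀ * Q₁ = (b₀ * f) * Q₁ := by rw [mul_assoc, fQ₁]
      _ = Q₁ := by rw [b₀f, add_mul, fQ₁, PQ₁, add_zero]
  have b₀P₁ : b₀ * P₁ = P₁ := by
    calc b₀ * P₁ = (b₀ * e) * P₁ := by rw [mul_assoc, eP₁]
      _ = P₁ := by rw [b₀e, add_mul, eP₁, QP₁, add_zero]
  have N₀e : (1 + b₀) * e = Q₁ := by
    rw [add_mul, one_mul, b₀e, ← add_assoc, h2, zero_add]
  have N₀f : (1 + b₀) * f = P₁ := by
    rw [add_mul, one_mul, b₀f, ← add_assoc, h2, zero_add]
  have ug' : u * (1 + (e + f)) = (1 + (e + f)) * u := by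
    rw [mul_add, add_mul, mul_one, one_mul, ug]
  have vg : v * (1 + (e + f)) = u * (1 + (e + f)) := by
    calc v * (1 + (e + f)) = H * u * (H' * (1 + (e + f))) := by rw [hv, mul_assoc]
      _ = H * (u * (1 + (e + f))) := by rw [H'g, mul_assoc]
      _ = (H * (1 + (e + f))) * u := by rw [ug', mul_assoc]
      _ = u * (1 + (e + f)) := by rw [Hg, ug']
  have b₀g : b₀ * (1 + (e + f)) = 1 + (e + f) := by
    rw [b₀v, mul_assoc, vg, ← mul_assoc, uu, one_mul]
  have b₁g : b₁ * (1 + (e + f)) = 1 + (e + f) := by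
    calc b₁ * (1 + (e + f)) = H * b₀ * (H' * (1 + (e + f))) := by rw [hb₁, mul_assoc]
      _ = 1 + (e + f) := by rw [H'g, mul_assoc, b₀g, Hg]
  refine ⟨⟨?_, ?_⟩, ⟨?_, ?_⟩, ⟨?_, ?_, ?_⟩, Db₀⟩
  · rw [N₀e, add_mul, one_mul, b₁e, ← add_assoc, h2, zero_add]
  · rw [N₀f, add_mul, one_mul, b₁f, ← add_assoc, h2, zero_add]
  · rw [N₀e, add_mul, one_mul, mul_assoc, b₁e, mul_add, b₀e, ← mul_assoc b₀ D', ← Db₀', mul_assoc D', b₀Q₁]
    rw [add_mul, one_mul, ← add_assoc, ← add_assoc, h2, zero_add]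
  · rw [N₀f, add_mul, one_mul, mul_assoc, b₁f, mul_add, b₀f, ← mul_assoc b₀ D, ← Db₀, mul_assoc D, b₀P₁]
    rw [add_mul, one_mul, ← add_assoc, ← add_assoc, h2, zero_add]
  · rw [add_mul, one_mul, b₀g, h2]
  · rw [add_mul, one_mul, b₁g, h2]
  · rw [add_mul, one_mul, mul_assoc, b₁g, b₀g, h2]

end Cfsg.Agent.Omega.ThmC.Four

end

section


/-!
# THEOREM C, case `q ≥ 4` (bb OMEGA 16418, helper522): the coprime lemma

Commuting elements `h l` of order dividing the odd prime `p` normalise the `2`-group `W ≠ 1` and have no common fixed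
point on `W`: for one `a`, all the `h l * (h a ^ n l)⁻¹` have a common fixed point `w ≠ 1` in `W`.
-/

set_option autoImplicit false

namespace Cfsg.Agent.Omega.ThmC.Four

open Subgroup

/-- in an elementary abelian `p`-group `H`, an element outside of a hyperplane `B` generates `H` modulo `B` -/
theorem exists_pow_mem {N : Type*} [Group N] [Finite N] {p : ℕ} (hp : p.Prime) {H B : Subgroup N}
    (hc : ∀ x ∈ H, ∀ y ∈ H, x * y = y * x) (hi : B.relIndex H = p) {x y : N} (hx : x ∈ H)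
    (hy : y ∈ H) (hyB : y ∉ B) : ∃ n : ℕ, x * (y ^ n)⁻¹ ∈ B := by
  have : Fact p.Prime := ⟨hp⟩
  have hn : (B.subgroupOf H).Normal := ⟨fun b hb g => by
    rw [mem_subgroupOf] at hb ⊢
    have h1 : ((g * b * g⁻¹ : H) : N) = b := by
      rw [coe_mul, coe_mul, coe_inv, hc _ g.2 _ b.2, mul_inv_cancel_right]
    rw [h1]; exact hb⟩
  have hcard : Nat.card (H ⧸ B.subgroupOf H) = p := by
    rw [← Subgroup.index_eq_card]
    exact hi
  have hy1 : (QuotientGroup.mk (⟨y, hy⟩ : H) : H ⧸ B.subgroupOf H) ≠ 1 := by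
    rw [Ne, QuotientGroup.eq_one_iff, mem_subgroupOf]
    exact hyB
  obtain ⟨n, hn⟩ := mem_powers_of_prime_card (g' := (QuotientGroup.mk (⟨x, hx⟩ : H) : H ⧸ B.subgroupOf H))
    hcard hy1
  refine ⟨n, ?_⟩
  have h2 : (QuotientGroup.mk ((⟨x, hx⟩ : H) * ((⟨y, hy⟩ : H) ^ n)⁻¹) : H ⧸ B.subgroupOf H) = 1 := by
    rw [QuotientGroup.mk_mul, QuotientGroup.mk_inv, QuotientGroup.mk_pow]
    rw [← hn]
    exact mul_inv_cancel _
  rw [QuotientGroup.eq_one_iff, mem_subgroupOf] at h2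
  exact h2

theorem exists_hyperplane {N : Type*} [Group N] [Finite N] {p : ℕ} (hp : p.Prime) (hp2 : p ≠ 2) {k : ℕ}
    {h : Fin k → N} (hc : ∀ l m, h l * h m = h m * h l) (hpow : ∀ l, h l ^ p = 1) {W : Subgroup N}
    (hW : IsPGroup 2 W) (hne : W ≠ ⊥) (hn : ∀ l, h l ∈ normalizer (W : Set N))
    (hfix : ∀ w ∈ W, (∀ l, w * h l = h l * w) → w = 1) :
    ∃ (a : Fin k) (n : Fin k → ℕ), n a = 1 ∧ ∃ w ∈ W, w ≠ 1 ∧
      ∀ l, w * (h l * (h a ^ n l)⁻¹) = (h l * (h a ^ n l)⁻¹) * w := by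
  classical
  have : Fact p.Prime := ⟨hp⟩
  set H : Subgroup N := closure (Set.range h) with hH
  have hhH : ∀ l, h l ∈ H := fun l => subset_closure ⟨l, rfl⟩
  have hcen : H ≤ centralizer (Set.range h) := by
    rw [hH, closure_le]
    rintro _ ⟨l, rfl⟩
    rw [SetLike.mem_coe, mem_centralizer_iff]
    rintro _ ⟨m, rfl⟩
    exact hc m l
  have hcen2 : H ≤ centralizer (H : Set N) := by
    conv_lhs => rw [hH]
    rw [closure_le]
    rintro _ ⟨l, rfl⟩
    rw [SetLike.mem_coe, mem_centralizer_iff]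
    intro x hx
    exact (mem_centralizer_iff.1 (hcen hx) (h l) ⟨l, rfl⟩).symm
  have hcomm : ∀ x ∈ H, ∀ y ∈ H, x * y = y * x := fun x hx y hy =>
    mem_centralizer_iff.1 (hcen2 hy) x hx
  have hHp : ∀ x ∈ H, x ^ p = 1 := by
    intro x hx
    induction hx using closure_induction with
    | mem x hx => obtain ⟨l, rfl⟩ := hx; exact hpow l
    | one => exact one_pow p
    | mul x y hx hy h1 h2 => rw [(show Commute x y from hcomm x hx y hy).mul_pow, h1, h2, one_mul]
    | inv x hx h1 => rw [inv_pow, h1, inv_one]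
  have hel : Cfsg.IsElementaryAbelian p H :=
    ⟨⟨⟨fun a b => Subtype.ext (hcomm a a.2 b b.2)⟩⟩, hHp⟩
  have hHn : H ≤ normalizer (W : Set N) := by
    rw [hH, closure_le]
    rintro _ ⟨l, rfl⟩
    exact hn l
  have hH1 : H ≠ ⊥ := by
    intro h1
    apply hne
    rw [eq_bot_iff]
    intro w hw
    rw [mem_bot]
    refine hfix w hw fun l => ?_
    have h2 : h l = 1 := by
      have := hhH l
      rwa [h1, mem_bot] at this
    rw [h2, one_mul, mul_one]
  have hpW : ¬ p ∣ Nat.card W := by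
    obtain ⟨n, hn⟩ := IsPGroup.iff_card.1 hW
    rw [hn]
    intro h1
    exact hp2 ((Nat.prime_dvd_prime_iff_eq hp Nat.prime_two).1 (hp.dvd_of_dvd_pow h1))
  have hgen := Cfsg.Agent.Lib.CoprimeHyperplane.iSup_centralizer_hyperplane hel hH1 hpW hHn
  obtain ⟨B, hB⟩ : ∃ B : {B : Subgroup N // B ≤ H ∧ B.relIndex H = p},
      W ⊓ centralizer ((B : Subgroup N) : Set N) ≠ ⊥ := by
    by_contra h1
    push Not at h1
    apply hne
    rw [← hgen, iSup_eq_bot]
    exact h1
  obtain ⟨B, hBH, hBi⟩ := B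
  obtain ⟨w, hw, hw1⟩ := (Subgroup.bot_or_exists_ne_one _).resolve_left hB
  obtain ⟨hwW, hwB⟩ := mem_inf.1 hw
  obtain ⟨a, ha⟩ : ∃ a, h a ∉ B := by
    by_contra h1
    push Not at h1
    exact hw1 (hfix w hwW fun l => (mem_centralizer_iff.1 hwB (h l) (h1 l)).symm)
  have hex : ∀ l, ∃ n : ℕ, (l = a → n = 1) ∧ h l * (h a ^ n)⁻¹ ∈ B := by
    intro l
    by_cases hla : l = a
    · refine ⟨1, fun _ => rfl, ?_⟩
      rw [hla, pow_one, mul_inv_cancel]
      exact B.one_mem
    · obtain ⟨n, hn⟩ := exists_pow_mem hp hcomm hBi (hhH l) (hhH a) ha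
      exact ⟨n, fun h => absurd h hla, hn⟩
  choose n hn1 hn2 using hex
  exact ⟨a, n, hn1 a rfl, w, hwW, hw1, fun l => (mem_centralizer_iff.1 hwB _ (hn2 l)).symm⟩

end Cfsg.Agent.Omega.ThmC.Four

end
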