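import Cfsg.Agent.Mrg.Omega.ThmC.FourDat
import Cfsg.Agent.Mrg.Omega.ThmC.FourCore

section


/-!
# THEOREM C, case `q ≥ 4`, (3): the theorem in `N = N_G(E) / C_G(E)`

`Abs.main` : a 2-subgroup of `N` normalised by the `h l` and by the elements of `S` which normalise every `⟨h l⟩` is
trivial.
-/

set_option autoImplicit false
set_option linter.unusedSectionVars false
set_option linter.unusedVariables false

namespace Cfsg.Agent.Omega.ThmC.Four

open Subgroup Cfsg

universe u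

namespace Abs

variable {N A : Type u} [Group N] [Finite N] [AddCommGroup A] [Finite A] {ρ : N →* AddMonoid.End A}
  {S : Sylow 2 N} {k : ℕ} {h : Fin k → N} {Z : Fin k → AddSubgroup A} {p : ℕ}

/-! ### (3)(a) -/

/-- The elements of `N` which commute with all `eps l`. -/
def stabC (ρ : N →* AddMonoid.End A) (h : Fin k → N) : Subgroup N where
  carrier := {n | ∀ l, ρ n * eps ρ h l = eps ρ h l * ρ n}
  one_mem' := fun l => by rw [map_one, one_mul, mul_one]
  mul_mem' := by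
    intro a b ha hb l
    rw [map_mul, mul_assoc, hb l, ← mul_assoc, ha l, mul_assoc]
  inv_mem' := by
    intro a ha l
    have h1 : ρ a⁻¹ * ρ a = 1 := by rw [← map_mul, inv_mul_cancel, map_one]
    have h2 : ρ a * ρ a⁻¹ = 1 := by rw [← map_mul, mul_inv_cancel, map_one]
    calc ρ a⁻¹ * eps ρ h l = ρ a⁻¹ * eps ρ h l * (ρ a * ρ a⁻¹) := by rw [h2, mul_one]
      _ = ρ a⁻¹ * (eps ρ h l * ρ a) * ρ a⁻¹ := by noncomm_ring
      _ = ρ a⁻¹ * (ρ a * eps ρ h l) * ρ a⁻¹ := by rw [ha l]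
      _ = (ρ a⁻¹ * ρ a) * eps ρ h l * ρ a⁻¹ := by noncomm_ring
      _ = eps ρ h l * ρ a⁻¹ := by rw [h1, one_mul]

theorem mem_stabC {n : N} : n ∈ stabC ρ h ↔ ∀ l, ρ n * eps ρ h l = eps ρ h l * ρ n := Iff.rfl

theorem perm_eq (d : Abs ρ S h Z p) {s : N} {σ : Equiv.Perm (Fin k)} (hs : Perm h s σ) {l : Fin k}
    (hc : ρ s * eps ρ h l = eps ρ h l * ρ s) : σ l = l := by
  by_contra hne
  have h2 : ρ s * ρ s⁻¹ = 1 := by rw [← map_mul, mul_inv_cancel, map_one]
  have h1 : eps ρ h (σ l) = eps ρ h l := by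
    calc eps ρ h (σ l) = eps ρ h (σ l) * ρ s * ρ s⁻¹ := by rw [mul_assoc, h2, mul_one]
      _ = eps ρ h l * ρ s * ρ s⁻¹ := by rw [← conj_eps hs, hc]
      _ = eps ρ h l := by rw [mul_assoc, h2, mul_one]
  obtain ⟨a, ha⟩ := d.eps_ne l
  apply ha
  have h3 := d.eps_orth hne
  rw [h1, d.eps_idem] at h3
  rw [h3]
  rfl

theorem S_le_normalizer (d : Abs ρ S h Z p) : (S : Subgroup N) ≤ normalizer (stabC ρ h : Set N) := by
  have key : ∀ s ∈ (S : Subgroup N), ∀ n ∈ stabC ρ h, s * n * s⁻¹ ∈ stabC ρ h := by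
    intro s hs n hn l
    obtain ⟨σ, hσ⟩ := d.perm s hs
    obtain ⟨τ, hτ⟩ := d.perm s⁻¹ (inv_mem hs)
    have h1 : σ (τ l) = l := by
      have := d.perm_eq (Perm.mul hσ hτ) (l := l) (by rw [mul_inv_cancel, map_one, one_mul, mul_one])
      exact this
    have h2 : ρ s⁻¹ * eps ρ h l = eps ρ h (τ l) * ρ s⁻¹ := conj_eps hτ l
    have h3 : ρ s * eps ρ h (τ l) = eps ρ h l * ρ s := by rw [conj_eps hσ, h1]
    calc ρ (s * n * s⁻¹) * eps ρ h l = ρ s * ρ n * (ρ s⁻¹ * eps ρ h l) := by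
          rw [map_mul, map_mul]; noncomm_ring
      _ = ρ s * (ρ n * eps ρ h (τ l)) * ρ s⁻¹ := by rw [h2]; noncomm_ring
      _ = (ρ s * eps ρ h (τ l)) * ρ n * ρ s⁻¹ := by rw [hn]; noncomm_ring
      _ = eps ρ h l * ρ (s * n * s⁻¹) := by rw [h3, map_mul, map_mul]; noncomm_ring
  intro s hs
  rw [mem_normalizer_iff]
  intro n
  refine ⟨key s hs n, fun hn => ?_⟩
  have := key s⁻¹ (inv_mem hs) _ hn
  simpa [mul_assoc] using this

/-- (3)(a) -/
theorem mem_S (d : Abs ρ S h Z p) {W : Subgroup N} (hW : IsPGroup 2 W)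
    (hSW : ∀ s ∈ (S : Subgroup N), (∀ l, ∃ r : ℕ, s * h l * s⁻¹ = h l ^ r) → s ∈ normalizer (W : Set N))
    {w : N} (hw : w ∈ W) (hc : w ∈ stabC ρ h) : w ∈ (S : Subgroup N) := by
  set T : Subgroup N := (S : Subgroup N) ⊓ stabC ρ h with hT
  have hTN : T ≤ normalizer ((W ⊓ stabC ρ h : Subgroup N) : Set N) := by
    rintro s ⟨hs, hs0⟩
    have h1 : s ∈ normalizer (W : Set N) := by
      refine hSW s hs fun l => ?_
      obtain ⟨σ, hσ⟩ := d.perm s hs
      obtain ⟨r, hr⟩ := hσ l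
      exact ⟨r, by rw [hr, d.perm_eq hσ (hs0 l)]⟩
    have h2 := d.S_le_normalizer hs
    rw [mem_normalizer_iff] at h1 h2 ⊢
    intro n
    exact ⟨fun hn => ⟨(h1 n).1 hn.1, (h2 n).1 hn.2⟩, fun hn => ⟨(h1 n).2 hn.1, (h2 n).2 hn.2⟩⟩
  have hT2 : IsPGroup 2 T := S.isPGroup'.to_le inf_le_left
  have hW2 : IsPGroup 2 (W ⊓ stabC ρ h : Subgroup N) := hW.to_le inf_le_left
  have hsup : IsPGroup 2 (T ⊔ (W ⊓ stabC ρ h) : Subgroup N) := hT2.to_sup_of_normal_right' hW2 hTN
  have hle : T ⊔ (W ⊓ stabC ρ h) ≤ stabC ρ h := sup_le inf_le_right inf_le_right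
  obtain ⟨x, hx, hxS⟩ := exists_conj_le (S := S) (M := normalizer (stabC ρ h : Set N)) d.S_le_normalizer hsup
    (hle.trans le_normalizer)
  have h3 : (T ⊔ (W ⊓ stabC ρ h)).map (MulAut.conj x).toMonoidHom ≤ T := by
    rintro _ ⟨t, ht, rfl⟩
    exact ⟨hxS t ht, (mem_normalizer_iff.1 hx t).1 (hle ht)⟩
  have h4 : Nat.card ↥(T ⊔ (W ⊓ stabC ρ h)) ≤ Nat.card T := by
    rw [← card_map_conj (T ⊔ (W ⊓ stabC ρ h)) x]
    exact Subgroup.card_le_of_le h3
  have h5 : T = T ⊔ (W ⊓ stabC ρ h) := eq_of_le_of_card_ge le_sup_left h4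
  have h6 : w ∈ T := by
    rw [h5]
    exact mem_sup_right ⟨hw, hc⟩
  exact h6.1

/-- An element of `W` which commutes with all `eps l` is trivial. -/
theorem eq_one_of_eps (d : Abs ρ S h Z p) {W : Subgroup N} (hW : IsPGroup 2 W)
    (hh : ∀ l, h l ∈ normalizer (W : Set N))
    (hSW : ∀ s ∈ (S : Subgroup N), (∀ l, ∃ r : ℕ, s * h l * s⁻¹ = h l ^ r) → s ∈ normalizer (W : Set N))
    {w : N} (hw : w ∈ W) (hc : ∀ l, ρ w * eps ρ h l = eps ρ h l * ρ w) : w = 1 := by
  have hwS : w ∈ (S : Subgroup N) := d.mem_S hW hSW hw hc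
  obtain ⟨σ, hσ⟩ := d.perm w hwS
  refine d.field w hwS fun l => ?_
  obtain ⟨r, hr⟩ := hσ l
  rw [d.perm_eq hσ (hc l)] at hr
  have h1 : w * (h l * w⁻¹ * (h l)⁻¹) ∈ W :=
    mul_mem hw ((mem_normalizer_iff.1 (hh l) w⁻¹).1 (inv_mem hw))
  have h2 : w * (h l * w⁻¹ * (h l)⁻¹) = h l ^ r * (h l)⁻¹ := by rw [← hr]; group
  have h3 : (w * (h l * w⁻¹ * (h l)⁻¹)) ^ p = 1 := by
    rw [h2]
    exact d.DD_pow _ (mul_mem (pow_mem (h_mem_DD h l) r) (inv_mem (h_mem_DD h l)))
  have h4 : w * (h l * w⁻¹ * (h l)⁻¹) = 1 := by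
    obtain ⟨n, hn⟩ := hW ⟨_, h1⟩
    have h5 : (w * (h l * w⁻¹ * (h l)⁻¹)) ^ 2 ^ n = 1 := congrArg Subtype.val hn
    have h6 : orderOf (w * (h l * w⁻¹ * (h l)⁻¹)) ∣ Nat.gcd p (2 ^ n) :=
      Nat.dvd_gcd (orderOf_dvd_of_pow_eq_one h3) (orderOf_dvd_of_pow_eq_one h5)
    have h7 : Nat.Coprime p (2 ^ n) :=
      Nat.Coprime.pow_right n ((Nat.coprime_primes d.prime Nat.prime_two).2 d.odd)
    rw [h7.gcd_eq_one] at h6
    exact orderOf_eq_one_iff.1 (Nat.dvd_one.1 h6)
  calc w * h l = w * (h l * w⁻¹ * (h l)⁻¹) * h l * w := by group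
    _ = h l * w := by rw [h4, one_mul]

/-! ### (3)(b) -/

theorem fix_rest (d : Abs ρ S h Z p) {l a : Fin k} (hla : l ≠ a) {T : AddMonoid.End A}
    (hT : ∀ m, m ≠ l → m ≠ a → T * eps ρ h m = eps ρ h m) :
    T * (1 + (eps ρ h l + eps ρ h a)) = 1 + (eps ρ h l + eps ρ h a) := by
  classical
  have h1 : (1 : AddMonoid.End A) + (eps ρ h l + eps ρ h a) = ∑ m ∈ (Finset.univ.erase l).erase a, eps ρ h m := by
    have h2 : (1 : AddMonoid.End A) = eps ρ h l + (eps ρ h a + ∑ m ∈ (Finset.univ.erase l).erase a, eps ρ h m) := by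
      rw [Finset.add_sum_erase _ _ (Finset.mem_erase.2 ⟨hla.symm, Finset.mem_univ a⟩),
        Finset.add_sum_erase _ _ (Finset.mem_univ l), d.sum_eps]
    calc (1 : AddMonoid.End A) + (eps ρ h l + eps ρ h a)
        = (eps ρ h l + eps ρ h l) + (eps ρ h a + eps ρ h a) +
          ∑ m ∈ (Finset.univ.erase l).erase a, eps ρ h m := by
          conv_lhs => rw [h2]
          abel
      _ = _ := by rw [d.add_self', d.add_self', zero_add, zero_add]
  rw [h1, Finset.mul_sum]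
  refine Finset.sum_congr rfl fun m hm => ?_
  rw [Finset.mem_erase, Finset.mem_erase] at hm
  exact hT m hm.2.1 hm.1

theorem h_eps_apply (d : Abs ρ S h Z p) {l m : Fin k} (hml : m ≠ l) {c : A} (hc : eps ρ h l c = c) :
    ρ (h m) c = c := by
  have := congrArg (fun T : AddMonoid.End A => T c) (d.h_mul_eps hml)
  change ρ (h m) (eps ρ h l c) = eps ρ h l c at this
  rwa [hc] at this

theorem mem_zpowers_pow (d : Abs ρ S h Z p) {a : Fin k} {n : ℕ} (hn : ¬ p ∣ n) : h a ∈ zpowers (h a ^ n) := by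
  have hcop : Nat.Coprime n p := ((Nat.Prime.coprime_iff_not_dvd d.prime).2 hn).symm
  obtain ⟨m, hm⟩ := exists_pow_eq_self_of_coprime (x := h a) (n := n) (by rw [d.orderOf_h]; exact hcop)
  exact ⟨m, by change (h a ^ n) ^ (m : ℤ) = h a; rw [zpow_natCast, hm]⟩

theorem pow_eps_apply (d : Abs ρ S h Z p) {l a : Fin k} (hla : a ≠ l) (n : ℕ) {c : A} (hc : eps ρ h l c = c) :
    ρ (h a ^ n) c = c :=
  pow_fix (d.h_eps_apply hla hc) ⟨n, zpow_natCast _ _⟩

theorem inv_apply {x : N} {c : A} (hx : ρ x c = c) : ρ x⁻¹ c = c := pow_fix hx ⟨-1, zpow_neg_one _⟩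

theorem inv_apply' {x : N} {c : A} (hx : ρ x⁻¹ c = c) : ρ x c = c := by
  have := inv_apply (ρ := ρ) hx
  rwa [inv_inv] at this

/-- `h l (h a ^ n)⁻¹` is fixed-point-free on `C_l`. -/
theorem fpf_pair (d : Abs ρ S h Z p) {l a : Fin k} (hla : l ≠ a) {n : ℕ} {c : A}
    (hc : eps ρ h l c = c) (hx : ρ (h l * (h a ^ n)⁻¹) c = c) : c = 0 := by
  refine d.fpf' hc ?_
  rw [rho_mul, inv_apply (d.pow_eps_apply hla.symm n hc)] at hx
  exact hx

/-- `h l (h a ^ n)⁻¹` is fixed-point-free on `C_a`. -/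
theorem fpf_pair' (d : Abs ρ S h Z p) {l a : Fin k} (hla : l ≠ a) {n : ℕ} (hn : ¬ p ∣ n) {c : A}
    (hc : eps ρ h a c = c) (hx : ρ (h l * (h a ^ n)⁻¹) c = c) : c = 0 := by
  have h1 : h l * (h a ^ n)⁻¹ = (h a ^ n)⁻¹ * h l :=
    d.DD_comm _ (h_mem_DD h l) _ (inv_mem (pow_mem (h_mem_DD h a) n))
  rw [h1, rho_mul, d.h_eps_apply hla hc] at hx
  exact d.fpf' hc (pow_fix (inv_apply' hx) (d.mem_zpowers_pow hn))

theorem pair_mem_DD (l a : Fin k) (n : ℕ) : h l * (h a ^ n)⁻¹ ∈ DD h :=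
  mul_mem (h_mem_DD h l) (inv_mem (pow_mem (h_mem_DD h a) n))

theorem eps_pair (d : Abs ρ S h Z p) {l a : Fin k} (hla : l ≠ a) {n : ℕ} (hn : ¬ p ∣ n) :
    eps ρ h l + eps ρ h a = 1 + avg ρ (zpowers (h l * (h a ^ n)⁻¹)) := by
  set x := h l * (h a ^ n)⁻¹ with hx
  have hxD : x ∈ DD h := pair_mem_DD l a n
  have hXD : zpowers x ≤ DD h := zpowers_le.2 hxD
  have hcomm : ∀ m, avg ρ (zpowers x) * eps ρ h m = eps ρ h m * avg ρ (zpowers x) := fun m =>
    (commute_avg ρ fun y hy => (d.commute_DD (hXD hy) m).symm).symm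
  have hfix : ∀ c, ρ x (avg ρ (zpowers x) c) = avg ρ (zpowers x) c := fun c =>
    fix_avg_apply ρ (mem_zpowers x) c
  have z1 : avg ρ (zpowers x) * eps ρ h l = 0 := by
    ext c
    refine d.fpf_pair hla (n := n) ?_ (hfix _)
    rw [hcomm]
    exact d.idem_apply l _
  have z2 : avg ρ (zpowers x) * eps ρ h a = 0 := by
    ext c
    refine d.fpf_pair' hla hn ?_ (hfix _)
    rw [hcomm]
    exact d.idem_apply a _
  have z3 : avg ρ (zpowers x) * (1 + (eps ρ h l + eps ρ h a)) = 1 + (eps ρ h l + eps ρ h a) := by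
    refine d.fix_rest hla fun m hml hma => ?_
    refine avg_mul_of_fix ρ d.two (d.odd_card hXD) fun y hy => ?_
    ext c
    refine pow_fix (ρ := ρ) (x := x) ?_ hy
    change ρ x (eps ρ h m c) = eps ρ h m c
    rw [hx, rho_mul, inv_apply (d.pow_eps_apply hma.symm n (d.idem_apply m c)),
      d.h_eps_apply hml.symm (d.idem_apply m c)]
  rw [mul_add, mul_add, z1, z2, mul_one, add_zero, add_zero] at z3
  rw [z3, ← add_assoc, d.add_self', zero_add]

/-- `im` of a product with a surjection. -/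
theorem range_eq {T U V : AddMonoid.End A} (h1 : T = U * V) (hV : Function.Surjective V) :
    AddMonoidHom.range T = AddMonoidHom.range U := by
  apply le_antisymm
  · rintro _ ⟨x, rfl⟩
    exact ⟨V x, by rw [h1]; rfl⟩
  · rintro _ ⟨x, rfl⟩
    obtain ⟨y, rfl⟩ := hV x
    exact ⟨y, by rw [h1]; rfl⟩

theorem real_case (d : Abs ρ S h Z p) {W : Subgroup N} (hW : IsPGroup 2 W)
    (hh : ∀ l, h l ∈ normalizer (W : Set N)) (hfix : ∀ w ∈ W, (∀ l, w * h l = h l * w) → w = 1)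
    {a b : Fin k} {n : Fin k → ℕ} (hba : b ≠ a) (hpb : ¬ p ∣ n b) (hna : n a = 1) {w : N} (hw : w ∈ W)
    (hw1 : w ≠ 1) (hwc : ∀ l, w * (h l * (h a ^ n l)⁻¹) = (h l * (h a ^ n l)⁻¹) * w) : False := by
  classical
  -- the subgroup `U`
  set U : Subgroup N := W ⊓ centralizer (Set.range fun l => h l * (h a ^ n l)⁻¹) with hU
  have memU : ∀ {y}, y ∈ U ↔ y ∈ W ∧ ∀ l, y * (h l * (h a ^ n l)⁻¹) = (h l * (h a ^ n l)⁻¹) * y := by
    intro y
    rw [hU, mem_inf, mem_centralizer_iff]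
    refine and_congr_right fun _ => ⟨fun h1 l => (h1 _ ⟨l, rfl⟩).symm, ?_⟩
    rintro h1 _ ⟨l, rfl⟩
    exact (h1 l).symm
  have hwU : w ∈ U := memU.2 ⟨hw, hwc⟩
  -- an involution in the centre of `U`
  obtain ⟨u, huU, hu1, huu, hucen⟩ : ∃ u ∈ U, u ≠ 1 ∧ u * u = 1 ∧ ∀ y ∈ U, u * y = y * u := by
    have hU2 : IsPGroup 2 U := hW.to_le inf_le_left
    have : Nontrivial U := ⟨⟨w, hwU⟩, 1, fun h1 => hw1 (congrArg Subtype.val h1)⟩
    have := hU2.center_nontrivial
    have hd : 2 ∣ Nat.card (center U) := by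
      have hc2 : IsPGroup 2 (center U) := hU2.to_subgroup _
      obtain ⟨m, hm⟩ := IsPGroup.iff_card.1 hc2
      have h3 : 1 < Nat.card (center U) := Finite.one_lt_card
      rw [hm] at h3 ⊢
      exact dvd_pow_self 2 (by rintro rfl; simp at h3)
    obtain ⟨c, hc⟩ := exists_prime_orderOf_dvd_card' 2 hd
    refine ⟨((c : U) : N), (c : U).2, ?_, ?_, ?_⟩
    · intro h3
      have : c = 1 := Subtype.ext (Subtype.ext h3)
      rw [this, orderOf_one] at hc
      omega
    · have h3 : c * c = 1 := by rw [← pow_two, ← hc]; exact pow_orderOf_eq_one c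
      exact congrArg (fun z : center U => ((z : U) : N)) h3
    · intro y hy
      have h3 := mem_center_iff.1 c.2 ⟨y, hy⟩
      exact (congrArg (fun z : U => (z : N)) h3).symm
  -- `t`, `dd`
  set t : N := h a ^ n b with ht
  have htD : t ∈ DD h := pow_mem (h_mem_DD h a) _
  have htU : ∀ y ∈ U, t * y * t⁻¹ ∈ U := by
    intro y hy
    obtain ⟨hyW, hyc⟩ := memU.1 hy
    refine memU.2 ⟨?_, fun l => ?_⟩
    · exact (mem_normalizer_iff.1 (pow_mem (hh a) (n b)) y).1 hyW
    · have h3 : t * (h l * (h a ^ n l)⁻¹) = (h l * (h a ^ n l)⁻¹) * t :=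
        d.DD_comm _ htD _ (pair_mem_DD l a (n l))
      have h4 : t⁻¹ * (h l * (h a ^ n l)⁻¹) = (h l * (h a ^ n l)⁻¹) * t⁻¹ :=
        d.DD_comm _ (inv_mem htD) _ (pair_mem_DD l a (n l))
      calc t * y * t⁻¹ * (h l * (h a ^ n l)⁻¹) = t * y * (t⁻¹ * (h l * (h a ^ n l)⁻¹)) := by group
        _ = t * (y * (h l * (h a ^ n l)⁻¹)) * t⁻¹ := by rw [h4]; group
        _ = (t * (h l * (h a ^ n l)⁻¹)) * y * t⁻¹ := by rw [hyc l]; group
        _ = (h l * (h a ^ n l)⁻¹) * (t * y * t⁻¹) := by rw [h3]; group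
  have htU' : ∀ y ∈ U, t⁻¹ * y * t ∈ U := by
    intro y hy
    obtain ⟨hyW, hyc⟩ := memU.1 hy
    refine memU.2 ⟨?_, fun l => ?_⟩
    · have := (mem_normalizer_iff.1 (inv_mem (pow_mem (hh a) (n b))) y).1 hyW
      rwa [inv_inv] at this
    · have h3 : t * (h l * (h a ^ n l)⁻¹) = (h l * (h a ^ n l)⁻¹) * t :=
        d.DD_comm _ htD _ (pair_mem_DD l a (n l))
      have h4 : t⁻¹ * (h l * (h a ^ n l)⁻¹) = (h l * (h a ^ n l)⁻¹) * t⁻¹ :=
        d.DD_comm _ (inv_mem htD) _ (pair_mem_DD l a (n l))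
      calc t⁻¹ * y * t * (h l * (h a ^ n l)⁻¹) = t⁻¹ * y * (t * (h l * (h a ^ n l)⁻¹)) := by group
        _ = t⁻¹ * (y * (h l * (h a ^ n l)⁻¹)) * t := by rw [h3]; group
        _ = (t⁻¹ * (h l * (h a ^ n l)⁻¹)) * y * t := by rw [hyc l]; group
        _ = (h l * (h a ^ n l)⁻¹) * (t⁻¹ * y * t) := by rw [h4]; group
  -- `cen y` : `y ∈ Z(U)`
  let cen : N → Prop := fun y => y ∈ U ∧ ∀ z ∈ U, y * z = z * y
  have cen_mul : ∀ {y z}, cen y → cen z → cen (y * z) := by
    rintro y z ⟨hy, hy'⟩ ⟨hz, hz'⟩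
    refine ⟨mul_mem hy hz, fun x hx => ?_⟩
    rw [mul_assoc, hz' x hx, ← mul_assoc, hy' x hx, mul_assoc]
  have cen_conj : ∀ {y}, cen y → cen (t * y * t⁻¹) := by
    rintro y ⟨hy, hy'⟩
    refine ⟨htU y hy, fun x hx => ?_⟩
    have h3 := hy' _ (htU' x hx)
    calc t * y * t⁻¹ * x = t * (y * (t⁻¹ * x * t)) * t⁻¹ := by group
      _ = x * (t * y * t⁻¹) := by rw [h3]; group
  have cu : cen u := ⟨huU, hucen⟩
  have cv : cen (t * u * t⁻¹) := cen_conj cu
  set v : N := t * u * t⁻¹ with hv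
  set b₀ : N := u * v with hb₀
  have cb₀ : cen b₀ := cen_mul cu cv
  set b₁ : N := t * b₀ * t⁻¹ with hb₁
  have cb₁ : cen b₁ := cen_conj cb₀
  have hvv : v * v = 1 := by
    calc v * v = t * (u * u) * t⁻¹ := by rw [hv]; group
      _ = 1 := by rw [huu]; group
  have huv : u * v = v * u := cu.2 v cv.1
  have hb₀2 : b₀ * b₀ = 1 := by
    calc b₀ * b₀ = u * (v * u) * v := by rw [hb₀]; group
      _ = (u * u) * (v * v) := by rw [← huv]; group
      _ = 1 := by rw [huu, hvv, one_mul]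
  have hb₁2 : b₁ * b₁ = 1 := by
    calc b₁ * b₁ = t * (b₀ * b₀) * t⁻¹ := by rw [hb₁]; group
      _ = 1 := by rw [hb₀2]; group
  -- `b₀ ≠ 1`
  have hb₀1 : b₀ ≠ 1 := by
    intro h1
    have h2 : v = u := by
      calc v = (u * u) * v := by rw [huu, one_mul]
        _ = u * b₀ := by rw [hb₀, mul_assoc]
        _ = u := by rw [h1, mul_one]
    have hut : u * t = t * u := by
      calc u * t = v * t := by rw [h2]
        _ = t * u := by rw [hv]; group
    have hua : u * h a = h a * u := by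
      obtain ⟨m, hm⟩ := d.mem_zpowers_pow (a := a) hpb
      have h3 : (h a ^ n b) ^ m = h a := hm
      rw [← h3]
      exact ((show Commute u (h a ^ n b) from hut).zpow_right m)
    have hul : ∀ l, u * h l = h l * u := by
      intro l
      have h3 := (memU.1 huU).2 l
      have h4 : u * h a ^ n l = h a ^ n l * u := (show Commute u (h a) from hua).pow_right (n l)
      calc u * h l = u * (h l * (h a ^ n l)⁻¹) * h a ^ n l := by group
        _ = (h l * (h a ^ n l)⁻¹) * (u * h a ^ n l) := by rw [h3]; group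
        _ = h l * u := by rw [h4]; group
    exact hu1 (hfix u (memU.1 huU).1 hul)
  -- `dd = t (h b)⁻¹`
  set dd : N := t * (h b)⁻¹ with hdd
  have hddD : dd ∈ DD h := mul_mem htD (inv_mem (h_mem_DD h b))
  have hdd' : dd⁻¹ = h b * (h a ^ n b)⁻¹ := by rw [hdd, ht]; group
  have hddc : ∀ y ∈ U, dd * y = y * dd := by
    intro y hy
    have h3 := (memU.1 hy).2 b
    rw [← hdd'] at h3
    calc dd * y = dd * (y * dd⁻¹) * dd := by group
      _ = y * dd := by rw [h3]; group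
  have R1 : ∀ {x y : N}, x * y = y * x → ρ x * ρ y = ρ y * ρ x := by
    intro x y hxy
    rw [← map_mul, hxy, map_mul]
  -- fixed points
  have fe : ∀ c, eps ρ h a c = c → ρ dd c = c → c = 0 := by
    intro c hc hx
    refine d.fpf_pair' hba hpb hc ?_
    rw [← hdd']
    exact inv_apply hx
  have ff : ∀ c, eps ρ h b c = c → ρ dd c = c → c = 0 := by
    intro c hc hx
    refine d.fpf_pair hba (n := n b) hc ?_
    rw [← hdd']
    exact inv_apply hx
  have sq : ∀ c, ρ dd (ρ dd c) = c → ρ dd c = c := by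
    intro c hc
    have h1 : ρ (dd ^ 2) c = c := by rw [pow_two, rho_mul, hc]
    refine pow_fix h1 ?_
    obtain ⟨m, hm⟩ := d.prime.odd_of_ne_two d.odd
    refine ⟨(m + 1 : ℕ), ?_⟩
    change (dd ^ 2) ^ ((m + 1 : ℕ) : ℤ) = dd
    rw [zpow_natCast, ← pow_mul, show 2 * (m + 1) = p + 1 by omega, pow_succ, d.DD_pow dd hddD, one_mul]
  have hab : a ≠ b := hba.symm
  obtain ⟨⟨o1, o2⟩, ⟨o3, o4⟩, ⟨o5, o6, o7⟩, -⟩ :=
    core (R := AddMonoid.End A) (End_two d.two) (e := eps ρ h a) (f := eps ρ h b) (u := ρ u) (D := ρ dd)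
      (D' := ρ dd⁻¹) (H := ρ t) (H' := ρ t⁻¹) (b₀ := ρ b₀) (b₁ := ρ b₁)
      (d.eps_idem a) (d.eps_idem b) (d.eps_orth hab) (d.eps_orth hba)
      (by rw [← map_mul, huu, map_one])
      (by
        rw [add_comm (eps ρ h a), d.eps_pair hba hpb, mul_add, add_mul, mul_one, one_mul]
        congr 1
        refine commute_avg ρ fun y hy => ?_
        refine R1 ?_
        obtain ⟨m, rfl⟩ := hy
        exact (show Commute u (h b * (h a ^ n b)⁻¹) from (memU.1 huU).2 b).zpow_right m)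
      (by rw [← map_mul, mul_inv_cancel, map_one]) (by rw [← map_mul, inv_mul_cancel, map_one])
      (d.commute_DD hddD a) (d.commute_DD hddD b) (R1 (hddc u huU)) (R1 (d.DD_comm _ hddD _ htD))
      (R1 (d.DD_comm _ hddD _ (inv_mem htD)))
      (by rw [← map_mul, inv_mul_cancel, map_one])
      (by
        ext c
        change ρ t (eps ρ h a c) = ρ dd (eps ρ h a c)
        rw [hdd, rho_mul, inv_apply (d.h_eps_apply hba (d.idem_apply a c))])
      (by
        ext c
        exact d.pow_eps_apply hab (n b) (d.idem_apply b c))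
      (d.fix_rest hab fun m hma hmb => by
        ext c
        exact d.pow_eps_apply hma.symm (n b) (d.idem_apply m c))
      (by
        rw [← map_mul, ← map_mul, ← map_mul, ← map_mul]
        exact congrArg ρ huv)
      (fun T h1 h2 => by
        ext c
        exact fe _ (congrArg (fun T : AddMonoid.End A => T c) h1) (congrArg (fun T : AddMonoid.End A => T c) h2))
      (fun T h1 h2 => by
        ext c
        exact ff _ (congrArg (fun T : AddMonoid.End A => T c) h1) (congrArg (fun T : AddMonoid.End A => T c) h2))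
      (fun T h1 h2 => by
        ext c
        exact fe _ (congrArg (fun T : AddMonoid.End A => T c) h1)
          (sq _ (congrArg (fun T : AddMonoid.End A => T c) h2)))
      (fun T h1 h2 => by
        ext c
        exact ff _ (congrArg (fun T : AddMonoid.End A => T c) h1)
          (sq _ (congrArg (fun T : AddMonoid.End A => T c) h2)))
      (by rw [hb₀, hv, map_mul, map_mul, map_mul]) (by rw [hb₁, map_mul, map_mul])
  -- the images
  set e := eps ρ h a with he
  set f := eps ρ h b with hf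
  set D := ρ dd with hD
  set D' := ρ dd⁻¹ with hD'
  have ee : e * e = e := d.eps_idem a
  have ff' : f * f = f := d.eps_idem b
  have ef : e * f = 0 := d.eps_orth hab
  have fe' : f * e = 0 := d.eps_orth hba
  have DD1 : D * D' = 1 := by rw [hD, hD', ← map_mul, mul_inv_cancel, map_one]
  have DD2 : D' * D = 1 := by rw [hD, hD', ← map_mul, inv_mul_cancel, map_one]
  have De : D * e = e * D := d.commute_DD hddD a
  have Df : D * f = f * D := d.commute_DD hddD b
  have De' : D' * e = e * D' := d.commute_DD (inv_mem hddD) a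
  have Df' : D' * f = f * D' := d.commute_DD (inv_mem hddD) b
  have hdi : ∀ y ∈ U, dd⁻¹ * y = y * dd⁻¹ := by
    intro y hy
    have := hddc y hy
    calc dd⁻¹ * y = dd⁻¹ * (y * dd) * dd⁻¹ := by group
      _ = y * dd⁻¹ := by rw [← this]; group
  have Db : D * (1 + ρ b₀) = (1 + ρ b₀) * D := by
    rw [mul_add, add_mul, mul_one, one_mul, R1 (hddc b₀ cb₀.1)]
  have Db' : D' * (1 + ρ b₀) = (1 + ρ b₀) * D' := by
    rw [mul_add, add_mul, mul_one, one_mul, R1 (hdi b₀ cb₀.1)]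
  have split : ∀ T : AddMonoid.End A, T * (1 + (e + f)) = 0 → T = T * e + T * f := by
    intro T hT
    calc T = T + (T * (e + f) + T * (e + f)) := by rw [d.add_self', add_zero]
      _ = T * (1 + (e + f)) + (T * e + T * f) := by noncomm_ring
      _ = T * e + T * f := by rw [hT, zero_add]
  have surj : ∀ E F : AddMonoid.End A, e * E = E * e → f * F = F * f →
      (∀ c, e c = c → E c = 0 → c = 0) → (∀ c, f c = c → F c = 0 → c = 0) →
      Function.Surjective ⇑(E * e + F * f + (1 + (e + f)) : AddMonoid.End A) := by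
    intro E F hE hF hE0 hF0
    refine Finite.surjective_of_injective ?_
    rw [injective_iff_map_eq_zero]
    intro x hx
    have ex : e * (E * e + F * f + (1 + (e + f))) = E * e := by
      have k1 : e * (E * e) = E * e := by rw [← mul_assoc, hE, mul_assoc, ee]
      have k2 : e * (F * f) = 0 := by rw [← hF, ← mul_assoc, ef, zero_mul]
      have k3 : e * (1 + (e + f)) = 0 := by rw [mul_add, mul_add, ee, ef, mul_one, add_zero, d.add_self']
      rw [mul_add, mul_add, k1, k2, k3, add_zero, add_zero]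
    have fx : f * (E * e + F * f + (1 + (e + f))) = F * f := by
      have k1 : f * (F * f) = F * f := by rw [← mul_assoc, hF, mul_assoc, ff']
      have k2 : f * (E * e) = 0 := by rw [← hE, ← mul_assoc, fe', zero_mul]
      have k3 : f * (1 + (e + f)) = 0 := by rw [mul_add, mul_add, ff', fe', mul_one, zero_add, d.add_self']
      rw [mul_add, mul_add, k1, k2, k3, add_zero, zero_add]
    have h1 : E (e x) = 0 := by
      have := congrArg (fun T : AddMonoid.End A => T x) ex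
      change e ((E * e + F * f + (1 + (e + f)) : AddMonoid.End A) x) = E (e x) at this
      rw [← this, hx, map_zero]
    have h2 : F (f x) = 0 := by
      have := congrArg (fun T : AddMonoid.End A => T x) fx
      change f ((E * e + F * f + (1 + (e + f)) : AddMonoid.End A) x) = F (f x) at this
      rw [← this, hx, map_zero]
    have h3 : e x = 0 := hE0 _ (d.idem_apply a x) h1
    have h4 : f x = 0 := hF0 _ (d.idem_apply b x) h2
    have h5 : E (e x) + F (f x) + (x + (e x + f x)) = 0 := hx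
    rw [h3, h4, map_zero, map_zero, zero_add, zero_add, add_zero] at h5
    exact h5
  have zero_of : ∀ (i : Fin k) (T T' : AddMonoid.End A), T' * T = 1 → ∀ c, T c = 0 → c = 0 := by
    intro i T T' hT c hc
    have := congrArg (fun T : AddMonoid.End A => T c) hT
    change T' (T c) = c at this
    rw [← this, hc, map_zero]
  have him1 : im ρ b₁ = im ρ b₀ := by
    refine range_eq (T := 1 + ρ b₁) (U := 1 + ρ b₀) (V := D' * e + D * f + (1 + (e + f))) ?_
      (surj D' D De'.symm Df.symm (fun c _ => zero_of a D' D DD1 c) (fun c _ => zero_of a D D' DD2 c))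
    calc 1 + ρ b₁ = (1 + ρ b₁) * e + (1 + ρ b₁) * f := split _ o6
      _ = D' * (1 + ρ b₀) * e + D * (1 + ρ b₀) * f := by rw [o1, o2]; noncomm_ring
      _ = (1 + ρ b₀) * (D' * e + D * f) + 0 := by rw [Db, Db']; noncomm_ring
      _ = (1 + ρ b₀) * (D' * e + D * f + (1 + (e + f))) := by rw [← o5]; noncomm_ring
  have him2 : im ρ (b₀ * b₁) = im ρ b₀ := by
    refine range_eq (T := 1 + ρ (b₀ * b₁)) (U := 1 + ρ b₀)
      (V := (1 + D') * e + (1 + D) * f + (1 + (e + f))) ?_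
      (surj (1 + D') (1 + D) (by rw [mul_add, add_mul, De', mul_one, one_mul])
        (by rw [mul_add, add_mul, Df, mul_one, one_mul]) ?_ ?_)
    · rw [map_mul]
      calc 1 + ρ b₀ * ρ b₁ = (1 + ρ b₀ * ρ b₁) * e + (1 + ρ b₀ * ρ b₁) * f := split _ o7
        _ = (1 + D') * (1 + ρ b₀) * e + (1 + D) * (1 + ρ b₀) * f := by rw [o3, o4]; noncomm_ring
        _ = (1 + ρ b₀) * e + D' * (1 + ρ b₀) * e + ((1 + ρ b₀) * f + D * (1 + ρ b₀) * f) := by noncomm_ring
        _ = (1 + ρ b₀) * ((1 + D') * e + (1 + D) * f) + 0 := by rw [Db, Db']; noncomm_ring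
        _ = (1 + ρ b₀) * ((1 + D') * e + (1 + D) * f + (1 + (e + f))) := by rw [← o5]; noncomm_ring
    · intro c hc h1
      have h2 : c + ρ dd⁻¹ c = 0 := h1
      refine fe c hc (inv_apply' ?_)
      calc ρ dd⁻¹ c = (c + c) + ρ dd⁻¹ c := by rw [d.two, zero_add]
        _ = c := by rw [add_assoc, h2, add_zero]
    · intro c hc h1
      have h2 : c + ρ dd c = 0 := h1
      refine ff c hc ?_
      calc ρ dd c = (c + c) + ρ dd c := by rw [d.two, zero_add]
        _ = c := by rw [add_assoc, h2, add_zero]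
  exact d.no_four hW (f := b₀) (g := b₁) (memU.1 cb₀.1).1 (memU.1 cb₁.1).1 hb₀2 hb₁2 (cb₀.2 b₁ cb₁.1) hb₀1
    him1.symm (by rw [← cb₀.2 b₁ cb₁.1, him2])

/-- **THEOREM C, case `q ≥ 4`, in `N = N_G(E) / C_G(E)`.** -/
theorem main (d : Abs ρ S h Z p) {W : Subgroup N} (hW : IsPGroup 2 W)
    (hh : ∀ l, h l ∈ normalizer (W : Set N))
    (hSW : ∀ s ∈ (S : Subgroup N), (∀ l, ∃ r : ℕ, s * h l * s⁻¹ = h l ^ r) → s ∈ normalizer (W : Set N)) :
    W = ⊥ := by
  by_contra hne
  have hfix : ∀ w ∈ W, (∀ l, w * h l = h l * w) → w = 1 := fun w hw hc =>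
    d.eq_one_of_eps hW hh hSW hw fun l => d.commute_eps (hc l)
  obtain ⟨a, n, hna, w, hw, hw1, hwc⟩ := exists_hyperplane d.prime d.odd d.hcomm d.hp hW hne hh hfix
  have hdiv : ∀ l, p ∣ n l → ρ w * eps ρ h l = eps ρ h l * ρ w := by
    intro l hl
    obtain ⟨m, hm⟩ := hl
    have h1 := hwc l
    have h2 : h a ^ n l = 1 := by rw [hm, pow_mul, d.hp, one_pow]
    rw [h2, inv_one, mul_one] at h1
    exact d.commute_eps h1
  have hpair : ∀ l, l ≠ a → ¬ p ∣ n l →
      ρ w * (eps ρ h l + eps ρ h a) = (eps ρ h l + eps ρ h a) * ρ w := by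
    intro l hla hl
    rw [d.eps_pair hla hl, mul_add, add_mul, mul_one, one_mul]
    congr 1
    refine commute_avg ρ fun y hy => ?_
    obtain ⟨m, rfl⟩ := hy
    rw [← map_mul, ← map_mul]
    congr 1
    exact (show Commute w (h l * (h a ^ n l)⁻¹) from hwc l).zpow_right m
  -- it suffices to commute with `eps a`
  have hsuff : ρ w * eps ρ h a = eps ρ h a * ρ w → False := by
    intro ha
    refine hw1 (d.eq_one_of_eps hW hh hSW hw fun l => ?_)
    by_cases hla : l = a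
    · rw [hla]; exact ha
    · by_cases hl : p ∣ n l
      · exact hdiv l hl
      · have h1 := hpair l hla hl
        rw [mul_add, add_mul, ha] at h1
        exact add_right_cancel h1
  by_cases hb : ∃ b, b ≠ a ∧ ¬ p ∣ n b
  · obtain ⟨b, hba, hpb⟩ := hb
    exact d.real_case hW hh hfix hba hpb hna hw hw1 hwc
  · push Not at hb
    apply hsuff
    have h1 : eps ρ h a = 1 + ∑ m ∈ Finset.univ.erase a, eps ρ h m := by
      have h2 : eps ρ h a + ∑ m ∈ Finset.univ.erase a, eps ρ h m = 1 := by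
        rw [Finset.add_sum_erase _ _ (Finset.mem_univ a), d.sum_eps]
      rw [← h2, add_assoc, d.add_self', add_zero]
    rw [h1, mul_add, add_mul, mul_one, one_mul]
    congr 1
    rw [Finset.mul_sum, Finset.sum_mul]
    exact Finset.sum_congr rfl fun m hm => hdiv m (hb m (Finset.ne_of_mem_erase hm))

end Abs

end Cfsg.Agent.Omega.ThmC.Four

end

section


/-!
# THEOREM C with `D`, case `q ≥ 4`, (3): supports of size at least 2 (after helper334's `ThmC/FourMain.lean`)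

* `eq_one_of_eps` : an element of a 2-subgroup `W` (normalised by the `h l` and by the elements of `S` which normalise
  every `⟨h l⟩`) which commutes with all `eps l` is trivial;
* `real_case` : no element `≠ 1` of `W` commutes with `h l (h a ^ n l)⁻¹` for all `l`, `p ∤ n b` for some `b ≠ a`;
* `exists_single` : if `W ≠ 1`, then some `w ≠ 1` in `W` commutes with all `h l`, `l ≠ a`.
-/

set_option autoImplicit false
set_option linter.unusedSectionVars false
set_option linter.unusedVariables false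

namespace Cfsg.Agent.Omega.IId.ThmCQ

open Subgroup Cfsg Cfsg.Agent.Omega.ThmC.Four
open Cfsg.Agent.Omega.ThmC.Four.Abs (Perm Perm.mul conj_eps pow_fix conj_eps_apply sq_apply fix_im exists_conj_le
  card_map_conj stabC mem_stabC inv_apply inv_apply' range_eq pair_mem_DD)

universe u

namespace AbsD

variable {N A : Type u} [Group N] [Finite N] [AddCommGroup A] [Finite A] {ρ : N →* AddMonoid.End A}
  {S : Sylow 2 N} {k : ℕ} {h : Fin k → N} {Z : Fin k → AddSubgroup A} {p : ℕ}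

/-! ### (3)(a) -/

theorem perm_eq (d : AbsD ρ S h Z p) {s : N} {σ : Equiv.Perm (Fin k)} (hs : Perm h s σ) {l : Fin k}
    (hc : ρ s * eps ρ h l = eps ρ h l * ρ s) : σ l = l := by
  by_contra hne
  have h2 : ρ s * ρ s⁻¹ = 1 := by rw [← map_mul, mul_inv_cancel, map_one]
  have h1 : eps ρ h (σ l) = eps ρ h l := by
    calc eps ρ h (σ l) = eps ρ h (σ l) * ρ s * ρ s⁻¹ := by rw [mul_assoc, h2, mul_one]
      _ = eps ρ h l * ρ s * ρ s⁻¹ := by rw [← conj_eps hs, hc]
      _ = eps ρ h l := by rw [mul_assoc, h2, mul_one]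
  obtain ⟨a, ha⟩ := d.eps_ne l
  apply ha
  have h3 := d.eps_orth hne
  rw [h1, d.eps_idem] at h3
  rw [h3]
  rfl

theorem S_le_normalizer (d : AbsD ρ S h Z p) : (S : Subgroup N) ≤ normalizer (stabC ρ h : Set N) := by
  have key : ∀ s ∈ (S : Subgroup N), ∀ n ∈ stabC ρ h, s * n * s⁻¹ ∈ stabC ρ h := by
    intro s hs n hn l
    obtain ⟨σ, hσ⟩ := d.perm s hs
    obtain ⟨τ, hτ⟩ := d.perm s⁻¹ (inv_mem hs)
    have h1 : σ (τ l) = l := by
      have := d.perm_eq (Perm.mul hσ hτ) (l := l) (by rw [mul_inv_cancel, map_one, one_mul, mul_one])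
      exact this
    have h2 : ρ s⁻¹ * eps ρ h l = eps ρ h (τ l) * ρ s⁻¹ := conj_eps hτ l
    have h3 : ρ s * eps ρ h (τ l) = eps ρ h l * ρ s := by rw [conj_eps hσ, h1]
    calc ρ (s * n * s⁻¹) * eps ρ h l = ρ s * ρ n * (ρ s⁻¹ * eps ρ h l) := by
          rw [map_mul, map_mul]; noncomm_ring
      _ = ρ s * (ρ n * eps ρ h (τ l)) * ρ s⁻¹ := by rw [h2]; noncomm_ring
      _ = (ρ s * eps ρ h (τ l)) * ρ n * ρ s⁻¹ := by rw [hn]; noncomm_ring
      _ = eps ρ h l * ρ (s * n * s⁻¹) := by rw [h3, map_mul, map_mul]; noncomm_ring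
  intro s hs
  rw [mem_normalizer_iff]
  intro n
  refine ⟨key s hs n, fun hn => ?_⟩
  have := key s⁻¹ (inv_mem hs) _ hn
  simpa [mul_assoc] using this

/-- (3)(a) -/
theorem mem_S (d : AbsD ρ S h Z p) {W : Subgroup N} (hW : IsPGroup 2 W)
    (hSW : ∀ s ∈ (S : Subgroup N), (∀ l, ∃ r : ℕ, s * h l * s⁻¹ = h l ^ r) → s ∈ normalizer (W : Set N))
    {w : N} (hw : w ∈ W) (hc : w ∈ stabC ρ h) : w ∈ (S : Subgroup N) := by
  set T : Subgroup N := (S : Subgroup N) ⊓ stabC ρ h with hT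
  have hTN : T ≤ normalizer ((W ⊓ stabC ρ h : Subgroup N) : Set N) := by
    rintro s ⟨hs, hs0⟩
    have h1 : s ∈ normalizer (W : Set N) := by
      refine hSW s hs fun l => ?_
      obtain ⟨σ, hσ⟩ := d.perm s hs
      obtain ⟨r, hr⟩ := hσ l
      exact ⟨r, by rw [hr, d.perm_eq hσ (hs0 l)]⟩
    have h2 := d.S_le_normalizer hs
    rw [mem_normalizer_iff] at h1 h2 ⊢
    intro n
    exact ⟨fun hn => ⟨(h1 n).1 hn.1, (h2 n).1 hn.2⟩, fun hn => ⟨(h1 n).2 hn.1, (h2 n).2 hn.2⟩⟩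
  have hT2 : IsPGroup 2 T := S.isPGroup'.to_le inf_le_left
  have hW2 : IsPGroup 2 (W ⊓ stabC ρ h : Subgroup N) := hW.to_le inf_le_left
  have hsup : IsPGroup 2 (T ⊔ (W ⊓ stabC ρ h) : Subgroup N) := hT2.to_sup_of_normal_right' hW2 hTN
  have hle : T ⊔ (W ⊓ stabC ρ h) ≤ stabC ρ h := sup_le inf_le_right inf_le_right
  obtain ⟨x, hx, hxS⟩ := exists_conj_le (S := S) (M := normalizer (stabC ρ h : Set N)) d.S_le_normalizer hsup
    (hle.trans le_normalizer)
  have h3 : (T ⊔ (W ⊓ stabC ρ h)).map (MulAut.conj x).toMonoidHom ≤ T := by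
    rintro _ ⟨t, ht, rfl⟩
    exact ⟨hxS t ht, (mem_normalizer_iff.1 hx t).1 (hle ht)⟩
  have h4 : Nat.card ↥(T ⊔ (W ⊓ stabC ρ h)) ≤ Nat.card T := by
    rw [← card_map_conj (T ⊔ (W ⊓ stabC ρ h)) x]
    exact Subgroup.card_le_of_le h3
  have h5 : T = T ⊔ (W ⊓ stabC ρ h) := eq_of_le_of_card_ge le_sup_left h4
  have h6 : w ∈ T := by
    rw [h5]
    exact mem_sup_right ⟨hw, hc⟩
  exact h6.1

/-- An element of `W` which commutes with all `eps l` is trivial. -/
theorem eq_one_of_eps (d : AbsD ρ S h Z p) {W : Subgroup N} (hW : IsPGroup 2 W)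
    (hh : ∀ l, h l ∈ normalizer (W : Set N))
    (hSW : ∀ s ∈ (S : Subgroup N), (∀ l, ∃ r : ℕ, s * h l * s⁻¹ = h l ^ r) → s ∈ normalizer (W : Set N))
    {w : N} (hw : w ∈ W) (hc : ∀ l, ρ w * eps ρ h l = eps ρ h l * ρ w) : w = 1 := by
  have hwS : w ∈ (S : Subgroup N) := d.mem_S hW hSW hw hc
  obtain ⟨σ, hσ⟩ := d.perm w hwS
  refine d.field w hwS fun l => ?_
  obtain ⟨r, hr⟩ := hσ l
  rw [d.perm_eq hσ (hc l)] at hr
  have h1 : w * (h l * w⁻¹ * (h l)⁻¹) ∈ W :=
    mul_mem hw ((mem_normalizer_iff.1 (hh l) w⁻¹).1 (inv_mem hw))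
  have h2 : w * (h l * w⁻¹ * (h l)⁻¹) = h l ^ r * (h l)⁻¹ := by rw [← hr]; group
  have h3 : (w * (h l * w⁻¹ * (h l)⁻¹)) ^ p = 1 := by
    rw [h2]
    exact d.DD_pow _ (mul_mem (pow_mem (h_mem_DD h l) r) (inv_mem (h_mem_DD h l)))
  have h4 : w * (h l * w⁻¹ * (h l)⁻¹) = 1 := by
    obtain ⟨n, hn⟩ := hW ⟨_, h1⟩
    have h5 : (w * (h l * w⁻¹ * (h l)⁻¹)) ^ 2 ^ n = 1 := congrArg Subtype.val hn
    have h6 : orderOf (w * (h l * w⁻¹ * (h l)⁻¹)) ∣ Nat.gcd p (2 ^ n) :=
      Nat.dvd_gcd (orderOf_dvd_of_pow_eq_one h3) (orderOf_dvd_of_pow_eq_one h5)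
    have h7 : Nat.Coprime p (2 ^ n) :=
      Nat.Coprime.pow_right n ((Nat.coprime_primes d.prime Nat.prime_two).2 d.odd)
    rw [h7.gcd_eq_one] at h6
    exact orderOf_eq_one_iff.1 (Nat.dvd_one.1 h6)
  calc w * h l = w * (h l * w⁻¹ * (h l)⁻¹) * h l * w := by group
    _ = h l * w := by rw [h4, one_mul]

/-! ### (3)(b) -/

theorem fix_rest (d : AbsD ρ S h Z p) {l a : Fin k} (hla : l ≠ a) {T : AddMonoid.End A}
    (hT0 : T * avg ρ (DD h) = avg ρ (DD h))
    (hT : ∀ m, m ≠ l → m ≠ a → T * eps ρ h m = eps ρ h m) :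
    T * (1 + (eps ρ h l + eps ρ h a)) = 1 + (eps ρ h l + eps ρ h a) := by
  classical
  have h1 : (1 : AddMonoid.End A) + (eps ρ h l + eps ρ h a) =
      avg ρ (DD h) + ∑ m ∈ (Finset.univ.erase l).erase a, eps ρ h m := by
    have h2 : (1 : AddMonoid.End A) = avg ρ (DD h) + (eps ρ h l + (eps ρ h a +
        ∑ m ∈ (Finset.univ.erase l).erase a, eps ρ h m)) := by
      rw [Finset.add_sum_erase _ _ (Finset.mem_erase.2 ⟨hla.symm, Finset.mem_univ a⟩),
        Finset.add_sum_erase _ _ (Finset.mem_univ l), d.sum_eps]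
    calc (1 : AddMonoid.End A) + (eps ρ h l + eps ρ h a)
        = (eps ρ h l + eps ρ h l) + (eps ρ h a + eps ρ h a) +
          (avg ρ (DD h) + ∑ m ∈ (Finset.univ.erase l).erase a, eps ρ h m) := by
          conv_lhs => rw [h2]
          abel
      _ = _ := by rw [d.add_self', d.add_self', zero_add, zero_add]
  rw [h1, mul_add, hT0, Finset.mul_sum]
  congr 1
  refine Finset.sum_congr rfl fun m hm => ?_
  rw [Finset.mem_erase, Finset.mem_erase] at hm
  exact hT m hm.2.1 hm.1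

theorem h_eps_apply (d : AbsD ρ S h Z p) {l m : Fin k} (hml : m ≠ l) {c : A} (hc : eps ρ h l c = c) :
    ρ (h m) c = c := by
  have := congrArg (fun T : AddMonoid.End A => T c) (d.h_mul_eps hml)
  change ρ (h m) (eps ρ h l c) = eps ρ h l c at this
  rwa [hc] at this

theorem mem_zpowers_pow (d : AbsD ρ S h Z p) {a : Fin k} {n : ℕ} (hn : ¬ p ∣ n) : h a ∈ zpowers (h a ^ n) := by
  have hcop : Nat.Coprime n p := ((Nat.Prime.coprime_iff_not_dvd d.prime).2 hn).symm
  obtain ⟨m, hm⟩ := exists_pow_eq_self_of_coprime (x := h a) (n := n) (by rw [d.orderOf_h]; exact hcop)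
  exact ⟨m, by change (h a ^ n) ^ (m : ℤ) = h a; rw [zpow_natCast, hm]⟩

theorem pow_eps_apply (d : AbsD ρ S h Z p) {l a : Fin k} (hla : a ≠ l) (n : ℕ) {c : A} (hc : eps ρ h l c = c) :
    ρ (h a ^ n) c = c :=
  pow_fix (d.h_eps_apply hla hc) ⟨n, zpow_natCast _ _⟩

/-- `h l (h a ^ n)⁻¹` is fixed-point-free on `C_l`. -/
theorem fpf_pair (d : AbsD ρ S h Z p) {l a : Fin k} (hla : l ≠ a) {n : ℕ} {c : A}
    (hc : eps ρ h l c = c) (hx : ρ (h l * (h a ^ n)⁻¹) c = c) : c = 0 := by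
  refine d.fpf' hc ?_
  rw [rho_mul, inv_apply (d.pow_eps_apply hla.symm n hc)] at hx
  exact hx

/-- `h l (h a ^ n)⁻¹` is fixed-point-free on `C_a`. -/
theorem fpf_pair' (d : AbsD ρ S h Z p) {l a : Fin k} (hla : l ≠ a) {n : ℕ} (hn : ¬ p ∣ n) {c : A}
    (hc : eps ρ h a c = c) (hx : ρ (h l * (h a ^ n)⁻¹) c = c) : c = 0 := by
  have h1 : h l * (h a ^ n)⁻¹ = (h a ^ n)⁻¹ * h l :=
    d.DD_comm _ (h_mem_DD h l) _ (inv_mem (pow_mem (h_mem_DD h a) n))
  rw [h1, rho_mul, d.h_eps_apply hla hc] at hx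
  exact d.fpf' hc (pow_fix (inv_apply' hx) (d.mem_zpowers_pow hn))

theorem eps_pair (d : AbsD ρ S h Z p) {l a : Fin k} (hla : l ≠ a) {n : ℕ} (hn : ¬ p ∣ n) :
    eps ρ h l + eps ρ h a = 1 + avg ρ (zpowers (h l * (h a ^ n)⁻¹)) := by
  set x := h l * (h a ^ n)⁻¹ with hx
  have hxD : x ∈ DD h := pair_mem_DD l a n
  have hXD : zpowers x ≤ DD h := zpowers_le.2 hxD
  have hcomm : ∀ m, avg ρ (zpowers x) * eps ρ h m = eps ρ h m * avg ρ (zpowers x) := fun m =>
    (commute_avg ρ fun y hy => (d.commute_DD (hXD hy) m).symm).symm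
  have hfix : ∀ c, ρ x (avg ρ (zpowers x) c) = avg ρ (zpowers x) c := fun c =>
    fix_avg_apply ρ (mem_zpowers x) c
  have z1 : avg ρ (zpowers x) * eps ρ h l = 0 := by
    ext c
    refine d.fpf_pair hla (n := n) ?_ (hfix _)
    rw [hcomm]
    exact d.idem_apply l _
  have z2 : avg ρ (zpowers x) * eps ρ h a = 0 := by
    ext c
    refine d.fpf_pair' hla hn ?_ (hfix _)
    rw [hcomm]
    exact d.idem_apply a _
  have z3 : avg ρ (zpowers x) * (1 + (eps ρ h l + eps ρ h a)) = 1 + (eps ρ h l + eps ρ h a) := by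
    refine d.fix_rest hla (d.mul_DD hXD) fun m hml hma => ?_
    refine avg_mul_of_fix ρ d.two (d.odd_card hXD) fun y hy => ?_
    ext c
    refine pow_fix (ρ := ρ) (x := x) ?_ hy
    change ρ x (eps ρ h m c) = eps ρ h m c
    rw [hx, rho_mul, inv_apply (d.pow_eps_apply hma.symm n (d.idem_apply m c)),
      d.h_eps_apply hml.symm (d.idem_apply m c)]
  rw [mul_add, mul_add, z1, z2, mul_one, add_zero, add_zero] at z3
  rw [z3, ← add_assoc, d.add_self', zero_add]

theorem real_case (d : AbsD ρ S h Z p) {W : Subgroup N} (hW : IsPGroup 2 W)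
    (hh : ∀ l, h l ∈ normalizer (W : Set N)) (hfix : ∀ w ∈ W, (∀ l, w * h l = h l * w) → w = 1)
    {a b : Fin k} {n : Fin k → ℕ} (hba : b ≠ a) (hpb : ¬ p ∣ n b) (hna : n a = 1) {w : N} (hw : w ∈ W)
    (hw1 : w ≠ 1) (hwc : ∀ l, w * (h l * (h a ^ n l)⁻¹) = (h l * (h a ^ n l)⁻¹) * w) : False := by
  classical
  -- the subgroup `U`
  set U : Subgroup N := W ⊓ centralizer (Set.range fun l => h l * (h a ^ n l)⁻¹) with hU
  have memU : ∀ {y}, y ∈ U ↔ y ∈ W ∧ ∀ l, y * (h l * (h a ^ n l)⁻¹) = (h l * (h a ^ n l)⁻¹) * y := by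
    intro y
    rw [hU, mem_inf, mem_centralizer_iff]
    refine and_congr_right fun _ => ⟨fun h1 l => (h1 _ ⟨l, rfl⟩).symm, ?_⟩
    rintro h1 _ ⟨l, rfl⟩
    exact (h1 l).symm
  have hwU : w ∈ U := memU.2 ⟨hw, hwc⟩
  -- an involution in the centre of `U`
  obtain ⟨u, huU, hu1, huu, hucen⟩ : ∃ u ∈ U, u ≠ 1 ∧ u * u = 1 ∧ ∀ y ∈ U, u * y = y * u := by
    have hU2 : IsPGroup 2 U := hW.to_le inf_le_left
    have : Nontrivial U := ⟨⟨w, hwU⟩, 1, fun h1 => hw1 (congrArg Subtype.val h1)⟩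
    have := hU2.center_nontrivial
    have hd : 2 ∣ Nat.card (center U) := by
      have hc2 : IsPGroup 2 (center U) := hU2.to_subgroup _
      obtain ⟨m, hm⟩ := IsPGroup.iff_card.1 hc2
      have h3 : 1 < Nat.card (center U) := Finite.one_lt_card
      rw [hm] at h3 ⊢
      exact dvd_pow_self 2 (by rintro rfl; simp at h3)
    obtain ⟨c, hc⟩ := exists_prime_orderOf_dvd_card' 2 hd
    refine ⟨((c : U) : N), (c : U).2, ?_, ?_, ?_⟩
    · intro h3
      have : c = 1 := Subtype.ext (Subtype.ext h3)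
      rw [this, orderOf_one] at hc
      omega
    · have h3 : c * c = 1 := by rw [← pow_two, ← hc]; exact pow_orderOf_eq_one c
      exact congrArg (fun z : center U => ((z : U) : N)) h3
    · intro y hy
      have h3 := mem_center_iff.1 c.2 ⟨y, hy⟩
      exact (congrArg (fun z : U => (z : N)) h3).symm
  -- `t`, `dd`
  set t : N := h a ^ n b with ht
  have htD : t ∈ DD h := pow_mem (h_mem_DD h a) _
  have htU : ∀ y ∈ U, t * y * t⁻¹ ∈ U := by
    intro y hy
    obtain ⟨hyW, hyc⟩ := memU.1 hy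
    refine memU.2 ⟨?_, fun l => ?_⟩
    · exact (mem_normalizer_iff.1 (pow_mem (hh a) (n b)) y).1 hyW
    · have h3 : t * (h l * (h a ^ n l)⁻¹) = (h l * (h a ^ n l)⁻¹) * t :=
        d.DD_comm _ htD _ (pair_mem_DD l a (n l))
      have h4 : t⁻¹ * (h l * (h a ^ n l)⁻¹) = (h l * (h a ^ n l)⁻¹) * t⁻¹ :=
        d.DD_comm _ (inv_mem htD) _ (pair_mem_DD l a (n l))
      calc t * y * t⁻¹ * (h l * (h a ^ n l)⁻¹) = t * y * (t⁻¹ * (h l * (h a ^ n l)⁻¹)) := by group
        _ = t * (y * (h l * (h a ^ n l)⁻¹)) * t⁻¹ := by rw [h4]; group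
        _ = (t * (h l * (h a ^ n l)⁻¹)) * y * t⁻¹ := by rw [hyc l]; group
        _ = (h l * (h a ^ n l)⁻¹) * (t * y * t⁻¹) := by rw [h3]; group
  have htU' : ∀ y ∈ U, t⁻¹ * y * t ∈ U := by
    intro y hy
    obtain ⟨hyW, hyc⟩ := memU.1 hy
    refine memU.2 ⟨?_, fun l => ?_⟩
    · have := (mem_normalizer_iff.1 (inv_mem (pow_mem (hh a) (n b))) y).1 hyW
      rwa [inv_inv] at this
    · have h3 : t * (h l * (h a ^ n l)⁻¹) = (h l * (h a ^ n l)⁻¹) * t :=
        d.DD_comm _ htD _ (pair_mem_DD l a (n l))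
      have h4 : t⁻¹ * (h l * (h a ^ n l)⁻¹) = (h l * (h a ^ n l)⁻¹) * t⁻¹ :=
        d.DD_comm _ (inv_mem htD) _ (pair_mem_DD l a (n l))
      calc t⁻¹ * y * t * (h l * (h a ^ n l)⁻¹) = t⁻¹ * y * (t * (h l * (h a ^ n l)⁻¹)) := by group
        _ = t⁻¹ * (y * (h l * (h a ^ n l)⁻¹)) * t := by rw [h3]; group
        _ = (t⁻¹ * (h l * (h a ^ n l)⁻¹)) * y * t := by rw [hyc l]; group
        _ = (h l * (h a ^ n l)⁻¹) * (t⁻¹ * y * t) := by rw [h4]; group
  -- `cen y` : `y ∈ Z(U)`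
  let cen : N → Prop := fun y => y ∈ U ∧ ∀ z ∈ U, y * z = z * y
  have cen_mul : ∀ {y z}, cen y → cen z → cen (y * z) := by
    rintro y z ⟨hy, hy'⟩ ⟨hz, hz'⟩
    refine ⟨mul_mem hy hz, fun x hx => ?_⟩
    rw [mul_assoc, hz' x hx, ← mul_assoc, hy' x hx, mul_assoc]
  have cen_conj : ∀ {y}, cen y → cen (t * y * t⁻¹) := by
    rintro y ⟨hy, hy'⟩
    refine ⟨htU y hy, fun x hx => ?_⟩
    have h3 := hy' _ (htU' x hx)
    calc t * y * t⁻¹ * x = t * (y * (t⁻¹ * x * t)) * t⁻¹ := by group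
      _ = x * (t * y * t⁻¹) := by rw [h3]; group
  have cu : cen u := ⟨huU, hucen⟩
  have cv : cen (t * u * t⁻¹) := cen_conj cu
  set v : N := t * u * t⁻¹ with hv
  set b₀ : N := u * v with hb₀
  have cb₀ : cen b₀ := cen_mul cu cv
  set b₁ : N := t * b₀ * t⁻¹ with hb₁
  have cb₁ : cen b₁ := cen_conj cb₀
  have hvv : v * v = 1 := by
    calc v * v = t * (u * u) * t⁻¹ := by rw [hv]; group
      _ = 1 := by rw [huu]; group
  have huv : u * v = v * u := cu.2 v cv.1
  have hb₀2 : b₀ * b₀ = 1 := by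
    calc b₀ * b₀ = u * (v * u) * v := by rw [hb₀]; group
      _ = (u * u) * (v * v) := by rw [← huv]; group
      _ = 1 := by rw [huu, hvv, one_mul]
  have hb₁2 : b₁ * b₁ = 1 := by
    calc b₁ * b₁ = t * (b₀ * b₀) * t⁻¹ := by rw [hb₁]; group
      _ = 1 := by rw [hb₀2]; group
  -- `b₀ ≠ 1`
  have hb₀1 : b₀ ≠ 1 := by
    intro h1
    have h2 : v = u := by
      calc v = (u * u) * v := by rw [huu, one_mul]
        _ = u * b₀ := by rw [hb₀, mul_assoc]
        _ = u := by rw [h1, mul_one]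
    have hut : u * t = t * u := by
      calc u * t = v * t := by rw [h2]
        _ = t * u := by rw [hv]; group
    have hua : u * h a = h a * u := by
      obtain ⟨m, hm⟩ := d.mem_zpowers_pow (a := a) hpb
      have h3 : (h a ^ n b) ^ m = h a := hm
      rw [← h3]
      exact ((show Commute u (h a ^ n b) from hut).zpow_right m)
    have hul : ∀ l, u * h l = h l * u := by
      intro l
      have h3 := (memU.1 huU).2 l
      have h4 : u * h a ^ n l = h a ^ n l * u := (show Commute u (h a) from hua).pow_right (n l)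
      calc u * h l = u * (h l * (h a ^ n l)⁻¹) * h a ^ n l := by group
        _ = (h l * (h a ^ n l)⁻¹) * (u * h a ^ n l) := by rw [h3]; group
        _ = h l * u := by rw [h4]; group
    exact hu1 (hfix u (memU.1 huU).1 hul)
  -- `dd = t (h b)⁻¹`
  set dd : N := t * (h b)⁻¹ with hdd
  have hddD : dd ∈ DD h := mul_mem htD (inv_mem (h_mem_DD h b))
  have hdd' : dd⁻¹ = h b * (h a ^ n b)⁻¹ := by rw [hdd, ht]; group
  have hddc : ∀ y ∈ U, dd * y = y * dd := by
    intro y hy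
    have h3 := (memU.1 hy).2 b
    rw [← hdd'] at h3
    calc dd * y = dd * (y * dd⁻¹) * dd := by group
      _ = y * dd := by rw [h3]; group
  have R1 : ∀ {x y : N}, x * y = y * x → ρ x * ρ y = ρ y * ρ x := by
    intro x y hxy
    rw [← map_mul, hxy, map_mul]
  -- fixed points
  have fe : ∀ c, eps ρ h a c = c → ρ dd c = c → c = 0 := by
    intro c hc hx
    refine d.fpf_pair' hba hpb hc ?_
    rw [← hdd']
    exact inv_apply hx
  have ff : ∀ c, eps ρ h b c = c → ρ dd c = c → c = 0 := by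
    intro c hc hx
    refine d.fpf_pair hba (n := n b) hc ?_
    rw [← hdd']
    exact inv_apply hx
  have sq : ∀ c, ρ dd (ρ dd c) = c → ρ dd c = c := by
    intro c hc
    have h1 : ρ (dd ^ 2) c = c := by rw [pow_two, rho_mul, hc]
    refine pow_fix h1 ?_
    obtain ⟨m, hm⟩ := d.prime.odd_of_ne_two d.odd
    refine ⟨(m + 1 : ℕ), ?_⟩
    change (dd ^ 2) ^ ((m + 1 : ℕ) : ℤ) = dd
    rw [zpow_natCast, ← pow_mul, show 2 * (m + 1) = p + 1 by omega, pow_succ, d.DD_pow dd hddD, one_mul]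
  have hab : a ≠ b := hba.symm
  obtain ⟨⟨o1, o2⟩, ⟨o3, o4⟩, ⟨o5, o6, o7⟩, -⟩ :=
    core (R := AddMonoid.End A) (End_two d.two) (e := eps ρ h a) (f := eps ρ h b) (u := ρ u) (D := ρ dd)
      (D' := ρ dd⁻¹) (H := ρ t) (H' := ρ t⁻¹) (b₀ := ρ b₀) (b₁ := ρ b₁)
      (d.eps_idem a) (d.eps_idem b) (d.eps_orth hab) (d.eps_orth hba)
      (by rw [← map_mul, huu, map_one])
      (by
        rw [add_comm (eps ρ h a), d.eps_pair hba hpb, mul_add, add_mul, mul_one, one_mul]
        congr 1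
        refine commute_avg ρ fun y hy => ?_
        refine R1 ?_
        obtain ⟨m, rfl⟩ := hy
        exact (show Commute u (h b * (h a ^ n b)⁻¹) from (memU.1 huU).2 b).zpow_right m)
      (by rw [← map_mul, mul_inv_cancel, map_one]) (by rw [← map_mul, inv_mul_cancel, map_one])
      (d.commute_DD hddD a) (d.commute_DD hddD b) (R1 (hddc u huU)) (R1 (d.DD_comm _ hddD _ htD))
      (R1 (d.DD_comm _ hddD _ (inv_mem htD)))
      (by rw [← map_mul, inv_mul_cancel, map_one])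
      (by
        ext c
        change ρ t (eps ρ h a c) = ρ dd (eps ρ h a c)
        rw [hdd, rho_mul, inv_apply (d.h_eps_apply hba (d.idem_apply a c))])
      (by
        ext c
        exact d.pow_eps_apply hab (n b) (d.idem_apply b c))
      (d.fix_rest hab (left_avg ρ htD) fun m hma hmb => by
        ext c
        exact d.pow_eps_apply hma.symm (n b) (d.idem_apply m c))
      (by
        rw [← map_mul, ← map_mul, ← map_mul, ← map_mul]
        exact congrArg ρ huv)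
      (fun T h1 h2 => by
        ext c
        exact fe _ (congrArg (fun T : AddMonoid.End A => T c) h1) (congrArg (fun T : AddMonoid.End A => T c) h2))
      (fun T h1 h2 => by
        ext c
        exact ff _ (congrArg (fun T : AddMonoid.End A => T c) h1) (congrArg (fun T : AddMonoid.End A => T c) h2))
      (fun T h1 h2 => by
        ext c
        exact fe _ (congrArg (fun T : AddMonoid.End A => T c) h1)
          (sq _ (congrArg (fun T : AddMonoid.End A => T c) h2)))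
      (fun T h1 h2 => by
        ext c
        exact ff _ (congrArg (fun T : AddMonoid.End A => T c) h1)
          (sq _ (congrArg (fun T : AddMonoid.End A => T c) h2)))
      (by rw [hb₀, hv, map_mul, map_mul, map_mul]) (by rw [hb₁, map_mul, map_mul])
  -- the images
  set e := eps ρ h a with he
  set f := eps ρ h b with hf
  set D := ρ dd with hD
  set D' := ρ dd⁻¹ with hD'
  have ee : e * e = e := d.eps_idem a
  have ff' : f * f = f := d.eps_idem b
  have ef : e * f = 0 := d.eps_orth hab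
  have fe' : f * e = 0 := d.eps_orth hba
  have DD1 : D * D' = 1 := by rw [hD, hD', ← map_mul, mul_inv_cancel, map_one]
  have DD2 : D' * D = 1 := by rw [hD, hD', ← map_mul, inv_mul_cancel, map_one]
  have De : D * e = e * D := d.commute_DD hddD a
  have Df : D * f = f * D := d.commute_DD hddD b
  have De' : D' * e = e * D' := d.commute_DD (inv_mem hddD) a
  have Df' : D' * f = f * D' := d.commute_DD (inv_mem hddD) b
  have hdi : ∀ y ∈ U, dd⁻¹ * y = y * dd⁻¹ := by
    intro y hy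
    have := hddc y hy
    calc dd⁻¹ * y = dd⁻¹ * (y * dd) * dd⁻¹ := by group
      _ = y * dd⁻¹ := by rw [← this]; group
  have Db : D * (1 + ρ b₀) = (1 + ρ b₀) * D := by
    rw [mul_add, add_mul, mul_one, one_mul, R1 (hddc b₀ cb₀.1)]
  have Db' : D' * (1 + ρ b₀) = (1 + ρ b₀) * D' := by
    rw [mul_add, add_mul, mul_one, one_mul, R1 (hdi b₀ cb₀.1)]
  have split : ∀ T : AddMonoid.End A, T * (1 + (e + f)) = 0 → T = T * e + T * f := by
    intro T hT
    calc T = T + (T * (e + f) + T * (e + f)) := by rw [d.add_self', add_zero]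
      _ = T * (1 + (e + f)) + (T * e + T * f) := by noncomm_ring
      _ = T * e + T * f := by rw [hT, zero_add]
  have surj : ∀ E F : AddMonoid.End A, e * E = E * e → f * F = F * f →
      (∀ c, e c = c → E c = 0 → c = 0) → (∀ c, f c = c → F c = 0 → c = 0) →
      Function.Surjective ⇑(E * e + F * f + (1 + (e + f)) : AddMonoid.End A) := by
    intro E F hE hF hE0 hF0
    refine Finite.surjective_of_injective ?_
    rw [injective_iff_map_eq_zero]
    intro x hx
    have ex : e * (E * e + F * f + (1 + (e + f))) = E * e := by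
      have k1 : e * (E * e) = E * e := by rw [← mul_assoc, hE, mul_assoc, ee]
      have k2 : e * (F * f) = 0 := by rw [← hF, ← mul_assoc, ef, zero_mul]
      have k3 : e * (1 + (e + f)) = 0 := by rw [mul_add, mul_add, ee, ef, mul_one, add_zero, d.add_self']
      rw [mul_add, mul_add, k1, k2, k3, add_zero, add_zero]
    have fx : f * (E * e + F * f + (1 + (e + f))) = F * f := by
      have k1 : f * (F * f) = F * f := by rw [← mul_assoc, hF, mul_assoc, ff']
      have k2 : f * (E * e) = 0 := by rw [← hE, ← mul_assoc, fe', zero_mul]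
      have k3 : f * (1 + (e + f)) = 0 := by rw [mul_add, mul_add, ff', fe', mul_one, zero_add, d.add_self']
      rw [mul_add, mul_add, k1, k2, k3, add_zero, zero_add]
    have h1 : E (e x) = 0 := by
      have := congrArg (fun T : AddMonoid.End A => T x) ex
      change e ((E * e + F * f + (1 + (e + f)) : AddMonoid.End A) x) = E (e x) at this
      rw [← this, hx, map_zero]
    have h2 : F (f x) = 0 := by
      have := congrArg (fun T : AddMonoid.End A => T x) fx
      change f ((E * e + F * f + (1 + (e + f)) : AddMonoid.End A) x) = F (f x) at this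
      rw [← this, hx, map_zero]
    have h3 : e x = 0 := hE0 _ (d.idem_apply a x) h1
    have h4 : f x = 0 := hF0 _ (d.idem_apply b x) h2
    have h5 : E (e x) + F (f x) + (x + (e x + f x)) = 0 := hx
    rw [h3, h4, map_zero, map_zero, zero_add, zero_add, add_zero] at h5
    exact h5
  have zero_of : ∀ (i : Fin k) (T T' : AddMonoid.End A), T' * T = 1 → ∀ c, T c = 0 → c = 0 := by
    intro i T T' hT c hc
    have := congrArg (fun T : AddMonoid.End A => T c) hT
    change T' (T c) = c at this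
    rw [← this, hc, map_zero]
  have him1 : im ρ b₁ = im ρ b₀ := by
    refine range_eq (T := 1 + ρ b₁) (U := 1 + ρ b₀) (V := D' * e + D * f + (1 + (e + f))) ?_
      (surj D' D De'.symm Df.symm (fun c _ => zero_of a D' D DD1 c) (fun c _ => zero_of a D D' DD2 c))
    calc 1 + ρ b₁ = (1 + ρ b₁) * e + (1 + ρ b₁) * f := split _ o6
      _ = D' * (1 + ρ b₀) * e + D * (1 + ρ b₀) * f := by rw [o1, o2]; noncomm_ring
      _ = (1 + ρ b₀) * (D' * e + D * f) + 0 := by rw [Db, Db']; noncomm_ring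
      _ = (1 + ρ b₀) * (D' * e + D * f + (1 + (e + f))) := by rw [← o5]; noncomm_ring
  have him2 : im ρ (b₀ * b₁) = im ρ b₀ := by
    refine range_eq (T := 1 + ρ (b₀ * b₁)) (U := 1 + ρ b₀)
      (V := (1 + D') * e + (1 + D) * f + (1 + (e + f))) ?_
      (surj (1 + D') (1 + D) (by rw [mul_add, add_mul, De', mul_one, one_mul])
        (by rw [mul_add, add_mul, Df, mul_one, one_mul]) ?_ ?_)
    · rw [map_mul]
      calc 1 + ρ b₀ * ρ b₁ = (1 + ρ b₀ * ρ b₁) * e + (1 + ρ b₀ * ρ b₁) * f := split _ o7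
        _ = (1 + D') * (1 + ρ b₀) * e + (1 + D) * (1 + ρ b₀) * f := by rw [o3, o4]; noncomm_ring
        _ = (1 + ρ b₀) * e + D' * (1 + ρ b₀) * e + ((1 + ρ b₀) * f + D * (1 + ρ b₀) * f) := by noncomm_ring
        _ = (1 + ρ b₀) * ((1 + D') * e + (1 + D) * f) + 0 := by rw [Db, Db']; noncomm_ring
        _ = (1 + ρ b₀) * ((1 + D') * e + (1 + D) * f + (1 + (e + f))) := by rw [← o5]; noncomm_ring
    · intro c hc h1
      have h2 : c + ρ dd⁻¹ c = 0 := h1
      refine fe c hc (inv_apply' ?_)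
      calc ρ dd⁻¹ c = (c + c) + ρ dd⁻¹ c := by rw [d.two, zero_add]
        _ = c := by rw [add_assoc, h2, add_zero]
    · intro c hc h1
      have h2 : c + ρ dd c = 0 := h1
      refine ff c hc ?_
      calc ρ dd c = (c + c) + ρ dd c := by rw [d.two, zero_add]
        _ = c := by rw [add_assoc, h2, add_zero]
  exact d.no_four hW (f := b₀) (g := b₁) (memU.1 cb₀.1).1 (memU.1 cb₁.1).1 hb₀2 hb₁2 (cb₀.2 b₁ cb₁.1) hb₀1
    him1.symm (by rw [← cb₀.2 b₁ cb₁.1, him2])

/-- If `W ≠ 1`, then some `w ≠ 1` in `W` commutes with all `h l`, `l ≠ a`. -/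
theorem exists_single (d : AbsD ρ S h Z p) {W : Subgroup N} (hW : IsPGroup 2 W) (hne : W ≠ ⊥)
    (hh : ∀ l, h l ∈ normalizer (W : Set N)) (hfix : ∀ w ∈ W, (∀ l, w * h l = h l * w) → w = 1) :
    ∃ a, ∃ w ∈ W, w ≠ 1 ∧ ∀ l, l ≠ a → w * h l = h l * w := by
  obtain ⟨a, n, hna, w, hw, hw1, hwc⟩ := exists_hyperplane d.prime d.odd d.hcomm d.hp hW hne hh hfix
  by_cases hb : ∃ b, b ≠ a ∧ ¬ p ∣ n b
  · obtain ⟨b, hba, hpb⟩ := hb
    exact (d.real_case hW hh hfix hba hpb hna hw hw1 hwc).elim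
  · push Not at hb
    refine ⟨a, w, hw, hw1, fun l hl => ?_⟩
    obtain ⟨m, hm⟩ := hb l hl
    have h1 := hwc l
    have h2 : h a ^ n l = 1 := by rw [hm, pow_mul, d.hp, one_pow]
    rw [h2, inv_one, mul_one] at h1
    exact h1

end AbsD

end Cfsg.Agent.Omega.IId.ThmCQ

end
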