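import Cfsg.Agent.Mrg.Omega.ThmC.FourDat
import Cfsg.Agent.Mrg.Omega.IITwo.Count
import Cfsg.Agent.Mrg.Omega.IId.LineAct
import Cfsg.Agent.Mrg.Omega.IId.MatchSym
import Cfsg.Agent.Mrg.Omega.ThmC.FourMain
import Cfsg.Agent.Mrg.Omega.FFMutual

section


/-!
# THEOREM C, `q ≥ 4`: the data from a minimal parabolic (helper334)

`M : NatK F S P (zl S P) ⊥ k`, `LS M` = the elements of `S` which act as elements of `SL₂(F)^k`.
-/

set_option autoImplicit false
set_option linter.unusedSectionVars false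

namespace Cfsg.Agent.Omega.ThmC.FourOf

open Subgroup Cfsg Cfsg.Agent.ZN Cfsg.Agent.Omega.IId Cfsg.Agent.Omega.ThmC.Four
open Cfsg.Agent.ZN.ChoiceBase hiding mem_zc
open Cfsg.Agent.Omega.MinPar Cfsg.Agent.Omega.FFThm
open Cfsg.Agent.MinSimple.VModule (le_normalizer_zl mem_zc zc_le zc_le_zl)
open Cfsg.Agent.Lib.SL2Mat
open Cfsg.Agent.Omega.NatPair (ap ap_mul ap_one ap_inv_ap ap_ap_inv exists_ap ap_add ap_inj ap_smul)

universe u

section gen

variable {G : Type u} [Group G]

/-- conjugacy of maximal 2-subgroups of `U` -/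
theorem conj_sylow [Finite G] {U L L' : Subgroup G} (hLU : L ≤ U) (hL'U : L' ≤ U) (hL : IsPGroup 2 L)
    (hL' : IsPGroup 2 L') (hmax : ∀ R : Subgroup G, IsPGroup 2 R → L ≤ R → R ≤ U → R = L)
    (hcard : Nat.card L' = Nat.card L) : ∃ c ∈ U, cj c L' = L := by
  have : Fact (Nat.Prime 2) := ⟨Nat.prime_two⟩
  have h1 : IsPGroup 2 (L.subgroupOf U) := hL.comap_of_injective U.subtype U.subtype_injective
  have h2 : IsPGroup 2 (L'.subgroupOf U) := hL'.comap_of_injective U.subtype U.subtype_injective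
  obtain ⟨T, hT⟩ := h1.exists_le_sylow
  obtain ⟨T', hT'⟩ := h2.exists_le_sylow
  have hTL : (T : Subgroup U).map U.subtype = L := by
    refine hmax _ (T.isPGroup'.map _) ?_ (Subgroup.map_subtype_le _)
    intro x hx
    exact ⟨⟨x, hLU hx⟩, hT (by rw [mem_subgroupOf]; exact hx), rfl⟩
  obtain ⟨g, hg⟩ := MulAction.exists_smul_eq U T' T
  refine ⟨g, g.2, ?_⟩
  refine eq_of_le_of_card_ge ?_ ?_
  · intro x hx
    rw [mem_cj] at hx
    have h3 : (⟨(g : G)⁻¹ * x * g, hL'U hx⟩ : U) ∈ T' := hT' (by rw [mem_subgroupOf]; exact hx)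
    have h4 : g * ⟨(g : G)⁻¹ * x * g, hL'U hx⟩ * g⁻¹ ∈ ((g • T' : Sylow 2 U) : Subgroup U) := by
      rw [Sylow.coe_subgroup_smul, Subgroup.mem_pointwise_smul_iff_inv_smul_mem]
      have h5 : ∀ y : U, (MulAut.conj g)⁻¹ • (g * y * g⁻¹) = y := fun y => by
        rw [MulAut.smul_def, MulAut.conj_inv_apply]
        group
      rw [h5]
      exact h3
    rw [hg] at h4
    rw [← hTL]
    refine ⟨_, h4, ?_⟩
    simp only [Subgroup.coe_subtype, Subgroup.coe_mul, Subgroup.coe_inv]
    group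
  · rw [card_cj, hcard]

theorem eq_one_of_pow {F : Type*} [Field F] [CharP F 2] {a : F} {n : ℕ} (h : a ^ 2 ^ n = 1) : a = 1 := by
  induction n with
  | zero => simpa using h
  | succ n ih =>
    apply ih
    apply eq_one_of_sq
    rw [← pow_two, ← pow_mul, ← pow_succ]
    exact h

end gen

section basic

variable {G : Type u} [Group G] {F : Type} [Field F] {S P : Subgroup G} {k : ℕ} {M : NatK F S P (zl S P) ⊥ k}

/-- the action determines the matrices -/
theorem acts_unique {g : G} {A B : Fin k → Matrix.SpecialLinearGroup (Fin 2) F}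
    (hA : ActsSL M.e (zl S P) ⊥ g A) (hB : ActsSL M.e (zl S P) ⊥ g B) : A = B := by
  funext i
  refine ap_inj fun x => ?_
  obtain ⟨v, hv, hx⟩ := exists_fac M i x
  rw [← hx, ← hA.1 v hv.1 i, hB.1 v hv.1 i]

/-- the matrices determine the action -/
theorem acts_eq {g h : G} (hg : g ∈ P) (hh : h ∈ P) {A : Fin k → Matrix.SpecialLinearGroup (Fin 2) F}
    (hA : ActsSL M.e (zl S P) ⊥ g A) (hB : ActsSL M.e (zl S P) ⊥ h A) {v : G} (hv : v ∈ zl S P) :
    g * v * g⁻¹ = h * v * h⁻¹ :=
  e_inj M (IId.cj_mem hg hv) (IId.cj_mem hh hv) (funext fun i => by rw [hA.1 v hv i, hB.1 v hv i])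

theorem acts_pow {g : G} (hg : g ∈ P) {A : Fin k → Matrix.SpecialLinearGroup (Fin 2) F}
    (hA : ActsSL M.e (zl S P) ⊥ g A) (n : ℕ) : ActsSL M.e (zl S P) ⊥ (g ^ n) (A ^ n) := by
  induction n with
  | zero => rw [pow_zero, pow_zero]; exact acts_one M
  | succ n ih => rw [pow_succ, pow_succ]; exact acts_mul hg ih hA

theorem acts_of_cent {g : G} (hg : g ∈ centralizer (zl S P : Set G)) : ActsSL M.e (zl S P) ⊥ g 1 := by
  refine ⟨fun v hv i => ?_, fun d hd => ?_⟩
  · have h1 := mem_centralizer_iff.1 hg v hv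
    have h2 : g * v * g⁻¹ = v := by rw [← h1]; group
    rw [h2, Pi.one_apply, ap_one]
  · rw [mem_bot] at hd
    rw [hd]
    group

theorem cent_of_acts {g : G} (hg : g ∈ P) (hA : ActsSL M.e (zl S P) ⊥ g 1) :
    g ∈ centralizer (zl S P : Set G) := by
  rw [mem_centralizer_iff]
  intro v hv
  have h1 := acts_eq hg (one_mem P) hA (acts_one M) hv
  have h2 : g * v * g⁻¹ = v := by rw [h1]; group
  calc v * g = (g * v * g⁻¹) * g := by rw [h2]
    _ = g * v := by group

/-- an element of 2-power order of `S` acting as an element of `SL₂(F)^k` is unipotent -/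
theorem exists_up [CharP F 2] (hSP : S ≤ P) (hS : IsPGroup 2 S) {s : G} (hs : s ∈ S)
    {A : Fin k → Matrix.SpecialLinearGroup (Fin 2) F} (hA : ActsSL M.e (zl S P) ⊥ s A) :
    ∀ i, A i = up (ent (A i) 0 1) := by
  intro i
  have hsg : sg M (hSP hs) i = i := by
    rw [← mem_normalizer_fac_iff]
    exact grp_normalizes M Set.univ {i} ⟨hSP hs, A, hA, fun j hj => absurd (Set.mem_univ j) hj⟩
  obtain ⟨v, hv, hve⟩ := exists_fac M i ![1, 0]
  have h10 : ent (A i) 1 0 = 0 := by
    have h1 := (e_conj_line M hSP hs hv.1 i).2 (by rw [hve]; rfl)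
    rw [hsg, hA.1 v hv.1 i, hve, NatPair.ap_one'] at h1
    simpa using h1
  have hap : ∀ j : ℕ, ap ((A i) ^ j) ![1, 0] = ![(ent (A i) 0 0) ^ j, 0] := by
    intro j
    induction j with
    | zero => rw [pow_zero, pow_zero, ap_one]
    | succ j ih =>
      have h2 : ap (A i) ![1, 0] = ent (A i) 0 0 • ![1, 0] := by
        apply NatPair.ext2
        · rw [NatPair.ap_zero']; simp
        · rw [NatPair.ap_one', h10]; simp
      rw [pow_succ, ap_mul, h2, ap_smul, ih]
      apply NatPair.ext2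
      · simp [pow_succ, mul_comm]
      · simp
  obtain ⟨n, hn⟩ := hS ⟨s, hs⟩
  have hn' : s ^ 2 ^ n = 1 := congrArg Subtype.val hn
  have h3 := acts_pow (hSP hs) hA (2 ^ n)
  rw [hn'] at h3
  have h4 := acts_unique h3 (acts_one M)
  have h5 := congrFun h4 i
  have h6 := hap (2 ^ n)
  rw [Pi.pow_apply, Pi.one_apply] at h5
  rw [h5, ap_one] at h6
  have h7 : (ent (A i) 0 0) ^ 2 ^ n = 1 := (congrFun h6 0).symm
  have h00 := eq_one_of_pow h7
  have h11 : ent (A i) 1 1 = 1 := by
    have h8 := det_eq (A i)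
    rw [h00, h10] at h8
    simpa using h8
  apply ext_ent
  · rw [h00, up_00]
  · rw [up_01]
  · rw [h10, up_10]
  · rw [h11, up_11]

/-- elements acting as `up b` centralise the lines -/
theorem comm_lines {g : G} (hg : g ∈ P) {b : Fin k → F} (hA : ActsSL M.e (zl S P) ⊥ g fun i => up (b i)) {v : G}
    (hv : v ∈ lines M Set.univ) : g * v * g⁻¹ = v := by
  refine e_inj M (IId.cj_mem hg hv.1.1) hv.1.1 (funext fun i => ?_)
  rw [hA.1 v hv.1.1 i]
  apply NatPair.ext2
  · rw [NatPair.ap_zero', up_00, up_01, hv.2 i]; ring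
  · rw [NatPair.ap_one', up_10, up_11, hv.2 i]; ring

end basic

section main

variable {G : Type u} [Group G] [Finite G] {F : Type} [Field F] [Finite F] [CharP F 2] {S : Sylow 2 G}
  {P : Subgroup G} {k : ℕ} (M : NatK F (S : Subgroup G) P (zl (S : Subgroup G) P) ⊥ k)

/-- `S^L`: the elements of `S` acting as elements of `SL₂(F)^k` -/
def LS : Subgroup G := (S : Subgroup G) ⊓ grp M Set.univ

variable {M}

theorem LS_le : LS M ≤ S := inf_le_left

theorem grp_univ_normal (hP : P ≤ normalizer (zl (S : Subgroup G) P : Set G)) :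
    P ≤ normalizer (grp M Set.univ : Set G) := by
  intro g hg
  apply normalizer_grp M hg
  rw [part_univ]
  exact hP hg

theorem S_le_normalizer_LS (hSP : (S : Subgroup G) ≤ P) : (S : Subgroup G) ≤ normalizer (LS M : Set G) := by
  have h1 : (S : Subgroup G) ≤ normalizer ((S : Subgroup G) : Set G) := le_normalizer
  have h2 : (S : Subgroup G) ≤ normalizer (grp M Set.univ : Set G) :=
    hSP.trans (grp_univ_normal (le_normalizer_zl _ _))
  intro s hs
  rw [mem_normalizer_iff_cj]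
  rw [LS, cj_inf, cj_eq_of_mem_normalizer (h1 hs), cj_eq_of_mem_normalizer (h2 hs)]

theorem exists_b (hSP : (S : Subgroup G) ≤ P) {s : G} (hs : s ∈ LS M) :
    ∃ b : Fin k → F, ActsSL M.e (zl (S : Subgroup G) P) ⊥ s fun i => up (b i) := by
  obtain ⟨hsS, hsP, A, hA, -⟩ := hs
  refine ⟨fun i => ent (A i) 0 1, ?_⟩
  have h1 : A = fun i => up (ent (A i) 0 1) := funext fun i => exists_up hSP S.isPGroup' hsS hA i
  rwa [← h1]

theorem mem_LS {s : G} (hSP : (S : Subgroup G) ≤ P) (hs : s ∈ (S : Subgroup G))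
    {A : Fin k → Matrix.SpecialLinearGroup (Fin 2) F}
    (hA : ActsSL M.e (zl (S : Subgroup G) P) ⊥ s A) : s ∈ LS M :=
  ⟨hs, hSP hs, A, hA, fun i hi => absurd (Set.mem_univ i) hi⟩

theorem mem_LS_of_cent {s : G} (hSP : (S : Subgroup G) ≤ P) (hs : s ∈ (S : Subgroup G))
    (hc : s ∈ centralizer (zl (S : Subgroup G) P : Set G)) : s ∈ LS M :=
  mem_LS hSP hs (acts_of_cent hc)

/-- `LS` is a maximal 2-subgroup of `grp M univ` -/
theorem LS_max (hSP : (S : Subgroup G) ≤ P) {R : Subgroup G} (hR : IsPGroup 2 R) (h1 : LS M ≤ R)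
    (h2 : R ≤ grp M Set.univ) : R = LS M := by
  obtain ⟨g, hg, hgS⟩ := Half.SymA.exists_conj_le S hSP hR (h2.trans (grp_le M _))
  have h3 : cj g R ≤ LS M := by
    intro x hx
    have hx' := mem_cj.1 hx
    have h4 : x = g * (g⁻¹ * x * g) * g⁻¹ := by group
    refine ⟨?_, ?_⟩
    · rw [h4]
      exact hgS _ hx'
    · rw [h4]
      exact (mem_normalizer_iff.1 (grp_univ_normal (le_normalizer_zl _ _) hg) _).1 (h2 hx')
  symm
  refine eq_of_le_of_card_ge h1 ?_
  calc Nat.card R = Nat.card (cj g R) := (card_cj g R).symm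
    _ ≤ Nat.card (LS M) := Nat.card_le_card_of_injective _ (inclusion_injective h3)

theorem LS_isPGroup : IsPGroup 2 (LS M) := S.isPGroup'.to_le LS_le

/-! ### The ambient facts -/

variable (hc : IsCharacteristicTwoType G) (hP : IsParS (S : Subgroup G) P)

include hc hP

theorem zl_comm' : ∀ x ∈ zl (S : Subgroup G) P, ∀ y ∈ zl (S : Subgroup G) P, x * y = y * x :=
  (Half.amb_of_loc hc S hP.isLoc).comm

theorem V_le_LS : zl (S : Subgroup G) P ≤ LS M := by
  intro v hv
  refine mem_LS_of_cent hP.le ((Half.amb_of_loc hc S hP.isLoc).VT hv) ?_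
  rw [mem_centralizer_iff]
  intro w hw
  exact zl_comm' hc hP w hw v hv

theorem o2_le_LS : o2 P ≤ LS M := by
  have h1 := hP.inf_centralizer S hc
  intro x hx
  rw [← h1] at hx
  exact mem_LS_of_cent hP.le hx.1 hx.2

/-- `C_G(O₂(P)) ≤ O₂(P)` -/
theorem cent_o2 : centralizer (o2 P : Set G) ≤ o2 P := by
  have h0 : P ≤ normalizer (o2 P : Set G) := MinSimple.VModule.le_normalizer_o2 P
  have h1 : o2 (normalizer (o2 P : Set G)) ≤ o2 P := o2_le_o2 S hP.le h0
  have h2 : o2 P ≤ o2 (normalizer (o2 P : Set G)) :=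
    MinSimple.VModule.le_o2 le_normalizer (MinSimple.VModule.o2_isPGroup _) le_rfl
  have h3 := MinSimple.Basic.char2_normalizer hc (MinSimple.VModule.o2_isPGroup P) hP.o2_ne
  refine le_trans (le_inf (centralizer_le_normalizer _) ?_) (h3.trans h1)
  exact centralizer_le h1

theorem cent_LS : centralizer (LS M : Set G) ≤ LS M :=
  (centralizer_le (o2_le_LS hc hP)).trans ((cent_o2 hc hP).trans (o2_le_LS hc hP))

theorem lines_le_zc : lines M Set.univ ≤ zc (LS M) := by
  intro v hv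
  rw [mem_zc]
  refine ⟨V_le_LS hc hP hv.1.1, fun s hs => ?_, ?_⟩
  · obtain ⟨b, hb⟩ := exists_b hP.le hs
    have := comm_lines (hP.le hs.1) hb hv
    calc s * v = (s * v * s⁻¹) * s := by group
      _ = v * s := by rw [this]
  · exact (Half.amb_of_loc hc S hP.isLoc).sq v hv.1.1

theorem zc_S_le : zc (S : Subgroup G) ≤ lines M Set.univ := by
  intro v hv
  have hvV := zc_le_zl _ P hv
  refine ⟨⟨hvV, fun i hi => absurd (Set.mem_univ i) hi⟩, fun i => ?_⟩
  classical
  obtain ⟨t, ht, hact⟩ := M.unip (Function.update 0 i 1)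
  have h1 := (mem_zc.1 hv).2.1 t ht
  have h2 : t * v * t⁻¹ = v := by rw [h1]; group
  have h3 := congrFun (hact.1 v hvV i) 0
  rw [h2, NatPair.ap_zero'] at h3
  simp only [Function.update_self, up_00, up_01, one_mul] at h3
  exact left_eq_add.1 h3

/-- `C_P(V) ∩ N(S^L)` centralises `E = Ω₁ Z(S^L)` -/
theorem cent_E : P ⊓ centralizer (zl (S : Subgroup G) P : Set G) ⊓ normalizer (LS M : Set G) ≤
    centralizer (zc (LS M) : Set G) := by
  have hnor : normalizer (LS M : Set G) ≤ normalizer (zc (LS M) : Set G) :=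
    MinSimple.VModule.normalizer_le_normalizer_zc _
  refine le_centralizer_of_fixed (S := (S : Subgroup G)) (MinSimple.VModule.zc_comm _) (MinSimple.VModule.zc_sq _)
    (inf_le_right.trans hnor) ?_ S.isPGroup' ((S_le_normalizer_LS hP.le).trans hnor) ?_ ?_
  · -- 2-elements
    rintro x ⟨⟨hxP, hxV⟩, hxN⟩ n hn a ha
    have hx2 : IsPGroup 2 (zpowers x) := by
      rintro ⟨y, j, rfl⟩
      refine ⟨n, Subtype.ext ?_⟩
      change (x ^ j) ^ 2 ^ n = 1
      rw [← zpow_natCast, ← zpow_mul, mul_comm j, zpow_mul, zpow_natCast, hn, one_zpow]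
    have hR : IsPGroup 2 (LS M ⊔ zpowers x : Subgroup G) :=
      IsPGroup.to_sup_of_normal_left' LS_isPGroup hx2 (zpowers_le.2 hxN)
    have h1 := LS_max hP.le hR le_sup_left (sup_le inf_le_right (zpowers_le.2
      ⟨hxP, 1, acts_of_cent hxV, fun _ _ => rfl⟩))
    have h2 : x ∈ LS M := by
      rw [← h1]
      exact (le_sup_right : zpowers x ≤ _) (mem_zpowers x)
    exact (mem_zc.1 ha).2.1 x h2
  · -- `S` normalises the group
    have h1 : (S : Subgroup G) ≤ normalizer (P : Set G) := hP.le.trans le_normalizer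
    have h2 : (S : Subgroup G) ≤ normalizer (centralizer (zl (S : Subgroup G) P : Set G) : Set G) := by
      have h3 : (S : Subgroup G) ≤ normalizer (zl (S : Subgroup G) P : Set G) := hP.le.trans (le_normalizer_zl _ _)
      intro s hs
      rw [mem_normalizer_iff_cj, cj_centralizer, cj_eq_of_mem_normalizer (h3 hs)]
    have h3 : (S : Subgroup G) ≤ normalizer (normalizer (LS M : Set G) : Set G) := by
      intro s hs
      rw [mem_normalizer_iff_cj, cj_normalizer, cj_eq_of_mem_normalizer (S_le_normalizer_LS hP.le hs)]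
    intro s hs
    rw [mem_normalizer_iff_cj, cj_inf, cj_inf, cj_eq_of_mem_normalizer (h1 hs), cj_eq_of_mem_normalizer (h2 hs),
      cj_eq_of_mem_normalizer (h3 hs)]
  · -- fixed points
    rintro a ha hfix x ⟨⟨-, hxV⟩, -⟩
    have h1 : a ∈ zc (S : Subgroup G) := by
      rw [mem_zc]
      exact ⟨LS_le (zc_le _ ha), hfix, (mem_zc.1 ha).2.2⟩
    exact (mem_centralizer_iff.1 hxV a (zc_le_zl _ P h1)).symm

/-- elements of `P ∩ N(S^L)` with the same action on `V` have the same action on `E` -/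
theorem act_of_eq {x y : G} (hx : x ∈ P) (hxN : x ∈ normalizer (LS M : Set G)) (hy : y ∈ P)
    (hyN : y ∈ normalizer (LS M : Set G)) {A : Fin k → Matrix.SpecialLinearGroup (Fin 2) F}
    (hA : ActsSL M.e (zl (S : Subgroup G) P) ⊥ x A) (hB : ActsSL M.e (zl (S : Subgroup G) P) ⊥ y A) :
    Act (zc (LS M)) x y := by
  have h1 : y⁻¹ * x ∈ centralizer (zc (LS M) : Set G) := by
    have h0 : y⁻¹ * x ∈ P := mul_mem (inv_mem hy) hx
    have h0' : y⁻¹ * x ∈ normalizer (LS M : Set G) := mul_mem (inv_mem hyN) hxN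
    refine cent_E (M := M) hc hP ⟨⟨h0, cent_of_acts (M := M) h0 ?_⟩, h0'⟩
    have := acts_mul hx (acts_inv hy hB) hA
    rwa [inv_mul_cancel] at this
  intro e he
  have h2 := mem_centralizer_iff.1 h1 e he
  calc x * e * x⁻¹ = y * ((y⁻¹ * x) * e) * x⁻¹ := by group
    _ = y * (e * (y⁻¹ * x)) * x⁻¹ := by rw [h2]
    _ = y * e * y⁻¹ := by group

omit [Finite G] [Finite F] [CharP F 2] hc hP in
/-- an upper triangular matrix normalises the unitriangular group -/
theorem tri_up {A : Matrix.SpecialLinearGroup (Fin 2) F} (hA : ent A 1 0 = 0) (b : F) :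
    A * up b * A⁻¹ = up (ent A 0 0 ^ 2 * b) := by
  have hd := det_eq A
  rw [hA, mul_zero, sub_zero] at hd
  apply mul_right_cancel (b := A)
  rw [inv_mul_cancel_right]
  apply ext_ent
  · rw [ent_mul, ent_mul, up_00, up_10, up_00, up_01, hA]; ring
  · rw [ent_mul, ent_mul, up_01, up_11, up_00, up_01]
    linear_combination (-(ent A 0 0 * b)) * hd
  · rw [ent_mul, ent_mul, up_00, up_10, up_10, up_11, hA]; ring
  · rw [ent_mul, ent_mul, up_01, up_11, up_10, up_11, hA]; ring

/-- the elements of `P` acting as unitriangular elements -/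
def uni (M : NatK F (S : Subgroup G) P (zl (S : Subgroup G) P) ⊥ k) : Subgroup G where
  carrier := {g | g ∈ P ∧ ∃ b : Fin k → F, ActsSL M.e (zl (S : Subgroup G) P) ⊥ g fun i => up (b i)}
  one_mem' := ⟨one_mem P, 0, by
    have : (fun i => up ((0 : Fin k → F) i)) = (1 : Fin k → Matrix.SpecialLinearGroup (Fin 2) F) :=
      funext fun i => up_zero
    rw [this]
    exact acts_one M⟩
  mul_mem' := by
    rintro g h ⟨hg, b, hb⟩ ⟨hh, c, hc⟩
    refine ⟨mul_mem hg hh, b + c, ?_⟩
    have h1 := acts_mul hh hb hc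
    have : ((fun i => up (b i)) * fun i => up (c i)) = fun i => up ((b + c) i) :=
      funext fun i => up_mul _ _
    rwa [this] at h1
  inv_mem' := by
    rintro g ⟨hg, b, hb⟩
    refine ⟨inv_mem hg, -b, ?_⟩
    have h1 := acts_inv hg hb
    have : (fun i => up (b i))⁻¹ = fun i => up ((-b) i) := funext fun i => up_inv _
    rwa [this] at h1

/-- every upper triangular element of `SL₂(F)^k` is induced by an element of `P ∩ N(S^L)` -/
theorem exists_norm (A : Fin k → Matrix.SpecialLinearGroup (Fin 2) F) (hA : ∀ i, ent (A i) 1 0 = 0) :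
    ∃ h ∈ P, h ∈ normalizer (LS M : Set G) ∧ ActsSL M.e (zl (S : Subgroup G) P) ⊥ h A := by
  obtain ⟨g, hg, hgA⟩ := M.lift A
  have hLU : LS M ≤ uni M := fun s hs => ⟨hP.le hs.1, exists_b hP.le hs⟩
  have hL'U : cj g (LS M) ≤ uni M := by
    intro x hx
    rw [mem_cj] at hx
    obtain ⟨b, hb⟩ := exists_b hP.le hx
    have h1 := acts_mul (inv_mem hg) (acts_mul (hP.le hx.1) hgA hb) (acts_inv hg hgA)
    have h2 : g * (g⁻¹ * x * g) * g⁻¹ = x := by group
    rw [h2] at h1
    refine ⟨?_, fun i => ent (A i) 0 0 ^ 2 * b i, ?_⟩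
    · rw [← h2]
      exact mul_mem (mul_mem hg (hP.le hx.1)) (inv_mem hg)
    · have h3 : A * (fun i => up (b i)) * A⁻¹ = fun i => up (ent (A i) 0 0 ^ 2 * b i) :=
        funext fun i => tri_up (hA i) (b i)
      rwa [h3] at h1
  have hmax : ∀ R : Subgroup G, IsPGroup 2 R → LS M ≤ R → R ≤ uni M → R = LS M := by
    intro R hR h1 h2
    refine LS_max hP.le hR h1 fun x hx => ?_
    obtain ⟨h3, b, hb⟩ := h2 hx
    exact ⟨h3, _, hb, fun i hi => absurd (Set.mem_univ i) hi⟩
  obtain ⟨c, ⟨hcP, b, hcb⟩, hcc⟩ := conj_sylow hLU hL'U LS_isPGroup (isPGroup_cj g LS_isPGroup) hmax (card_cj g _)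
  obtain ⟨t, ht, htb⟩ := M.unip b
  have htP := hP.le ht
  have htL : t ∈ LS M := mem_LS hP.le ht htb
  refine ⟨t⁻¹ * c * g, mul_mem (mul_mem (inv_mem htP) hcP) hg, ?_, ?_⟩
  · rw [mem_normalizer_iff_cj, ← cj_cj, ← cj_cj, hcc]
    exact cj_eq_of_mem_normalizer (inv_mem (le_normalizer htL))
  · have h1 := acts_mul hg (acts_mul hcP (acts_inv htP htb) hcb) hgA
    rwa [inv_mul_cancel, one_mul] at h1

/-! ### The torus -/

omit [Finite G] [Finite F] [CharP F 2] hc hP in
theorem dg_pow (t : F) (ht : t ≠ 0) (n : ℕ) : (dg t ht) ^ n = dg (t ^ n) (pow_ne_zero n ht) := by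
  induction n with
  | zero =>
    apply ext_ent <;> simp
  | succ n ih =>
    rw [pow_succ, ih]
    apply ext_ent
    · rw [ent_mul, dg_00, dg_00, dg_01, dg_10, dg_00]; ring
    · rw [ent_mul, dg_00, dg_01, dg_01, dg_01]; ring
    · rw [ent_mul, dg_10, dg_00, dg_11, dg_10, dg_10]; ring
    · rw [ent_mul, dg_10, dg_01, dg_11, dg_11, dg_11]
      rw [pow_succ, mul_inv]; ring

omit [Finite G] [Finite F] [CharP F 2] hc hP in
theorem ap_pow_tri {A : Matrix.SpecialLinearGroup (Fin 2) F} (hA : ent A 1 0 = 0) (j : ℕ) :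
    ap (A ^ j) ![1, 0] = ![(ent A 0 0) ^ j, 0] := by
  induction j with
  | zero => rw [pow_zero, pow_zero, ap_one]
  | succ j ih =>
    have h2 : ap A ![1, 0] = ent A 0 0 • ![1, 0] := by
      apply NatPair.ext2
      · rw [NatPair.ap_zero']; simp
      · rw [NatPair.ap_one', hA]; simp
    rw [pow_succ, ap_mul, h2, ap_smul, ih]
    apply NatPair.ext2
    · simp [pow_succ, mul_comm]
    · simp

/-- `C_V(S^L)` is the sum of the lines -/
theorem mem_lines_of_cent {v : G} (hv : v ∈ zl (S : Subgroup G) P) (h : ∀ s ∈ LS M, s * v = v * s) :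
    v ∈ lines M Set.univ := by
  classical
  refine ⟨⟨hv, fun i hi => absurd (Set.mem_univ i) hi⟩, fun i => ?_⟩
  obtain ⟨t, ht, hact⟩ := M.unip (Function.update 0 i 1)
  have h1 := h t (mem_LS hP.le ht hact)
  have h2 : t * v * t⁻¹ = v := by rw [h1]; group
  have h3 := congrFun (hact.1 v hv i) 0
  rw [h2, NatPair.ap_zero'] at h3
  simp only [Function.update_self, up_00, up_01, one_mul] at h3
  exact left_eq_add.1 h3

/-- elements of `P ∩ N(S^L)` normalise the sum of the lines -/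
theorem norm_lines {x : G} (hx : x ∈ P) (hxN : x ∈ normalizer (LS M : Set G)) {v : G}
    (hv : v ∈ lines M Set.univ) : x * v * x⁻¹ ∈ lines M Set.univ := by
  refine mem_lines_of_cent hc hP (IId.cj_mem hx hv.1.1) fun s hs => ?_
  have h1 : x⁻¹ * s * x ∈ LS M := by
    have := (mem_normalizer_iff.1 (inv_mem hxN) s).1 hs
    rwa [inv_inv] at this
  have h2 := (mem_zc.1 (lines_le_zc hc hP hv)).2.1 _ h1
  calc s * (x * v * x⁻¹) = x * ((x⁻¹ * s * x) * v) * x⁻¹ := by group
    _ = x * (v * (x⁻¹ * s * x)) * x⁻¹ := by rw [h2]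
    _ = x * v * x⁻¹ * s := by group

/-- an element of `P ∩ N(S^L)` acting as `B` is upper triangular -/
theorem tri_of_norm {x : G} (hx : x ∈ P) (hxN : x ∈ normalizer (LS M : Set G))
    {B : Fin k → Matrix.SpecialLinearGroup (Fin 2) F} (hB : ActsSL M.e (zl (S : Subgroup G) P) ⊥ x B) (i : Fin k) :
    ent (B i) 1 0 = 0 := by
  obtain ⟨v, hv, hve⟩ := exists_fac M i ![1, 0]
  have h1 : v ∈ lines M Set.univ := by
    refine ⟨⟨hv.1, fun j hj => absurd (Set.mem_univ j) hj⟩, fun j => ?_⟩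
    by_cases hj : j = i
    · rw [hj, hve]; rfl
    · rw [hv.2 j hj]; rfl
  have h2 := (norm_lines hc hP hx hxN h1).2 i
  rw [hB.1 v hv.1 i, hve, NatPair.ap_one'] at h2
  simpa using h2

end main

end Cfsg.Agent.Omega.ThmC.FourOf

end

section


/-!
# THEOREM C, `q ≥ 4`: elements of `S` which commute with the torus elements of order `p` (helper334)

`t ∈ F` is not fixed by a nontrivial automorphism of 2-power order. An element `s ∈ S` which normalises the factor `l`
and commutes on `line M l` with the multiplication by `t` acts as `up b` on the factor `l` (`act_up`).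
-/

set_option autoImplicit false
set_option linter.unusedSectionVars false

namespace Cfsg.Agent.Omega.ThmC.FourOf

open Subgroup Cfsg Cfsg.Agent.ZN Cfsg.Agent.Omega.IId Cfsg.Agent.Omega.ThmC.Four
open Cfsg.Agent.ZN.ChoiceBase hiding mem_zc
open Cfsg.Agent.Omega.MinPar Cfsg.Agent.Omega.FFThm
open Cfsg.Agent.MinSimple.VModule (le_normalizer_zl mem_zc zc_le zc_le_zl)
open Cfsg.Agent.Lib.SL2Mat
open Cfsg.Agent.Omega.NatPair (ap ap_mul ap_one ap_inv_ap ap_ap_inv exists_ap ap_add ap_inj ap_smul)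

universe u

variable {G : Type u} [Group G] [Finite G] {F : Type} [Field F] [Finite F] [CharP F 2] {S : Sylow 2 G}
  {P : Subgroup G} {k : ℕ} {M : NatK F (S : Subgroup G) P (zl (S : Subgroup G) P) ⊥ k}

/-- semilinearity -/
theorem exists_tau {s : G} (hs : s ∈ P) {l : Fin k} (hsl : s ∈ normalizer (fac M l : Set G)) :
    ∃ τ : F ≃+* F, ∀ v ∈ fac M l, ∀ w ∈ fac M l, ∀ c : F, M.e w l = c • M.e v l →
      M.e (s * w * s⁻¹) l = τ c • M.e (s * v * s⁻¹) l := by
  classical
  have hfac : ∀ {g : G}, g ∈ normalizer (fac M l : Set G) → ∀ v ∈ fac M l, g * v * g⁻¹ ∈ fac M l :=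
    fun hg v hv => (mem_normalizer_iff.1 hg v).1 hv
  choose u hu hue using fun x => exists_fac M l x
  have hu' : ∀ v ∈ fac M l, u (M.e v l) = v := fun v hv => ext_fac M (hu _) hv (hue _)
  let T : (Fin 2 → F) → (Fin 2 → F) := fun x => M.e (s * u x * s⁻¹) l
  let T' : (Fin 2 → F) → (Fin 2 → F) := fun x => M.e (s⁻¹ * u x * s⁻¹⁻¹) l
  have hT : ∀ v ∈ fac M l, T (M.e v l) = M.e (s * v * s⁻¹) l := fun v hv => by
    change M.e (s * u (M.e v l) * s⁻¹) l = _
    rw [hu' v hv]
  have hT' : ∀ v ∈ fac M l, T' (M.e v l) = M.e (s⁻¹ * v * s⁻¹⁻¹) l := fun v hv => by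
    change M.e (s⁻¹ * u (M.e v l) * s⁻¹⁻¹) l = _
    rw [hu' v hv]
  have hsl' : s⁻¹ ∈ normalizer (fac M l : Set G) := inv_mem hsl
  have hadd : ∀ x y, T (x + y) = T x + T y := by
    intro x y
    have h1 : u x * u y = u (x + y) := by
      refine ext_fac M (mul_mem (hu x) (hu y)) (hu _) ?_
      rw [M.mul _ (hu x).1 _ (hu y).1, Pi.add_apply, hue, hue, hue]
    change M.e (s * u (x + y) * s⁻¹) l = M.e (s * u x * s⁻¹) l + M.e (s * u y * s⁻¹) l
    have h2 : s * u (x + y) * s⁻¹ = (s * u x * s⁻¹) * (s * u y * s⁻¹) := by rw [← h1]; group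
    rw [h2, M.mul _ (hfac hsl _ (hu x)).1 _ (hfac hsl _ (hu y)).1, Pi.add_apply]
  have h1 : ∀ x, T' (T x) = x := by
    intro x
    have h2 := hT' _ (hfac hsl _ (hu x))
    change T' (T x) = _ at h2
    rw [h2]
    have h3 : s⁻¹ * (s * u x * s⁻¹) * s⁻¹⁻¹ = u x := by group
    rw [h3, hue]
  have h2 : ∀ x, T (T' x) = x := by
    intro x
    have h2 := hT _ (hfac hsl' _ (hu x))
    change T (T' x) = _ at h2
    rw [h2]
    have h3 : s * (s⁻¹ * u x * s⁻¹⁻¹) * s⁻¹ = u x := by group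
    rw [h3, hue]
  have hn : ∀ A : Matrix.SpecialLinearGroup (Fin 2) F, ∃ B : Matrix.SpecialLinearGroup (Fin 2) F,
      ∀ x, T' (ap A (T x)) = ap B x := by
    intro A
    obtain ⟨h, hh, hA, -⟩ := M.lift (Function.update 1 l A)
    obtain ⟨B, hB⟩ := M.norm s⁻¹ (inv_mem hs) h hh _ hA
    have hhl : h ∈ normalizer (fac M l : Set G) := by
      refine grp_normalizes M {l} {l} ⟨hh, Function.update 1 l A, ⟨hA, fun d hd => ?_⟩, fun i hi => ?_⟩
      · rw [mem_bot] at hd
        rw [hd]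
        group
      · exact Function.update_of_ne hi _ _
    refine ⟨B l, fun x => ?_⟩
    have h3 := hB (u x) (hu x).1 l
    rw [hue] at h3
    rw [← h3]
    have h4 : ap A (T x) = M.e (h * (s * u x * s⁻¹) * h⁻¹) l := by
      rw [hA _ (hfac hsl _ (hu x)).1 l, Function.update_self]
    rw [h4, hT' _ (hfac hhl _ (hfac hsl _ (hu x)))]
    have e : s⁻¹ * (h * (s * u x * s⁻¹) * h⁻¹) * s⁻¹⁻¹ = s⁻¹ * h * s⁻¹⁻¹ * u x * (s⁻¹ * h * s⁻¹⁻¹)⁻¹ := by group
    rw [e]
  obtain ⟨σ, hσ⟩ := NatPair.exists_semi T T' hadd h1 h2 hn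
  obtain ⟨τ, hτ⟩ := NatPair.exists_ringEquiv T T' hadd h1 σ hσ
  refine ⟨τ, fun v hv w hw c hc => ?_⟩
  rw [← hT v hv, ← hT w hw, hc, hτ]

/-- powers -/
theorem tau_pow {s : G} {l : Fin k} (hsl : s ∈ normalizer (fac M l : Set G)) {τ : F ≃+* F}
    (hτ : ∀ v ∈ fac M l, ∀ w ∈ fac M l, ∀ c : F, M.e w l = c • M.e v l →
      M.e (s * w * s⁻¹) l = τ c • M.e (s * v * s⁻¹) l) (j : ℕ) :
    ∀ v ∈ fac M l, ∀ w ∈ fac M l, ∀ c : F, M.e w l = c • M.e v l →
      M.e (s ^ j * w * (s ^ j)⁻¹) l = (τ ^ j) c • M.e (s ^ j * v * (s ^ j)⁻¹) l := by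
  induction j with
  | zero =>
    intro v _ w _ c hc
    simp only [pow_zero, one_mul, inv_one, mul_one]
    exact hc
  | succ j ih =>
    intro v hv w hw c hc
    have hj : s ^ j ∈ normalizer (fac M l : Set G) := pow_mem hsl j
    have h1 := hτ _ ((mem_normalizer_iff.1 hj v).1 hv) _ ((mem_normalizer_iff.1 hj w).1 hw) _ (ih v hv w hw c hc)
    have e1 : ∀ x : G, s ^ (j + 1) * x * (s ^ (j + 1))⁻¹ = s * (s ^ j * x * (s ^ j)⁻¹) * s⁻¹ := fun x => by
      rw [pow_succ']
      group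
    rw [e1, e1, h1, pow_succ']
    rfl

/-- **The field automorphism.** `t ∈ F` is not fixed by a nontrivial automorphism of 2-power order, `s ∈ S` normalises the
factor `l` and commutes on the line with the multiplication by `t`: `s` acts as a root element on the factor `l`. -/
theorem act_up (hSP : (S : Subgroup G) ≤ P) {t : F}
    (ht : ∀ (τ : F ≃+* F) (n : ℕ), τ ^ 2 ^ n = 1 → τ t = t → τ = 1) {s : G} (hs : s ∈ (S : Subgroup G)) {l : Fin k}
    (hsl : s ∈ normalizer (fac M l : Set G))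
    (hst : ∀ v ∈ line M l, ∀ w ∈ line M l, M.e w l = t • M.e v l →
      M.e (s * w * s⁻¹) l = t • M.e (s * v * s⁻¹) l) :
    ∃ b : F, ∀ v ∈ zl (S : Subgroup G) P, M.e (s * v * s⁻¹) l = ap (up b) (M.e v l) := by
  classical
  obtain ⟨τ, hτ⟩ := exists_tau (M := M) (hSP hs) hsl
  have hfac : ∀ j : ℕ, ∀ v ∈ fac M l, s ^ j * v * (s ^ j)⁻¹ ∈ fac M l := fun j v hv =>
    (mem_normalizer_iff.1 (pow_mem hsl j : s ^ j ∈ normalizer (fac M l : Set G)) v).1 hv
  have hfac1 : ∀ v ∈ fac M l, s * v * s⁻¹ ∈ fac M l := fun v hv => (mem_normalizer_iff.1 hsl v).1 hv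
  -- the order of `τ`
  obtain ⟨n, hn⟩ := S.isPGroup' ⟨s, hs⟩
  have hn' : s ^ 2 ^ n = 1 := congrArg Subtype.val hn
  have hτn : τ ^ 2 ^ n = 1 := by
    ext c
    obtain ⟨v, hv, hve⟩ := exists_fac M l ![1, 0]
    obtain ⟨w, hw, hwe⟩ := exists_fac M l (c • ![1, 0])
    have h1 := tau_pow hsl hτ (2 ^ n) v hv w hw c (by rw [hve, hwe])
    rw [hn', one_mul, one_mul, inv_one, mul_one, mul_one, hve, hwe] at h1
    have h2 := congrFun h1 0
    simpa using h2.symm
  -- `τ t = t`
  have hsg : sg M (hSP hs) l = l := (mem_normalizer_fac_iff M (hSP hs)).1 hsl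
  have hline : ∀ v ∈ line M l, s * v * s⁻¹ ∈ line M l := by
    intro v hv
    have h1 := stab_normalizes_line M hSP l ⟨hs, hsl⟩
    exact (mem_normalizer_iff.1 h1 v).1 hv
  obtain ⟨v, hv, hve⟩ := exists_fac M l ![1, 0]
  have hvl : v ∈ line M l := (mem_line M).2 ⟨hv, by rw [hve]; rfl⟩
  have hv1 : v ≠ 1 := by
    intro h
    rw [h, e_one] at hve
    exact zero_ne_one (congrFun hve 0)
  have hsv0 : M.e (s * v * s⁻¹) l 0 ≠ 0 := by
    intro h0
    have h1 := hline v hvl
    have h2 : s * v * s⁻¹ = 1 := by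
      rw [← fac_eq_one M h1.1]
      exact NatPair.ext2 h0 (((mem_line M).1 h1).2)
    apply hv1
    have h3 : v = s⁻¹ * (s * v * s⁻¹) * s := by group
    rw [h3, h2]
    group
  have hτt : τ t = t := by
    obtain ⟨w, hw, hwe⟩ := exists_fac M l (t • ![1, 0])
    have hwl : w ∈ line M l := (mem_line M).2 ⟨hw, by rw [hwe]; simp⟩
    have h1 := hτ v hv w hw t (by rw [hve, hwe])
    have h2 := hst v hvl w hwl (by rw [hve, hwe])
    rw [h2] at h1
    have h3 := congrFun h1 0
    exact (mul_right_cancel₀ hsv0 h3).symm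
  have hτ1 := ht τ n hτn hτt
  subst hτ1
  have hlin : ∀ v ∈ fac M l, ∀ w ∈ fac M l, ∀ c : F, M.e w l = c • M.e v l →
      M.e (s * w * s⁻¹) l = c • M.e (s * v * s⁻¹) l := hτ
  -- the image of `(1, 0)`
  obtain ⟨c, hce⟩ : ∃ c, M.e (s * v * s⁻¹) l = ![c, 0] := by
    refine ⟨M.e (s * v * s⁻¹) l 0, ?_⟩
    apply NatPair.ext2
    · rfl
    · exact ((mem_line M).1 (hline v hvl)).2
  have hcpow : ∀ j : ℕ, M.e (s ^ j * v * (s ^ j)⁻¹) l = ![c ^ j, 0] := by
    intro j
    induction j with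
    | zero => simpa using hve
    | succ j ih =>
      have e1 : s ^ (j + 1) * v * (s ^ (j + 1))⁻¹ = s * (s ^ j * v * (s ^ j)⁻¹) * s⁻¹ := by
        rw [pow_succ']
        group
      rw [e1, hlin v hv _ (hfac j v hv) (c ^ j) (by
        rw [ih, hve]
        apply NatPair.ext2 <;> simp), hce]
      apply NatPair.ext2
      · simp [pow_succ]
      · simp
  have hc1 : c = 1 := by
    have h1 := congrFun (hcpow (2 ^ n)) 0
    rw [hn', one_mul, inv_one, mul_one, hve] at h1
    exact eq_one_of_pow h1.symm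
  rw [hc1] at hce
  -- the image of `(0, 1)`
  obtain ⟨w, hw, hwe⟩ := exists_fac M l ![0, 1]
  obtain ⟨b, d, hbd⟩ : ∃ b d, M.e (s * w * s⁻¹) l = ![b, d] :=
    ⟨_, _, NatPair.ext2 (x := M.e (s * w * s⁻¹) l) (y := ![M.e (s * w * s⁻¹) l 0, M.e (s * w * s⁻¹) l 1]) rfl rfl⟩
  -- the general formula
  have hgen : ∀ x ∈ fac M l, M.e (s * x * s⁻¹) l = ![M.e x l 0 + b * M.e x l 1, d * M.e x l 1] := by
    intro x hx
    obtain ⟨x0, hx0, hx0e⟩ := exists_fac M l (M.e x l 0 • ![1, 0])
    obtain ⟨x1, hx1, hx1e⟩ := exists_fac M l (M.e x l 1 • ![0, 1])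
    have h1 : x = x0 * x1 := by
      refine ext_fac M hx (mul_mem hx0 hx1) ?_
      rw [M.mul _ hx0.1 _ hx1.1, Pi.add_apply, hx0e, hx1e]
      apply NatPair.ext2 <;> simp
    have h2 : s * x * s⁻¹ = (s * x0 * s⁻¹) * (s * x1 * s⁻¹) := by
      conv_lhs => rw [h1]
      group
    rw [h2, M.mul _ (hfac1 _ hx0).1 _ (hfac1 _ hx1).1, Pi.add_apply,
      hlin v hv x0 hx0 (M.e x l 0) (by rw [hx0e, hve]), hlin w hw x1 hx1 (M.e x l 1) (by rw [hx1e, hwe]), hce, hbd]
    apply NatPair.ext2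
    · simp; ring
    · simp; ring
  have hdpow : ∀ j : ℕ, M.e (s ^ j * w * (s ^ j)⁻¹) l 1 = d ^ j := by
    intro j
    induction j with
    | zero => simp [hwe]
    | succ j ih =>
      have e1 : s ^ (j + 1) * w * (s ^ (j + 1))⁻¹ = s * (s ^ j * w * (s ^ j)⁻¹) * s⁻¹ := by
        rw [pow_succ']
        group
      rw [e1, hgen _ (hfac j w hw)]
      change d * M.e (s ^ j * w * (s ^ j)⁻¹) l 1 = _
      rw [ih, pow_succ']
  have hd1 : d = 1 := by
    have h1 := hdpow (2 ^ n)
    rw [hn', one_mul, inv_one, mul_one, hwe] at h1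
    exact eq_one_of_pow h1.symm
  refine ⟨b, fun x hx => ?_⟩
  obtain ⟨y, hy, z, hz, rfl⟩ := exists_comp M hx {l}
  have hz' : z ∈ zl (S : Subgroup G) P := hz.1
  have hzl : M.e z l = 0 := hz.2 l fun h => h rfl
  have h2 : M.e (s * z * s⁻¹) l = 0 := by
    have h3 := (sg_spec M (hSP hs) hz' l).2 hzl
    rwa [hsg] at h3
  have h3 : s * (y * z) * s⁻¹ = (s * y * s⁻¹) * (s * z * s⁻¹) := by group
  have hy' : y ∈ fac M l := hy
  rw [h3, M.mul _ (hfac1 y hy').1 _ (IId.cj_mem (hSP hs) hz'), M.mul _ hy.1 _ hz', Pi.add_apply, Pi.add_apply, h2, hzl,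
    add_zero, add_zero, hgen y hy', hd1]
  apply NatPair.ext2
  · rw [NatPair.ap_zero', up_00, up_01]; simp
  · rw [NatPair.ap_one', up_10, up_11]; simp

end Cfsg.Agent.Omega.ThmC.FourOf

end

section


/-!
# THEOREM C, `q ≥ 4`: the data `Four.Dat` from a minimal parabolic (helper334)

`exists_dat`: for `M : NatK F S P (zl S P) ⊥ k` with `4 ≤ |F|` there are `h : Fin k → G` and a prime `p` with
`Four.Dat S (LS M) (line M) h p`; moreover the `h l` normalise `S^L` and all lines.
-/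

set_option autoImplicit false
set_option linter.unusedSectionVars false

namespace Cfsg.Agent.Omega.ThmC.FourOf

open Subgroup Cfsg Cfsg.Agent.ZN Cfsg.Agent.Omega.IId Cfsg.Agent.Omega.ThmC.Four
open Cfsg.Agent.ZN.ChoiceBase hiding mem_zc
open Cfsg.Agent.Omega.MinPar Cfsg.Agent.Omega.FFThm
open Cfsg.Agent.MinSimple.VModule (le_normalizer_zl mem_zc zc_le zc_le_zl)
open Cfsg.Agent.Lib.SL2Mat
open Cfsg.Agent.Omega.NatPair (ap ap_mul ap_one ap_inv_ap ap_ap_inv exists_ap ap_add ap_inj ap_smul)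

universe u

variable {G : Type u} [Group G] [Finite G] {F : Type} [Field F] [Finite F] [CharP F 2] {S : Sylow 2 G}
  {P : Subgroup G} {k : ℕ}

/-- The torus elements. -/
structure Tor (M : NatK F (S : Subgroup G) P (zl (S : Subgroup G) P) ⊥ k) (t : F) (p : ℕ) (h : Fin k → G) : Prop where
  prime : p.Prime
  odd : p ≠ 2
  ne_one : t ≠ 1
  pow : t ^ p = 1
  ne_zero : t ≠ 0
  field : ∀ (τ : F ≃+* F) (n : ℕ), τ ^ 2 ^ n = 1 → τ t = t → τ = 1
  mem : ∀ l, h l ∈ P
  nor : ∀ l, h l ∈ normalizer (LS M : Set G)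
  act : ∀ l, ActsSL M.e (zl (S : Subgroup G) P) ⊥ (h l) (Function.update 1 l (dg t ne_zero))

variable {M : NatK F (S : Subgroup G) P (zl (S : Subgroup G) P) ⊥ k} {t : F} {p : ℕ} {h : Fin k → G}

theorem exists_tor (hc : IsCharacteristicTwoType G) (hP : IsParS (S : Subgroup G) P) (hF : 4 ≤ Nat.card F) :
    ∃ (t : F) (p : ℕ) (h : Fin k → G), Tor M t p h := by
  classical
  obtain ⟨p, t, hp, hp2, ht1, htp, hf⟩ := exists_t hF
  have ht0 : t ≠ 0 := by
    rintro rfl
    rw [zero_pow hp.ne_zero] at htp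
    exact zero_ne_one htp
  have key : ∀ l : Fin k, ∃ g : G, g ∈ P ∧ g ∈ normalizer (LS M : Set G) ∧
      ActsSL M.e (zl (S : Subgroup G) P) ⊥ g (Function.update 1 l (dg t ht0)) := by
    intro l
    obtain ⟨g, hg, hgn, hga⟩ := exists_norm hc hP (M := M) (Function.update 1 l (dg t ht0)) fun i => by
      by_cases hi : i = l
      · rw [hi, Function.update_self, dg_10]
      · rw [Function.update_of_ne hi, Pi.one_apply]
        simp
    exact ⟨g, hg, hgn, hga⟩
  choose h h1 h2 h3 using key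
  exact ⟨t, p, h, ⟨hp, hp2, ht1, htp, ht0, hf, h1, h2, h3⟩⟩

omit [Finite G] in
theorem conj_mem_cj' {g x : G} {X : Subgroup G} (hx : x ∈ X) : g * x * g⁻¹ ∈ cj g X := by
  rw [mem_cj]
  have e : g⁻¹ * (g * x * g⁻¹) * g = x := by group
  rwa [e]

/-- membership in the normaliser, finite case -/
theorem mem_norm_of_le {X : Subgroup G} {g : G} (hg : ∀ x ∈ X, g * x * g⁻¹ ∈ X) : g ∈ normalizer (X : Set G) := by
  rw [mem_normalizer_iff_cj]
  refine eq_of_le_of_card_ge ?_ (card_cj g X).ge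
  intro x hx
  rw [mem_cj] at hx
  have := hg _ hx
  have e : g * (g⁻¹ * x * g) * g⁻¹ = x := by group
  rwa [e] at this

namespace Tor

variable (T : Tor M t p h)

include T

theorem mem_grp (l : Fin k) : h l ∈ grp M {l} :=
  ⟨T.mem l, _, T.act l, fun _ hi => Function.update_of_ne hi _ _⟩

theorem e_line {l : Fin k} {v : G} (hv : v ∈ line M l) : M.e (h l * v * (h l)⁻¹) l = t • M.e v l := by
  rw [(T.act l).1 v hv.1.1 l, Function.update_self]
  have h1 := ((mem_line M).1 hv).2
  apply NatPair.ext2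
  · rw [NatPair.ap_zero', dg_00, dg_01, h1]; simp
  · rw [NatPair.ap_one', dg_10, dg_11, h1]; simp [h1]

theorem mem_nor (l m : Fin k) : h l ∈ normalizer (line M m : Set G) := by
  refine mem_norm_of_le fun v hv => ?_
  have h1 : h l * v * (h l)⁻¹ ∈ fac M m :=
    (mem_normalizer_iff.1 (grp_normalizes M {l} {m} (T.mem_grp l)) v).1 hv.1
  refine (mem_line M).2 ⟨h1, ?_⟩
  rw [(T.act l).1 v hv.1.1 m]
  by_cases hm : m = l
  · subst hm
    rw [Function.update_self, NatPair.ap_one', dg_10, dg_11, ((mem_line M).1 hv).2]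
    ring
  · rw [Function.update_of_ne hm, Pi.one_apply, ap_one]
    exact ((mem_line M).1 hv).2

theorem comm_fac {l m : Fin k} (hlm : l ≠ m) {v : G} (hv : v ∈ fac M l) : h m * v = v * h m :=
  grp_comm M (Set.disjoint_singleton.2 hlm.symm) (T.mem_grp m) hv

theorem fpf {l : Fin k} {v : G} (hv : v ∈ line M l) (hc : h l * v = v * h l) : v = 1 := by
  have h1 := T.e_line hv
  have h2 : h l * v * (h l)⁻¹ = v := by rw [hc]; group
  rw [h2] at h1
  rw [← fac_eq_one M hv.1]
  apply NatPair.ext2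
  · have h3 := congrFun h1 0
    simp only [Pi.smul_apply, smul_eq_mul] at h3
    have h4 : (t - 1) * M.e v l 0 = 0 := by linear_combination -h3
    rcases mul_eq_zero.1 h4 with h5 | h5
    · exact absurd (sub_eq_zero.1 h5) T.ne_one
    · exact h5
  · exact ((mem_line M).1 hv).2

end Tor

/-- upper triangular matrices of determinant one -/
theorem tri_eq {A : Matrix.SpecialLinearGroup (Fin 2) F} (hA : ent A 1 0 = 0) (ha : ent A 0 0 ≠ 0) :
    A = up (ent A 0 1 * ent A 0 0) * dg (ent A 0 0) ha := by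
  have hd := det_eq A
  rw [hA, mul_zero, sub_zero] at hd
  apply ext_ent
  · rw [ent_mul, up_00, up_01, dg_00, dg_10]; ring
  · rw [ent_mul, up_00, up_01, dg_01, dg_11]
    field_simp
    ring
  · rw [ent_mul, up_10, up_11, dg_00, dg_10, hA]; ring
  · rw [ent_mul, up_10, up_11, dg_01, dg_11]
    field_simp
    linear_combination hd

theorem lines_le_iSup (M : NatK F (S : Subgroup G) P (zl (S : Subgroup G) P) ⊥ k) :
    lines M Set.univ ≤ ⨆ l, line M l := by
  classical
  have key : ∀ I : Finset (Fin k), lines M (I : Set (Fin k)) ≤ ⨆ l, line M l := by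
    intro I
    induction I using Finset.induction_on with
    | empty =>
      intro v hv
      have h1 : v = 1 := by
        rw [← e_eq_zero M hv.1.1]
        funext i
        exact hv.1.2 i (by simp)
      rw [h1]
      exact one_mem _
    | insert i I hi ih =>
      intro v hv
      obtain ⟨a, ha, hae, hav⟩ := exists_component M hv.1.1 i
      have h1 : a ∈ line M i := (mem_line M).2 ⟨ha, by rw [hae]; exact hv.2 i⟩
      have h2 : a⁻¹ * v ∈ lines M (I : Set (Fin k)) := by
        have e1 : ∀ j, M.e (a⁻¹ * v) j = - M.e a j + M.e v j := fun j => by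
          rw [M.mul _ (inv_mem ha.1) _ hv.1.1, e_inv M ha.1]
          rfl
        refine ⟨⟨mul_mem (inv_mem ha.1) hv.1.1, fun j hj => ?_⟩, fun j => ?_⟩
        · by_cases hji : j = i
          · rw [e1, hji, hae]; simp
          · rw [e1, ha.2 j hji, hv.1.2 j (by
              rw [Finset.coe_insert, Set.mem_insert_iff, not_or]
              exact ⟨hji, hj⟩)]
            simp
        · rw [e1, Pi.add_apply, Pi.neg_apply, h1.2 j, hv.2 j]
          simp
      have h3 : v = a * (a⁻¹ * v) := by group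
      rw [h3]
      exact mul_mem ((le_iSup (fun l => line M l) i) h1) (ih h2)
  have := key Finset.univ
  rwa [Finset.coe_univ] at this

/-- the data -/
theorem Tor.dat (hc : IsCharacteristicTwoType G) (hP : IsParS (S : Subgroup G) P) (T : Tor M t p h) :
    Dat S (LS M) (line M) h p where
  prime := T.prime
  odd := T.odd
  LS := LS_le
  nor := S_le_normalizer_LS hP.le
  cL := cent_LS hc hP
  hL := T.nor
  hcomm l m := by
    classical
    refine act_of_eq (M := M) hc hP (mul_mem (T.mem l) (T.mem m)) (mul_mem (T.nor l) (T.nor m))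
      (mul_mem (T.mem m) (T.mem l)) (mul_mem (T.nor m) (T.nor l)) (acts_mul (T.mem m) (T.act l) (T.act m)) ?_
    have h1 := acts_mul (T.mem l) (T.act m) (T.act l)
    have e : (Function.update (1 : Fin k → Matrix.SpecialLinearGroup (Fin 2) F) m (dg t T.ne_zero)) *
        (Function.update (1 : Fin k → Matrix.SpecialLinearGroup (Fin 2) F) l (dg t T.ne_zero)) =
        (Function.update (1 : Fin k → Matrix.SpecialLinearGroup (Fin 2) F) l (dg t T.ne_zero)) *
        (Function.update (1 : Fin k → Matrix.SpecialLinearGroup (Fin 2) F) m (dg t T.ne_zero)) := by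
      by_cases hlm : l = m
      · rw [hlm]
      funext i
      rw [Pi.mul_apply, Pi.mul_apply]
      by_cases hi : i = l
      · have him : i ≠ m := fun h => hlm (hi.symm.trans h)
        rw [Function.update_of_ne him, Pi.one_apply, one_mul, mul_one]
      · rw [Function.update_of_ne hi, Pi.one_apply, one_mul, mul_one]
    rwa [e] at h1
  hp l := by
    classical
    refine act_of_eq (M := M) hc hP (pow_mem (T.mem l) p) (pow_mem (T.nor l) p) (one_mem _) (one_mem _)
      (acts_pow (T.mem l) (T.act l) p) ?_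
    have e : (Function.update 1 l (dg t T.ne_zero) : Fin k → Matrix.SpecialLinearGroup (Fin 2) F) ^ p = 1 := by
      funext i
      rw [Pi.pow_apply, Pi.one_apply]
      by_cases hi : i = l
      · rw [hi, Function.update_self, dg_pow]
        apply ext_ent <;> simp [T.pow]
      · rw [Function.update_of_ne hi, Pi.one_apply, one_pow]
    rw [e]
    exact acts_one M
  perm s hs := by
    classical
    refine ⟨sg M (hP.le hs), fun l => ?_⟩
    have hx : s * h l * s⁻¹ ∈ grp M {sg M (hP.le hs) l} := by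
      have h1 := conj_grp M (hP.le hs) {l}
      rw [Set.image_singleton] at h1
      rw [← h1]
      exact conj_mem_cj' (T.mem_grp l)
    have hxN : s * h l * s⁻¹ ∈ normalizer (LS M : Set G) :=
      mul_mem (mul_mem (S_le_normalizer_LS hP.le hs) (T.nor l)) (inv_mem (S_le_normalizer_LS hP.le hs))
    set m := sg M (hP.le hs) l with hm
    set x := s * h l * s⁻¹ with hxdef
    obtain ⟨hxP, A, hA, hA1⟩ := hx
    have htri := tri_of_norm hc hP hxP hxN hA m
    have hAp : A ^ p = 1 := by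
      have h1 := acts_pow hxP hA p
      have h2 : h l ^ p ∈ centralizer (zl (S : Subgroup G) P : Set G) := by
        refine cent_of_acts (M := M) (pow_mem (T.mem l) p) ?_
        have h3 := acts_pow (T.mem l) (T.act l) p
        have e : (Function.update 1 l (dg t T.ne_zero) : Fin k → Matrix.SpecialLinearGroup (Fin 2) F) ^ p = 1 := by
          funext i
          rw [Pi.pow_apply, Pi.one_apply]
          by_cases hi : i = l
          · rw [hi, Function.update_self, dg_pow]
            apply ext_ent <;> simp [T.pow]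
          · rw [Function.update_of_ne hi, Pi.one_apply, one_pow]
        rwa [e] at h3
      have h3 : x ^ p ∈ centralizer (zl (S : Subgroup G) P : Set G) := by
        have e : x ^ p = s * h l ^ p * s⁻¹ := by
          rw [hxdef, conj_pow]
        rw [e, mem_centralizer_iff]
        intro v hv
        have h4 := mem_centralizer_iff.1 h2 _ (IId.cj_mem' (hP.le hs) hv)
        calc v * (s * h l ^ p * s⁻¹) = s * ((s⁻¹ * v * s) * h l ^ p) * s⁻¹ := by group
          _ = s * (h l ^ p * (s⁻¹ * v * s)) * s⁻¹ := by rw [h4]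
          _ = s * h l ^ p * s⁻¹ * v := by group
      exact acts_unique h1 (acts_of_cent h3)
    have hap : (ent (A m) 0 0) ^ p = 1 := by
      have h1 := ap_pow_tri htri p
      have h2 : A m ^ p = 1 := by
        have := congrFun hAp m
        rwa [Pi.pow_apply, Pi.one_apply] at this
      rw [h2, ap_one] at h1
      exact (congrFun h1 0).symm
    have ha0 : ent (A m) 0 0 ≠ 0 := by
      intro h0
      rw [h0, zero_pow T.prime.ne_zero] at hap
      exact zero_ne_one hap
    -- `a` is a power of `t`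
    have : Fact p.Prime := ⟨T.prime⟩
    have : NeZero p := ⟨T.prime.ne_zero⟩
    have hprim : IsPrimitiveRoot t p := by
      rw [IsPrimitiveRoot.iff_orderOf]
      exact orderOf_eq_prime T.pow T.ne_one
    obtain ⟨r, -, hr⟩ := hprim.eq_pow_of_pow_eq_one hap
    refine ⟨r, ?_⟩
    set b := ent (A m) 0 1 * ent (A m) 0 0 with hb
    obtain ⟨u, hu, hub⟩ := M.unip (Function.update 0 m b)
    have huL : u ∈ LS M := mem_LS hP.le hu hub
    have huN : u ∈ normalizer (LS M : Set G) := le_normalizer huL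
    have h1 : Act (zc (LS M)) x (u * h m ^ r) := by
      refine act_of_eq (M := M) hc hP hxP hxN (mul_mem (hP.le hu) (pow_mem (T.mem m) r))
        (mul_mem huN (pow_mem (T.nor m) r)) hA ?_
      have h2 := acts_mul (pow_mem (T.mem m) r) hub (acts_pow (T.mem m) (T.act m) r)
      have e : (fun i => up ((Function.update 0 m b : Fin k → F) i)) *
          (Function.update 1 m (dg t T.ne_zero) : Fin k → Matrix.SpecialLinearGroup (Fin 2) F) ^ r = A := by
        funext i
        rw [Pi.mul_apply, Pi.pow_apply]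
        by_cases hi : i = m
        · rw [hi, Function.update_self, Function.update_self, dg_pow]
          have h3 := tri_eq htri ha0
          conv_rhs => rw [h3]
          congr 1
          apply ext_ent <;> simp [hr]
        · rw [Function.update_of_ne hi, Function.update_of_ne hi, Pi.one_apply, one_pow, Pi.zero_apply, up_zero,
            mul_one, hA1 i hi]
      rwa [e] at h2
    intro e he
    rw [h1 e he]
    have h3 : h m ^ r * e * (h m ^ r)⁻¹ ∈ zc (LS M) :=
      (mem_normalizer_iff.1 (MinSimple.VModule.normalizer_le_normalizer_zc _ (pow_mem (T.nor m) r)) e).1 he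
    have h4 := (mem_zc.1 h3).2.1 u huL
    calc u * h m ^ r * e * (u * h m ^ r)⁻¹ = (u * (h m ^ r * e * (h m ^ r)⁻¹)) * u⁻¹ := by group
      _ = ((h m ^ r * e * (h m ^ r)⁻¹) * u) * u⁻¹ := by rw [h4]
      _ = h m ^ r * e * (h m ^ r)⁻¹ := by group
  field s hs hcomm := by
    classical
    have hLE : ∀ l, line M l ≤ zc (LS M) := fun l => (lines_mono M (Set.subset_univ _)).trans (lines_le_zc hc hP)
    have hconj : ∀ l, ∀ v ∈ line M l, s * (h l * v * (h l)⁻¹) * s⁻¹ = h l * (s * v * s⁻¹) * (h l)⁻¹ := by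
      intro l v hv
      have h1 := hcomm l v (hLE l hv)
      calc s * (h l * v * (h l)⁻¹) * s⁻¹ = (s * h l) * v * (s * h l)⁻¹ := by group
        _ = (h l * s) * v * (h l * s)⁻¹ := h1
        _ = h l * (s * v * s⁻¹) * (h l)⁻¹ := by group
    have hsg : ∀ l, sg M (hP.le hs) l = l := by
      intro l
      by_contra hne
      obtain ⟨v, hv, hv1⟩ := exists_line M l
      have h1 : s * v * s⁻¹ ∈ line M (sg M (hP.le hs) l) := by
        rw [← conj_line M hP.le hs]
        exact conj_mem_cj' hv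
      have h2 := T.comm_fac (l := sg M (hP.le hs) l) (m := l) hne h1.1
      have h3 := hconj l v hv
      have h4 : h l * (s * v * s⁻¹) * (h l)⁻¹ = s * v * s⁻¹ := by rw [h2]; group
      rw [h4] at h3
      have h5 : h l * v * (h l)⁻¹ = v := by
        have h6 : s * (h l * v * (h l)⁻¹) = s * v := mul_right_cancel h3
        exact mul_left_cancel h6
      apply hv1
      refine T.fpf hv ?_
      calc h l * v = (h l * v * (h l)⁻¹) * h l := by group
        _ = v * h l := by rw [h5]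
    have hsl : ∀ l, s ∈ normalizer (fac M l : Set G) := fun l => (mem_normalizer_fac_iff M (hP.le hs)).2 (hsg l)
    have key : ∀ l, ∃ b : F, ∀ v ∈ zl (S : Subgroup G) P, M.e (s * v * s⁻¹) l = ap (up b) (M.e v l) := by
      intro l
      refine act_up hP.le T.field hs (hsl l) fun v hv w hw hvw => ?_
      have h1 : w = h l * v * (h l)⁻¹ := by
        refine ext_fac M hw.1 ?_ ?_
        · exact ((mem_normalizer_iff.1 (T.mem_nor l l) v).1 hv).1
        · rw [T.e_line hv, hvw]
      have h2 : s * v * s⁻¹ ∈ line M l := by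
        have h3 : s * v * s⁻¹ ∈ line M (sg M (hP.le hs) l) := by
          rw [← conj_line M hP.le hs]
          exact conj_mem_cj' hv
        rwa [hsg] at h3
      rw [h1, hconj l v hv, T.e_line h2]
    choose b hb using key
    refine mem_LS (M := M) hP.le hs (A := fun l => up (b l)) ⟨fun v hv i => hb i v hv, fun d hd => ?_⟩
    rw [mem_bot] at hd
    rw [hd]
    group
  ZE l := (lines_mono M (Set.subset_univ _)).trans (lines_le_zc hc hP)
  Zne l := line_ne_bot (M := M) l
  Znor l := T.mem_nor l l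
  Zfpf l z hz hc := T.fpf hz hc
  Zcent l m hlm z hz := T.comm_fac hlm hz.1
  fix := (zc_S_le hc hP).trans (lines_le_iSup M)

/-- **THEOREM C, `q ≥ 4`, from the statement on the data**: if `W` centralises `Ω₁ Z(S^L)` for every 2-group `W` which
is normalised by `S^L`, the `h l` and the stabiliser of the lines in `S`, then `CC M`. -/
theorem cc_of (hc : IsCharacteristicTwoType G) (hP : IsParS (S : Subgroup G) P) (T : Tor M t p h)
    (hmain : ∀ W : Subgroup G, IsPGroup 2 W → LS M ≤ normalizer (W : Set G) → (∀ l, h l ∈ normalizer (W : Set G)) →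
      (∀ s ∈ (S : Subgroup G), (∀ l, s ∈ normalizer (line M l : Set G)) → s ∈ normalizer (W : Set G)) →
      W ≤ centralizer (zc (LS M) : Set G)) : CC M := by
  intro i l hli
  set W := o2 (normalizer (line M i : Set G)) with hW
  have hNW : normalizer (line M i : Set G) ≤ normalizer (W : Set G) := MinSimple.VModule.le_normalizer_o2 _
  have hCW : centralizer (line M i : Set G) ≤ normalizer (W : Set G) := (centralizer_le_normalizer _).trans hNW
  have hLE : ∀ l, line M l ≤ zc (LS M) := fun l => (lines_mono M (Set.subset_univ _)).trans (lines_le_zc hc hP)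
  have h1 : W ≤ centralizer (zc (LS M) : Set G) := by
    refine hmain W (MinSimple.VModule.o2_isPGroup _) (fun x hx => hCW ?_) (fun m => hNW (T.mem_nor m i))
      fun s hs hst => hNW (hst i)
    rw [mem_centralizer_iff]
    intro v hv
    exact ((mem_zc.1 (hLE i hv)).2.1 x hx).symm
  intro v hv
  rw [mem_centralizer_iff]
  intro w hw
  by_cases hv1 : v = 1
  · rw [hv1, mul_one, one_mul]
  obtain ⟨z, hz, hz1⟩ := exists_line M l
  obtain ⟨g, hg, hgz⟩ := exists_grp M (line_le M l hz) hv hz1 hv1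
  have hgW : g ∈ normalizer (W : Set G) := by
    refine hCW (mem_centralizer_iff.2 fun x hx => ?_)
    exact (grp_comm M (Set.disjoint_singleton.2 hli) hg (line_le M i hx)).symm
  have hw' : g⁻¹ * w * g ∈ W := by
    have := (mem_normalizer_iff.1 (inv_mem hgW) w).1 hw
    rwa [inv_inv] at this
  have h2 := mem_centralizer_iff.1 (h1 hw') z (hLE l hz)
  rw [← hgz]
  calc w * (g * z * g⁻¹) = g * ((g⁻¹ * w * g) * z) * g⁻¹ := by group
    _ = g * (z * (g⁻¹ * w * g)) * g⁻¹ := by rw [h2]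
    _ = g * z * g⁻¹ * w := by group

end Cfsg.Agent.Omega.ThmC.FourOf

end

section


/-!
# THEOREM C, case `q ≥ 4` (bb OMEGA 15545, helper610): from the data in `G` to the data in `N_G(E) / C_G(E)`

* `Dat.abs` : the data `Abs` for the image of `N_G(E)` in `MulAut E`, `E = Ω₁ Z(L)`;
* `Dat.main` : a 2-subgroup `W` normalised by `L`, the `h l` and the elements of `S` which normalise every `⟨h l⟩`
  modulo `C(E)` centralises `E`;
* `Dat.main'` : the same with the stabiliser of all `Z l` in `S`;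
* `cc` : `CC M` for `M : NatK F S P (zl S P) ⊥ k`, `4 ≤ |F|`.
-/

set_option autoImplicit false
set_option linter.unusedSectionVars false

namespace Cfsg.Agent.Omega.ThmC.Four

open Subgroup Cfsg Cfsg.Agent.ZN
open Cfsg.Agent.MinSimple.VModule (mem_zc zc_le zc_comm zc_sq normalizer_le_normalizer_zc le_centralizer_zc
  zc_le_centralizer)

universe u

variable {G : Type u} [Group G] [Finite G]

/-- a proper subgroup of a 2-group is properly contained in its normaliser. -/
theorem exists_grow {T R : Subgroup G} (hT : IsPGroup 2 T) (hRT : R < T) :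
    ∃ x ∈ T, x ∉ R ∧ x ∈ normalizer (R : Set G) := by
  have : Fact (Nat.Prime 2) := ⟨Nat.prime_two⟩
  have : Group.IsNilpotent T := hT.isNilpotent
  have hne : R.subgroupOf T ≠ ⊤ := by
    intro h
    exact hRT.not_ge (subgroupOf_eq_top.1 h)
  have h1 := Group.normalizerCondition_of_isNilpotent (G := T) (R.subgroupOf T) (lt_top_iff_ne_top.2 hne)
  obtain ⟨x, hx1, hx2⟩ := SetLike.exists_of_lt h1
  refine ⟨x, x.2, fun h => hx2 (mem_subgroupOf.2 h), ?_⟩
  rw [mem_normalizer_iff] at hx1 ⊢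
  intro y
  constructor
  · intro hy
    have := (hx1 ⟨y, hRT.le hy⟩).1 (mem_subgroupOf.2 hy)
    simpa [mem_subgroupOf] using this
  · intro hy
    have hyT : y ∈ T := by
      have h3 : (x : G)⁻¹ * ((x : G) * y * (x : G)⁻¹) * x ∈ T :=
        mul_mem (mul_mem (inv_mem x.2) (hRT.le hy)) x.2
      have e : (x : G)⁻¹ * ((x : G) * y * (x : G)⁻¹) * x = y := by group
      rwa [e] at h3
    have := (hx1 ⟨y, hyT⟩).2 (by simpa [mem_subgroupOf] using hy)
    exact mem_subgroupOf.1 this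

theorem Act.symm {E : Subgroup G} {x y : G} (h : Act E x y) : Act E y x := fun e he => (h e he).symm

theorem Act.trans {E : Subgroup G} {x y z : G} (h : Act E x y) (h' : Act E y z) : Act E x z :=
  fun e he => (h e he).trans (h' e he)

namespace Dat

variable {S : Sylow 2 G} {L : Subgroup G} {k : ℕ} {Z : Fin k → Subgroup G} {h : Fin k → G} {p : ℕ}

/-- `N_G(E) → Aut(E)`. -/
noncomputable def phi (E : Subgroup G) : (normalizer (E : Set G) : Subgroup G) →* MulAut E := E.normalizerMonoidHom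

/-- The image of `N_G(E)` in `Aut(E)`. -/
noncomputable abbrev NN (E : Subgroup G) : Subgroup (MulAut E) := (phi E).range

theorem phi_apply {E : Subgroup G} (g : (normalizer (E : Set G) : Subgroup G)) (e : E) :
    ((phi E g e : E) : G) = g * e * (g : G)⁻¹ := rfl

theorem cl_surj (E : Subgroup G) : Function.Surjective (phi E).rangeRestrict := (phi E).rangeRestrict_surjective

theorem cl_eq {E : Subgroup G} {g g' : (normalizer (E : Set G) : Subgroup G)} :
    (phi E).rangeRestrict g = (phi E).rangeRestrict g' ↔ Act E (g : G) g' := by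
  constructor
  · intro hh e he
    have h1 : phi E g = phi E g' := congrArg Subtype.val hh
    have h2 := congrArg (fun f : MulAut E => ((f ⟨e, he⟩ : E) : G)) h1
    exact h2
  · intro hh
    apply Subtype.ext
    apply MulEquiv.ext
    intro e
    apply Subtype.ext
    exact hh e e.2

/-- `E = Ω₁ Z(L)` is commutative. -/
@[reducible] def commE (L : Subgroup G) : CommGroup (zc L) :=
  { (inferInstance : Group (zc L)) with mul_comm := fun a b => Subtype.ext (zc_comm L a a.2 b b.2) }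

attribute [local instance] commE

/-- The action of `NN E` on `E`, written additively. -/
def rho (L : Subgroup G) : NN (zc L) →* AddMonoid.End (Additive (zc L)) where
  toFun n := MonoidHom.toAdditive (n : MulAut (zc L)).toMonoidHom
  map_one' := rfl
  map_mul' _ _ := rfl

theorem rho_apply (L : Subgroup G) (g : (normalizer (zc L : Set G) : Subgroup G)) (e : zc L) :
    ((Additive.toMul (rho L ((phi (zc L)).rangeRestrict g) (Additive.ofMul e)) : zc L) : G) = g * e * (g : G)⁻¹ := rfl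

/-- subgroups of `E`, written additively. -/
def ad (L : Subgroup G) (X : Subgroup G) : AddSubgroup (Additive (zc L)) := Subgroup.toAddSubgroup (X.subgroupOf (zc L))

theorem mem_ad {L X : Subgroup G} {a : Additive (zc L)} : a ∈ ad L X ↔ ((Additive.toMul a : zc L) : G) ∈ X := Iff.rfl

variable (D : Dat S L Z h p)

include D

theorem S_le : (S : Subgroup G) ≤ normalizer (zc L : Set G) := D.nor.trans (normalizer_le_normalizer_zc L)

theorem h_mem (l : Fin k) : h l ∈ normalizer (zc L : Set G) := normalizer_le_normalizer_zc L (D.hL l)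

/-- the image of `h l`. -/
noncomputable abbrev hh (D : Dat S L Z h p) (l : Fin k) : NN (zc L) := (phi (zc L)).rangeRestrict ⟨h l, D.h_mem l⟩

/-- the image of `S`. -/
noncomputable abbrev SS (D : Dat S L Z h p) : Sylow 2 (NN (zc L)) :=
  haveI : Fact (Nat.Prime 2) := ⟨Nat.prime_two⟩
  (S.subtype D.S_le).mapSurjective (cl_surj (zc L))

theorem mem_SS {n : NN (zc L)} : n ∈ (D.SS : Subgroup (NN (zc L))) ↔
    ∃ s, ∃ hs : s ∈ (S : Subgroup G), (phi (zc L)).rangeRestrict ⟨s, D.S_le hs⟩ = n := by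
  constructor
  · rintro ⟨s, hs, rfl⟩
    exact ⟨s, hs, rfl⟩
  · rintro ⟨s, hs, rfl⟩
    exact ⟨⟨s, D.S_le hs⟩, hs, rfl⟩

/-- **the data in `N_G(E) / C_G(E)`** -/
theorem abs : Abs (rho L) D.SS D.hh (fun l => ad L (Z l)) p where
  two a := by
    apply Additive.toMul.injective
    apply Subtype.ext
    have h1 := zc_sq L _ (Additive.toMul a).2
    rw [pow_two] at h1
    exact h1
  inj := by
    intro a b hab
    apply Subtype.ext
    apply MulEquiv.ext
    intro e
    exact congrArg (fun f : AddMonoid.End (Additive (zc L)) => Additive.toMul (f (Additive.ofMul e))) hab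
  prime := D.prime
  odd := D.odd
  hcomm l m := by
    rw [← map_mul, ← map_mul, cl_eq]
    exact D.hcomm l m
  hp l := by
    rw [← map_pow, ← map_one (phi (zc L)).rangeRestrict, cl_eq]
    exact D.hp l
  perm := by
    intro s hs'
    obtain ⟨s, hs, rfl⟩ := D.mem_SS.1 hs'
    obtain ⟨σ, hσ⟩ := D.perm s hs
    refine ⟨σ, fun l => ?_⟩
    obtain ⟨r, hr⟩ := hσ l
    refine ⟨r, ?_⟩
    rw [← map_mul, ← map_inv, ← map_mul, ← map_pow, cl_eq]
    exact hr
  field := by
    intro s hs' hc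
    obtain ⟨s, hs, rfl⟩ := D.mem_SS.1 hs'
    have h1 : s ∈ L := D.field s hs fun l => by
      have := hc l
      rw [← map_mul, ← map_mul, cl_eq] at this
      exact this
    rw [← map_one (phi (zc L)).rangeRestrict, cl_eq]
    intro e he
    have h2 := (mem_zc.1 he).2.1 s h1
    simp [h2]
  Zne l hl := by
    apply D.Zne l
    rw [eq_bot_iff]
    intro z hz
    have h1 : Additive.ofMul (⟨z, D.ZE l hz⟩ : zc L) ∈ ad L (Z l) := hz
    rw [hl, AddSubgroup.mem_bot] at h1
    have h2 := congrArg (fun a : Additive (zc L) => ((Additive.toMul a : zc L) : G)) h1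
    exact h2
  Znor l z hz := by
    rw [mem_ad] at hz ⊢
    exact ((mem_normalizer_iff.1 (D.Znor l)) _).1 hz
  Zfpf l z hz hfix := by
    apply Additive.toMul.injective
    apply Subtype.ext
    refine D.Zfpf l _ hz ?_
    have h1 := congrArg (fun a : Additive (zc L) => ((Additive.toMul a : zc L) : G)) hfix
    have h2 : h l * ((Additive.toMul z : zc L) : G) * (h l)⁻¹ = ((Additive.toMul z : zc L) : G) := h1
    rw [← h2]
    simp only [h2]
    rw [mul_inv_eq_iff_eq_mul] at h2
    exact h2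
  Zcent l m hlm z hz := by
    apply Additive.toMul.injective
    apply Subtype.ext
    have h1 : h m * ((Additive.toMul z : zc L) : G) = ((Additive.toMul z : zc L) : G) * h m := D.Zcent l m hlm _ hz
    change h m * ((Additive.toMul z : zc L) : G) * (h m)⁻¹ = ((Additive.toMul z : zc L) : G)
    rw [h1, mul_inv_cancel_right]
  fix a ha := by
    have h1 : ((Additive.toMul a : zc L) : G) ∈ zc (S : Subgroup G) := by
      refine mem_zc.2 ⟨D.LS (zc_le L (Additive.toMul a).2), fun s hs => ?_, zc_sq L _ (Additive.toMul a).2⟩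
      have h2 := ha _ (D.mem_SS.2 ⟨s, hs, rfl⟩)
      have h3 := congrArg (fun a : Additive (zc L) => ((Additive.toMul a : zc L) : G)) h2
      have h4 : s * ((Additive.toMul a : zc L) : G) * s⁻¹ = ((Additive.toMul a : zc L) : G) := h3
      rw [mul_inv_eq_iff_eq_mul] at h4
      exact h4
    have h2 := D.fix h1
    have h3 : (⨆ l, Z l) ≤ (AddSubgroup.toSubgroup' (⨆ l, ad L (Z l))).map (zc L).subtype := by
      refine iSup_le fun l z hz => ?_
      exact ⟨⟨z, D.ZE l hz⟩, (le_iSup (fun l => ad L (Z l)) l) (show Additive.ofMul (⟨z, D.ZE l hz⟩ : zc L) ∈ _ from hz),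
        rfl⟩
    obtain ⟨b, hb, hb'⟩ := h3 h2
    have h4 : b = Additive.toMul a := Subtype.ext hb'
    rw [h4] at hb
    exact hb

/-- **THEOREM C, case `q ≥ 4`, on the data**: a 2-subgroup `W` normalised by `L`, the `h l` and the elements of `S`
which normalise all `⟨h l⟩` modulo `C(E)` centralises `E = Ω₁ Z(L)`. -/
theorem main {W : Subgroup G} (hW : IsPGroup 2 W) (hLW : L ≤ normalizer (W : Set G))
    (hhW : ∀ l, h l ∈ normalizer (W : Set G))
    (hSW : ∀ s ∈ (S : Subgroup G), (∀ l, ∃ r : ℕ, Act (zc L) (s * h l * s⁻¹) (h l ^ r)) →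
      s ∈ normalizer (W : Set G)) : W ≤ centralizer (zc L : Set G) := by
  by_contra hcon
  -- `L` is a 2-group
  have hL2 : IsPGroup 2 L := S.isPGroup'.to_le D.LS
  have hWL : IsPGroup 2 (W ⊔ L : Subgroup G) := by
    have := IsPGroup.to_sup_of_normal_left' hW hL2 hLW
    exact this
  have hLC : L ≤ centralizer (zc L : Set G) := le_centralizer_zc L
  -- `K = C_W(E)`
  set K : Subgroup G := W ⊓ centralizer (zc L : Set G) with hK
  have hKL : K ⊔ L < W ⊔ L := by
    refine lt_of_le_of_ne (sup_le_sup_right inf_le_left L) fun he => hcon ?_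
    have h1 : K ⊔ L ≤ centralizer (zc L : Set G) := sup_le inf_le_right hLC
    exact (le_sup_left.trans he.ge).trans h1
  obtain ⟨x, hx, hxK, hxn⟩ := exists_grow hWL hKL
  obtain ⟨w, hw, l, hl, rfl⟩ : ∃ w ∈ W, ∃ l ∈ L, w * l = x := by
    have h1 : x ∈ ((W ⊔ L : Subgroup G) : Set G) := hx
    rw [coe_mul_of_right_le_normalizer_left W L hLW] at h1
    obtain ⟨a, ha, b, hb, hab⟩ := h1
    exact ⟨a, ha, b, hb, hab⟩
  have hln : l ∈ normalizer ((K ⊔ L : Subgroup G) : Set G) := le_normalizer (mem_sup_right hl)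
  have hwn : w ∈ normalizer ((K ⊔ L : Subgroup G) : Set G) := by
    have := mul_mem hxn (inv_mem hln)
    rwa [mul_inv_cancel_right] at this
  have hwK : w ∉ centralizer (zc L : Set G) := by
    intro hwc
    exact hxK (mul_mem (mem_sup_left ⟨hw, hwc⟩) (mem_sup_right hl))
  have hzc : zc (K ⊔ L) = zc L := by
    apply le_antisymm
    · intro e he
      have h1 := mem_zc.1 he
      have h2 : e ∈ L := D.cL (mem_centralizer_iff.2 fun y hy => h1.2.1 y (mem_sup_right hy))
      exact mem_zc.2 ⟨h2, fun b hb => h1.2.1 b (mem_sup_right hb), h1.2.2⟩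
    · intro e he
      have h1 := mem_zc.1 he
      refine mem_zc.2 ⟨mem_sup_right h1.1, fun b hb => ?_, h1.2.2⟩
      have h2 : b ∈ centralizer (zc L : Set G) := (sup_le inf_le_right hLC : K ⊔ L ≤ _) hb
      exact (mem_centralizer_iff.1 h2 e he).symm
  have hwE : w ∈ normalizer (zc L : Set G) := by
    have := normalizer_le_normalizer_zc _ hwn
    rwa [hzc] at this
  -- the image of `N_W(E)`
  set WW : Subgroup (NN (zc L)) := (W.subgroupOf (normalizer (zc L : Set G))).map (phi (zc L)).rangeRestrict with hWW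
  have hmem : ∀ {y : G} (hy : y ∈ normalizer (zc L : Set G)), y ∈ normalizer (W : Set G) →
      (phi (zc L)).rangeRestrict ⟨y, hy⟩ ∈ normalizer (WW : Set (NN (zc L))) := by
    intro y hy hyW
    have key : ∀ {y : G} (hy : y ∈ normalizer (zc L : Set G)), y ∈ normalizer (W : Set G) → ∀ n ∈ WW,
        (phi (zc L)).rangeRestrict ⟨y, hy⟩ * n * ((phi (zc L)).rangeRestrict ⟨y, hy⟩)⁻¹ ∈ WW := by
      rintro y hy hyW _ ⟨v, hv, rfl⟩
      rw [← map_inv, ← map_mul, ← map_mul]
      exact mem_map_of_mem _ ((mem_normalizer_iff.1 hyW v).1 hv)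
    rw [mem_normalizer_iff]
    intro n
    refine ⟨key hy hyW n, fun hn => ?_⟩
    have h1 := key (inv_mem hy) (inv_mem hyW) _ hn
    have h2 : (phi (zc L)).rangeRestrict ⟨y⁻¹, inv_mem hy⟩ = ((phi (zc L)).rangeRestrict ⟨y, hy⟩)⁻¹ := by
      rw [← map_inv]; rfl
    rw [h2] at h1
    have e : ((phi (zc L)).rangeRestrict ⟨y, hy⟩)⁻¹ * ((phi (zc L)).rangeRestrict ⟨y, hy⟩ * n *
      ((phi (zc L)).rangeRestrict ⟨y, hy⟩)⁻¹) * ((phi (zc L)).rangeRestrict ⟨y, hy⟩)⁻¹⁻¹ = n := by group
    rwa [e] at h1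
  have hWW2 : IsPGroup 2 WW := (hW.comap_of_injective _ (subtype_injective _)).map _
  have hbot := D.abs.main (W := WW) hWW2 (fun l => hmem (D.h_mem l) (hhW l)) (by
    intro s hs' hc
    obtain ⟨s, hs, rfl⟩ := D.mem_SS.1 hs'
    refine hmem (D.S_le hs) (hSW s hs fun l => ?_)
    obtain ⟨r, hr⟩ := hc l
    refine ⟨r, ?_⟩
    rw [← map_mul, ← map_inv, ← map_mul, ← map_pow, cl_eq] at hr
    exact hr)
  apply hwK
  have h1 : (phi (zc L)).rangeRestrict ⟨w, hwE⟩ ∈ WW := mem_map_of_mem _ (show w ∈ W from hw)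
  rw [hbot, mem_bot, ← map_one (phi (zc L)).rangeRestrict, cl_eq] at h1
  rw [mem_centralizer_iff]
  intro e he
  have h2 := h1 e he
  simp only [OneMemClass.coe_one, one_mul, inv_one, mul_one] at h2
  rw [mul_inv_eq_iff_eq_mul] at h2
  exact h2.symm

/-- the same with the stabiliser of all `Z l`. -/
theorem main' (hZ : ∀ s ∈ (S : Subgroup G), ∀ l, ∃ m, ∀ v, v ∈ Z l ↔ s * v * s⁻¹ ∈ Z m) {W : Subgroup G}
    (hW : IsPGroup 2 W) (hLW : L ≤ normalizer (W : Set G)) (hhW : ∀ l, h l ∈ normalizer (W : Set G))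
    (hSW : ∀ s ∈ (S : Subgroup G), (∀ l, s ∈ normalizer (Z l : Set G)) → s ∈ normalizer (W : Set G)) :
    W ≤ centralizer (zc L : Set G) := by
  refine D.main hW hLW hhW fun s hs hc => hSW s hs fun l => ?_
  obtain ⟨m, hm⟩ := hZ s hs l
  have hml : m = l := by
    by_contra hne
    obtain ⟨r, hr⟩ := hc l
    apply D.Zne l
    rw [eq_bot_iff]
    intro v hv
    rw [mem_bot]
    refine D.Zfpf l v hv ?_
    have h1 := hr _ (D.ZE m ((hm v).1 hv))
    have h2 : ∀ n : ℕ, h l ^ n * (s * v * s⁻¹) * (h l ^ n)⁻¹ = s * v * s⁻¹ := by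
      intro n
      induction n with
      | zero => group
      | succ n ih =>
        have h3 := D.Zcent m l hne _ ((hm v).1 hv)
        calc h l ^ (n + 1) * (s * v * s⁻¹) * (h l ^ (n + 1))⁻¹
            = h l ^ n * (h l * (s * v * s⁻¹) * (h l)⁻¹) * (h l ^ n)⁻¹ := by rw [pow_succ]; group
          _ = s * v * s⁻¹ := by rw [h3, mul_inv_cancel_right, ih]
    rw [h2 r] at h1
    have h4 : s * (h l * v * (h l)⁻¹) * s⁻¹ = s * v * s⁻¹ := by
      calc s * (h l * v * (h l)⁻¹) * s⁻¹ = s * h l * s⁻¹ * (s * v * s⁻¹) * (s * h l * s⁻¹)⁻¹ := by group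
        _ = s * v * s⁻¹ := h1
    have h5 : h l * v * (h l)⁻¹ = v := by
      have := mul_right_cancel (mul_left_cancel (a := s) (b := h l * v * (h l)⁻¹ * s⁻¹) (c := v * s⁻¹) (by
        rw [← mul_assoc, h4, mul_assoc]))
      exact this
    rw [mul_inv_eq_iff_eq_mul] at h5
    exact h5
  rw [hml] at hm
  rw [mem_normalizer_iff]
  exact hm

end Dat

end Cfsg.Agent.Omega.ThmC.Four

namespace Cfsg.Agent.Omega.ThmC.FourOf

open Subgroup Cfsg Cfsg.Agent.ZN Cfsg.Agent.Omega.IId Cfsg.Agent.Omega.ThmC.Four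
open Cfsg.Agent.ZN.ChoiceBase hiding mem_zc
open Cfsg.Agent.Omega.MinPar Cfsg.Agent.Omega.FFThm

universe u

variable {G : Type u} [Group G] [Finite G] {F : Type} [Field F] [Finite F] [CharP F 2] {S : Sylow 2 G}
  {P : Subgroup G} {k : ℕ}

/-- **THEOREM C, case `q ≥ 4`.** -/
theorem cc (hc : IsCharacteristicTwoType G) (hP : IsParS (S : Subgroup G) P)
    (M : NatK F (S : Subgroup G) P (zl (S : Subgroup G) P) ⊥ k) (hF : 4 ≤ Nat.card F) : CC M := by
  obtain ⟨t, p, h, T⟩ := exists_tor (M := M) hc hP hF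
  refine cc_of hc hP T fun W h1 h2 h3 h4 => (T.dat hc hP).main' (fun s hs l => ⟨sg M (hP.le hs) l, fun v => ?_⟩)
    h1 h2 h3 h4
  have h5 := conj_line M hP.le hs l
  have h6 : s * v * s⁻¹ ∈ cj s (line M l) ↔ v ∈ line M l := by
    rw [mem_cj_iff]
    have e : s⁻¹ * (s * v * s⁻¹) * s = v := by group
    rw [e]
  rw [← h5]
  exact h6.symm

end Cfsg.Agent.Omega.ThmC.FourOf

end

section


/-!
# A 2-group `X ≤ N_S(V_i)` which is not trivial on some line `R_l`, `l ≠ i` (helper156; text #19381 (i), (ii))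

There are `n`, `b ≠ 1` in `V^i = ∏_{l ≠ i} V_l` with `[n, X] = {1, b}`.  If `X` normalises `V_l`, then `X` acts on `R_l`
semilinearly, and `|C_{R_l}(N)| = |C_{R_l}(X)|²` for a subgroup `N ≥ C_X(R_l)` of index two (`SemiLine.card_eq`); otherwise
`N ≥ N_X(V_l)` of index two, and `n` is a fixed point of `N` on the sum of the `V_j`, `j ∈ l^N`.
-/

set_option autoImplicit false
set_option linter.unusedSectionVars false

namespace Cfsg.Agent.Omega.IId.BigFour.Orbit2

open Subgroup Cfsg Cfsg.Agent.ZN Cfsg.Agent.Omega.IId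
open Cfsg.Agent.ZN.ChoiceBase hiding mem_zc
open Cfsg.Agent.Omega.MinPar Cfsg.Agent.Omega.FFThm
open Cfsg.Agent.MinSimple.VModule (le_normalizer_zl mem_zc zc_le zc_le_zl)
open Cfsg.Agent.Omega.IId.SemiLine

universe u

/-! ### 2-groups -/

/-- A proper subgroup of a 2-group lies in a subgroup of index 2. -/
theorem exists_index_two {G : Type*} [Group G] [Finite G] {X Y : Subgroup G} (hX : IsPGroup 2 X) (hY : Y ≤ X)
    (hne : Y ≠ X) : ∃ N : Subgroup G, Y ≤ N ∧ N ≤ X ∧ N.relIndex X = 2 := by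
  have := Fact.mk Nat.prime_two
  obtain ⟨n, hn⟩ := IsPGroup.iff_card.1 hX
  have hY2 : IsPGroup 2 (Y.subgroupOf X) := hX.to_subgroup _
  obtain ⟨m, hm⟩ := IsPGroup.iff_card.1 hY2
  have hidx1 : Y.relIndex X ≠ 1 := by
    intro h
    exact hne (le_antisymm hY (relIndex_eq_one.1 h))
  have hcard : Nat.card (Y.subgroupOf X) * Y.relIndex X = Nat.card X := card_mul_index _
  have hmn : m < n := by
    have hpos : 0 < Y.relIndex X := Nat.pos_of_ne_zero (index_ne_zero_of_finite)
    rw [hm, hn] at hcard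
    have h1 : 2 ^ m < 2 ^ n := by
      rw [← hcard]
      have : 2 ≤ Y.relIndex X := by omega
      calc 2 ^ m < 2 ^ m * 2 := by
            have : 0 < 2 ^ m := by positivity
            omega
        _ ≤ 2 ^ m * Y.relIndex X := Nat.mul_le_mul_left _ this
    exact (Nat.pow_lt_pow_iff_right (by norm_num)).1 h1
  obtain ⟨K, hK, hHK⟩ := Sylow.exists_subgroup_card_pow_prime_le (G := X) 2 (n := m) (m := n - 1)
    (by rw [hn]; exact pow_dvd_pow 2 (by omega)) (Y.subgroupOf X) hm (by omega)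
  have hidx : K.index = 2 := by
    have h1 := K.card_mul_index
    rw [hK, hn] at h1
    have h2 : 2 ^ n = 2 ^ (n - 1) * 2 := by
      rw [← pow_succ]
      congr 1
      omega
    rw [h2] at h1
    exact Nat.eq_of_mul_eq_mul_left (by positivity) h1
  refine ⟨K.map X.subtype, ?_, ?_, ?_⟩
  · intro h hh
    exact ⟨⟨h, hY hh⟩, hHK (by rw [mem_subgroupOf]; exact hh), rfl⟩
  · rintro _ ⟨k, _, rfl⟩
    exact k.2
  · have h3 : (K.map X.subtype).subgroupOf X = K := by
      ext x
      rw [mem_subgroupOf, mem_map]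
      constructor
      · rintro ⟨y, hy, he⟩
        have : y = x := Subtype.ext he
        rwa [← this]
      · intro hx
        exact ⟨x, hx, rfl⟩
    rw [relIndex, h3, hidx]

/-- If `N` has index 2 in `X` and centralises `n`, then `[n, X] ⊆ {1, [n, x₀]}`. -/
theorem two_values {G : Type*} [Group G] {X N : Subgroup G} (h2 : N.relIndex X = 2) {n x₀ : G}
    (hN : ∀ y ∈ N, y * n * y⁻¹ = n) (hx₀ : x₀ ∈ X) (hne : x₀ * n * x₀⁻¹ ≠ n) :
    ∀ x ∈ X, n * x * n⁻¹ * x⁻¹ = 1 ∨ n * x * n⁻¹ * x⁻¹ = n * x₀ * n⁻¹ * x₀⁻¹ := by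
  intro x hx
  have hx₀N : x₀ ∉ N := fun h => hne (hN _ h)
  have hc : ∀ y ∈ N, y * n⁻¹ * y⁻¹ = n⁻¹ := by
    intro y hy
    have := hN y hy
    calc y * n⁻¹ * y⁻¹ = (y * n * y⁻¹)⁻¹ := by group
      _ = n⁻¹ := by rw [this]
  by_cases hxN : x ∈ N
  · left
    have h3 := hc x hxN
    calc n * x * n⁻¹ * x⁻¹ = n * (x * n⁻¹ * x⁻¹) := by group
      _ = 1 := by rw [h3, mul_inv_cancel]
  · right
    have h3 : x₀⁻¹ * x ∈ N := by
      have h4 := (mul_mem_iff_of_index_two (H := N.subgroupOf X) h2 (a := ⟨x₀⁻¹, inv_mem hx₀⟩) (b := ⟨x, hx⟩))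
      rw [mem_subgroupOf, mem_subgroupOf, mem_subgroupOf] at h4
      refine h4.2 ⟨fun h => absurd (by simpa using h) hx₀N, fun h => absurd h hxN⟩
    have h5 := hc _ h3
    have e : x = x₀ * (x₀⁻¹ * x) := by group
    calc n * x * n⁻¹ * x⁻¹ = n * x₀ * ((x₀⁻¹ * x) * n⁻¹ * (x₀⁻¹ * x)⁻¹) * x₀⁻¹ := by group
      _ = n * x₀ * n⁻¹ * x₀⁻¹ := by rw [h5]

variable {G : Type u} [Group G] [Finite G] {F : Type} [Field F] [Finite F] [CharP F 2] {S : Sylow 2 G}
  {P : Subgroup G} {k : ℕ} (M : NatK F (S : Subgroup G) P (zl (S : Subgroup G) P) ⊥ k)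

/-! ### The coordinates of a line -/

/-- coordinates on `line M l` -/
noncomputable def lineF (l : Fin k) : LineF F (line M l) where
  e x := (exists_fac M l ![x, 0]).choose
  add x y := by
    have hx := (exists_fac M l ![x, 0]).choose_spec
    have hy := (exists_fac M l ![y, 0]).choose_spec
    have hxy := (exists_fac M l ![x + y, 0]).choose_spec
    refine ext_fac M hxy.1 (mul_mem hx.1 hy.1) ?_
    rw [hxy.2, M.mul _ hx.1.1 _ hy.1.1, Pi.add_apply, hx.2, hy.2]
    ext j
    fin_cases j <;> simp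
  inj x y h := by
    have hx := (exists_fac M l ![x, 0]).choose_spec
    have hy := (exists_fac M l ![y, 0]).choose_spec
    have h1 := hx.2.symm.trans ((congrArg (fun g => M.e g l) h).trans hy.2)
    exact congrFun h1 0
  mem g := by
    constructor
    · intro hg
      rw [mem_line] at hg
      refine ⟨M.e g l 0, ?_⟩
      have hx := (exists_fac M l ![M.e g l 0, 0]).choose_spec
      refine ext_fac M hx.1 hg.1 ?_
      rw [hx.2]
      ext j
      fin_cases j
      · rfl
      · simpa using hg.2.symm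
    · rintro ⟨x, rfl⟩
      have hx := (exists_fac M l ![x, 0]).choose_spec
      rw [mem_line]
      refine ⟨hx.1, ?_⟩
      rw [hx.2]
      rfl

theorem lineF_spec (l : Fin k) (x : F) : (lineF M l).e x ∈ fac M l ∧ M.e ((lineF M l).e x) l = ![x, 0] :=
  (exists_fac M l ![x, 0]).choose_spec

/-- The elements of `stab M l` act semilinearly on the line. -/
theorem semi (hSP : (S : Subgroup G) ≤ P) {l : Fin k} {s : G} (hs : s ∈ stab M l) : (lineF M l).Semi s := by
  obtain ⟨τ, hτ⟩ := ThmC.FourOf.exists_tau (M := M) (hSP hs.1) hs.2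
  have hline : ∀ v ∈ line M l, s * v * s⁻¹ ∈ line M l := fun v hv =>
    (mem_normalizer_iff.1 (stab_normalizes_line M hSP l hs) v).1 hv
  have h1 := lineF_spec M l 1
  have h1l : (lineF M l).e 1 ∈ line M l := (lineF M l).e_mem 1
  have h2 := hline _ h1l
  rw [mem_line] at h2
  refine ⟨M.e (s * (lineF M l).e 1 * s⁻¹) l 0, τ, fun x => ?_⟩
  have hx := lineF_spec M l x
  have hxl : (lineF M l).e x ∈ line M l := (lineF M l).e_mem x
  have h3 := hline _ hxl
  rw [mem_line] at h3
  have h4 := lineF_spec M l (M.e (s * (lineF M l).e 1 * s⁻¹) l 0 * τ x)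
  refine ext_fac M h3.1 h4.1 ?_
  have h5 := hτ _ h1.1 _ hx.1 x (by
    rw [hx.2, h1.2]
    ext j
    fin_cases j <;> simp)
  rw [h4.2, h5]
  ext j
  fin_cases j
  · simp [mul_comm]
  · simp [h2.2]

/-- **Case 1**: `X` normalises `V_l`. -/
theorem exists_one (hSP : (S : Subgroup G) ≤ P) {l : Fin k} {X : Subgroup G} (hX : X ≤ stab M l)
    (hne : ∃ r ∈ line M l, ∃ x ∈ X, x * r * x⁻¹ ≠ r) :
    ∃ N : Subgroup G, N ≤ X ∧ N.relIndex X = 2 ∧ ∃ n ∈ line M l, (∀ y ∈ N, y * n * y⁻¹ = n) ∧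
      ∃ x₀ ∈ X, x₀ * n * x₀⁻¹ ≠ n := by
  have hX2 : IsPGroup 2 X := S.isPGroup'.to_le (hX.trans (stab_le M l))
  obtain ⟨r, hr, x, hx, hxr⟩ := hne
  set R := line M l with hR
  set C := X ⊓ centralizer (R : Set G) with hC
  have hCX : C ≠ X := by
    intro h
    have h1 : x ∈ C := by rw [h]; exact hx
    have h2 := mem_centralizer_iff.1 h1.2 r hr
    apply hxr
    rw [← h2, mul_inv_cancel_right]
  obtain ⟨N, hCN, hNX, hN2⟩ := exists_index_two hX2 inf_le_left hCX
  refine ⟨N, hNX, hN2, ?_⟩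
  have hsX : ∀ a ∈ X, (lineF M l).Semi a := fun a ha => semi M hSP (hX ha)
  have e1 := (lineF M l).card_eq X hsX hX2
  have e2 := (lineF M l).card_eq N (fun a ha => hsX a (hNX ha)) (hX2.to_le hNX)
  have hCC : N ⊓ centralizer (R : Set G) = C := by
    apply le_antisymm
    · exact inf_le_inf_right _ hNX
    · exact le_inf hCN inf_le_right
  rw [← hR] at e1 e2
  rw [hCC] at e2
  rw [← hC] at e1
  have h3 : C.relIndex N * N.relIndex X = C.relIndex X := relIndex_mul_relIndex C N X hCN hNX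
  rw [hN2] at h3
  have hpos : 0 < C.relIndex N := Nat.pos_of_ne_zero index_ne_zero_of_finite
  set a := Nat.card ↥(R ⊓ centralizer (X : Set G)) with ha
  set b := Nat.card ↥(R ⊓ centralizer (N : Set G)) with hb
  have h4 : b ^ C.relIndex N = (a * a) ^ C.relIndex N := by
    rw [← e2, e1, ← h3, mul_comm (C.relIndex N) 2, pow_mul, pow_two]
  have h5 : b = a * a := Nat.pow_left_injective hpos.ne' h4
  have ha1 : a ≠ 1 := by
    intro h
    rw [h, one_pow] at e1
    have h6 : R = ⊥ := Subgroup.card_eq_one.1 e1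
    rw [h6, mem_bot] at hr
    apply hxr
    rw [hr]; group
  have hapos : 0 < a := Nat.card_pos
  have hab : a < b := by
    rw [h5]
    have : 2 ≤ a := by omega
    nlinarith
  obtain ⟨n, hn, hn'⟩ : ∃ n ∈ R ⊓ centralizer (N : Set G), n ∉ R ⊓ centralizer (X : Set G) := by
    by_contra hcon
    push Not at hcon
    have : b ≤ a := Nat.card_le_card_of_injective (inclusion hcon) (inclusion_injective hcon)
    omega
  refine ⟨n, hn.1, fun y hy => ?_, ?_⟩
  · have := mem_centralizer_iff.1 hn.2 y hy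
    rw [this, mul_inv_cancel_right]
  · by_contra hcon
    push Not at hcon
    apply hn'
    refine ⟨hn.1, mem_centralizer_iff.2 fun y hy => ?_⟩
    have := hcon y hy
    calc y * n = y * n * y⁻¹ * y := by group
      _ = n * y := by rw [this]

/-- A 2-group which normalises a nontrivial 2-group has a nontrivial fixed point. -/
theorem exists_fix {N W : Subgroup G} (hN : IsPGroup 2 N) (hW : IsPGroup 2 W) (hne : W ≠ ⊥)
    (hn : N ≤ normalizer (W : Set G)) : ∃ n ∈ W, n ≠ 1 ∧ ∀ y ∈ N, y * n * y⁻¹ = n := by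
  have := Fact.mk Nat.prime_two
  let act : MulAction N W :=
    { smul := fun y w => ⟨(y : G) * w * (y : G)⁻¹, (mem_normalizer_iff.1 (hn y.2) _).1 w.2⟩
      one_smul := fun w => Subtype.ext (by change (1 : G) * w * (1 : G)⁻¹ = w; group)
      mul_smul := fun a b w => Subtype.ext (by
        change ((a * b : N) : G) * w * ((a * b : N) : G)⁻¹ = a * (b * w * (b : G)⁻¹) * (a : G)⁻¹
        rw [Subgroup.coe_mul]; group) }
  have hdvd : 2 ∣ Nat.card W := by
    obtain ⟨m, hm⟩ := IsPGroup.iff_card.1 hW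
    rcases Nat.eq_zero_or_pos m with h0 | h0
    · rw [h0, pow_zero] at hm
      exact absurd (Subgroup.card_eq_one.1 hm) hne
    · rw [hm]; exact dvd_pow_self 2 h0.ne'
  have h0 : (1 : W) ∈ MulAction.fixedPoints N W := by
    intro a
    apply Subtype.ext
    change (a : G) * 1 * (a : G)⁻¹ = 1
    group
  obtain ⟨b, hb, hb0⟩ := hN.exists_fixed_point_of_prime_dvd_card_of_fixed_point W hdvd h0
  refine ⟨b, b.2, fun h => hb0.symm (Subtype.ext h), fun y hy => ?_⟩
  exact congrArg Subtype.val (hb ⟨y, hy⟩)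

/-- **Case 2**: `X` does not normalise `V_l`. -/
theorem exists_two (hSP : (S : Subgroup G) ≤ P) {i l : Fin k} (hl : l ≠ i) {X : Subgroup G} (hX : X ≤ stab M i)
    (hne : ¬ X ≤ normalizer (fac M l : Set G)) :
    ∃ N : Subgroup G, N ≤ X ∧ N.relIndex X = 2 ∧ ∃ n ∈ part M {i}ᶜ, (∀ y ∈ N, y * n * y⁻¹ = n) ∧
      ∃ x₀ ∈ X, x₀ * n * x₀⁻¹ ≠ n := by
  have hXS : X ≤ S := hX.trans (stab_le M i)
  have hX2 : IsPGroup 2 X := S.isPGroup'.to_le hXS
  obtain ⟨N, hYN, hNX, hN2⟩ := exists_index_two (Y := X ⊓ normalizer (fac M l : Set G)) hX2 inf_le_left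
    (fun h => hne (inf_eq_left.1 h))
  refine ⟨N, hNX, hN2, ?_⟩
  have hXP : X ≤ P := hXS.trans hSP
  have hNP : N ≤ P := hNX.trans hXP
  -- the orbit
  set O : Set (Fin k) := {j | ∃ (y : G) (hy : y ∈ N), sg M (hNP hy) l = j} with hO
  have hlO : l ∈ O := ⟨1, one_mem _, by rw [sg_eq_iff]; exact cj_one _⟩
  have hsgmul : ∀ {a b : G} (ha : a ∈ P) (hb : b ∈ P) (j : Fin k), sg M (mul_mem ha hb) j = sg M ha (sg M hb j) := by
    intro a b ha hb j
    rw [sg_eq_iff, ← cj_cj, conj_fac M hb, conj_fac M ha]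
  have hmove : ∀ {y : G} (hy : y ∈ N) {j : Fin k}, j ∈ O → sg M (hNP hy) j ∈ O := by
    rintro y hy j ⟨x, hx, rfl⟩
    exact ⟨y * x, mul_mem hy hx, hsgmul _ _ _⟩
  have hiO : O ⊆ {i}ᶜ := by
    rintro j ⟨y, hy, rfl⟩ hj
    have hyi : sg M (hNP hy) i = i := (mem_normalizer_fac_iff M (hNP hy)).1 (hX (hNX hy)).2
    rw [Set.mem_singleton_iff] at hj
    exact hl ((sg M (hNP hy)).injective (hj.trans hyi.symm))
  have hnorm : N ≤ normalizer (part M O : Set G) := by
    intro y hy
    rw [mem_normalizer_iff_cj, conj_part M (hNP hy)]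
    congr 1
    apply Set.eq_of_subset_of_ncard_le
    · rintro _ ⟨j, hj, rfl⟩
      exact hmove hy hj
    · rw [Set.ncard_image_of_injective _ (sg M (hNP hy)).injective]
    · exact Set.toFinite _
  have hW : IsPGroup 2 (part M O) := by
    have h1 : IsPGroup 2 (zl (S : Subgroup G) P) := by
      intro v
      refine ⟨1, Subtype.ext ?_⟩
      have := sq M v.2
      change (v : G) ^ 2 ^ 1 = 1
      rw [pow_one, pow_two]; exact this
    exact h1.to_le (part_le M O)
  have hWne : part M O ≠ ⊥ := by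
    intro h
    have h1 : fac M l ≤ ⊥ := h ▸ part_mono M (Set.singleton_subset_iff.2 hlO)
    exact fac_ne_bot M l (le_bot_iff.1 h1)
  obtain ⟨n, hn, hn1, hfix⟩ := exists_fix (hX2.to_le hNX) hW hWne hnorm
  have hnV : n ∈ zl (S : Subgroup G) P := hn.1
  -- all the components in the orbit are nontrivial
  have hcomp : M.e n l ≠ 0 := by
    intro h
    apply hn1
    rw [← e_eq_zero M hnV]
    funext j
    by_cases hj : j ∈ O
    · obtain ⟨y, hy, rfl⟩ := hj
      have h1 := (sg_spec M (hNP hy) hnV l).2 h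
      rwa [hfix y hy] at h1
    · exact hn.2 j hj
  refine ⟨n, part_mono M hiO hn, hfix, ?_⟩
  -- an element outside `N`
  obtain ⟨x, hx, hxN⟩ : ∃ x ∈ X, x ∉ N := by
    by_contra hcon
    push Not at hcon
    have h1 : N.relIndex X = 1 := relIndex_eq_one.2 hcon
    omega
  refine ⟨x, hx, fun h => hxN ?_⟩
  have h1 : sg M (hXP hx) l ∈ O := by
    by_contra hj
    have h2 := hn.2 _ hj
    rw [← h] at h2
    exact hcomp ((sg_spec M (hXP hx) hnV l).1 h2)
  obtain ⟨y, hy, hyl⟩ := h1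
  have h3 : y⁻¹ * x ∈ X ⊓ normalizer (fac M l : Set G) := by
    refine mem_inf.2 ⟨mul_mem (inv_mem (hNX hy)) hx, ?_⟩
    rw [mem_normalizer_iff_cj, ← cj_cj, conj_fac M (hXP hx), ← hyl, ← conj_fac M (hNP hy),
      cj_cj, inv_mul_cancel, cj_one]
  have h4 := mul_mem hy (hYN h3)
  rwa [mul_inv_cancel_left] at h4

/-- **(i), (ii) of #19381.** -/
theorem exists_orbit_two (hSP : (S : Subgroup G) ≤ P) {i : Fin k} {X : Subgroup G} (hX : X ≤ stab M i)
    (hne : ∃ l, l ≠ i ∧ ∃ r ∈ line M l, ∃ x ∈ X, x * r * x⁻¹ ≠ r) :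
    ∃ n b, n ∈ part M {i}ᶜ ∧ b ∈ part M {i}ᶜ ∧ b ≠ 1 ∧ (∃ x ∈ X, n * x * n⁻¹ * x⁻¹ = b) ∧
      ∀ x ∈ X, n * x * n⁻¹ * x⁻¹ = 1 ∨ n * x * n⁻¹ * x⁻¹ = b := by
  obtain ⟨l, hl, hr⟩ := hne
  obtain ⟨N, hNX, hN2, n, hn, hfix, x₀, hx₀, hx₀n⟩ : ∃ N : Subgroup G, N ≤ X ∧ N.relIndex X = 2 ∧
      ∃ n ∈ part M {i}ᶜ, (∀ y ∈ N, y * n * y⁻¹ = n) ∧ ∃ x₀ ∈ X, x₀ * n * x₀⁻¹ ≠ n := by
    by_cases hn : X ≤ normalizer (fac M l : Set G)
    · obtain ⟨N, hNX, hN2, n, hn, h⟩ := exists_one M hSP (le_inf (hX.trans (stab_le M i)) hn) hr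
      refine ⟨N, hNX, hN2, n, ?_, h⟩
      exact part_mono M (Set.singleton_subset_iff.2 (by simpa using hl)) (line_le M l hn)
    · exact exists_two M hSP hl hX hn
  refine ⟨n, n * x₀ * n⁻¹ * x₀⁻¹, hn, ?_, ?_, ⟨x₀, hx₀, rfl⟩, two_values hN2 hfix hx₀ hx₀n⟩
  · have h1 : x₀ * n⁻¹ * x₀⁻¹ ∈ part M {i}ᶜ :=
      (mem_normalizer_iff.1 (stab_normalizes_compl M hSP i (hX hx₀)) _).1 (inv_mem hn)
    have h2 := mul_mem hn h1
    have e : n * (x₀ * n⁻¹ * x₀⁻¹) = n * x₀ * n⁻¹ * x₀⁻¹ := by group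
    rwa [e] at h2
  · intro h
    apply hx₀n
    have e : n * x₀ * n⁻¹ * x₀⁻¹ = n * (x₀ * n * x₀⁻¹)⁻¹ := by group
    rw [e, mul_inv_eq_one] at h
    exact h.symm

end Cfsg.Agent.Omega.IId.BigFour.Orbit2

end
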