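import Cfsg.Agent.MinSimple.VModule

section


/-!
# THEOREM C, case `q ≥ 4` (bb OMEGA 15545, helper610): the data

* `Dat S L E Z h p` : the situation in `G` (`L = S^L`, `E = Ω₁ Z(L)`, `Z l = Z_l`, `h l = h_l`).
* `Abs Σ h Z p` : the situation in the group `N = N_G(E) / C_G(E)` acting faithfully on `E` (written additively).

`Act E x y` : `x` and `y` act in the same way on `E` (i.e. they are equal modulo `C(E)`).
-/

set_option autoImplicit false

namespace Cfsg.Agent.Omega.ThmC.Four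

open Subgroup Cfsg Cfsg.Agent.ZN

universe u

/-- `x` and `y` induce the same map on `E` by conjugation. -/
def Act {G : Type u} [Group G] (E : Subgroup G) (x y : G) : Prop := ∀ e ∈ E, x * e * x⁻¹ = y * e * y⁻¹

/-- The data of THEOREM C, case `q ≥ 4`. `L = S^L`, `E = Ω₁ Z(L)`. -/
structure Dat {G : Type u} [Group G] [Finite G] (S : Sylow 2 G) (L : Subgroup G) {k : ℕ}
    (Z : Fin k → Subgroup G) (h : Fin k → G) (p : ℕ) : Prop where
  prime : p.Prime
  odd : p ≠ 2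
  LS : L ≤ S
  nor : (S : Subgroup G) ≤ normalizer (L : Set G)
  cL : centralizer (L : Set G) ≤ L
  hL : ∀ l, h l ∈ normalizer (L : Set G)
  /-- the `h l` commute and have order `p` modulo `C(E)` -/
  hcomm : ∀ l m, Act (zc L) (h l * h m) (h m * h l)
  hp : ∀ l, Act (zc L) (h l ^ p) 1
  /-- `S` permutes the `⟨h l⟩` modulo `C(E)` -/
  perm : ∀ s ∈ (S : Subgroup G), ∃ σ : Equiv.Perm (Fin k), ∀ l, ∃ r : ℕ,
    Act (zc L) (s * h l * s⁻¹) (h (σ l) ^ r)
  /-- `C_S(D) = L` (modulo `C(E)`) -/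
  field : ∀ s ∈ (S : Subgroup G), (∀ l, Act (zc L) (s * h l) (h l * s)) → s ∈ L
  ZE : ∀ l, Z l ≤ zc L
  Zne : ∀ l, Z l ≠ ⊥
  Znor : ∀ l, h l ∈ normalizer (Z l : Set G)
  Zfpf : ∀ l, ∀ z ∈ Z l, h l * z = z * h l → z = 1
  Zcent : ∀ l m, l ≠ m → ∀ z ∈ Z l, h m * z = z * h m
  /-- `C_E(S) ≤ ∑ Z l` -/
  fix : zc (S : Subgroup G) ≤ ⨆ l, Z l

/-- The data of THEOREM C, case `q ≥ 4`, in `N = N_G(E) / C_G(E)` (any finite group), acting faithfully on `A = E`
(written additively) by `ρ`. -/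
structure Abs {N A : Type u} [Group N] [Finite N] [AddCommGroup A] [Finite A] (ρ : N →* AddMonoid.End A)
    (S : Sylow 2 N) {k : ℕ} (h : Fin k → N) (Z : Fin k → AddSubgroup A) (p : ℕ) : Prop where
  two : ∀ a : A, a + a = 0
  inj : Function.Injective ρ
  prime : p.Prime
  odd : p ≠ 2
  hcomm : ∀ l m, h l * h m = h m * h l
  hp : ∀ l, h l ^ p = 1
  perm : ∀ s ∈ (S : Subgroup N), ∃ σ : Equiv.Perm (Fin k), ∀ l, ∃ r : ℕ, s * h l * s⁻¹ = h (σ l) ^ r
  field : ∀ s ∈ (S : Subgroup N), (∀ l, s * h l = h l * s) → s = 1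
  Zne : ∀ l, Z l ≠ ⊥
  Znor : ∀ l, ∀ z ∈ Z l, ρ (h l) z ∈ Z l
  Zfpf : ∀ l, ∀ z ∈ Z l, ρ (h l) z = z → z = 0
  Zcent : ∀ l m, l ≠ m → ∀ z ∈ Z l, ρ (h m) z = z
  fix : ∀ a : A, (∀ s ∈ (S : Subgroup N), ρ s a = a) → a ∈ ⨆ l, Z l

end Cfsg.Agent.Omega.ThmC.Four

end

section


/-!
# THEOREM C, case `q ≥ 4`: sums of operators over subgroups

`avg ρ X = ∑_{x ∈ X} ρ x` : if `|X|` is odd and `2A = 0`, this is the projection onto `C_A(X)`.
-/

set_option autoImplicit false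

namespace Cfsg.Agent.Omega.ThmC.Four

open Subgroup Cfsg

universe u v

section avg

variable {N : Type u} {A : Type v} [Group N] [Finite N] [AddCommGroup A] (ρ : N →* AddMonoid.End A)

/-- The sum of the operators `ρ x`, `x ∈ X`. -/
noncomputable def avg (X : Subgroup N) : AddMonoid.End A := ∑ᶠ x : X, ρ (x : N)

theorem mul_avg (X : Subgroup N) (T : AddMonoid.End A) : T * avg ρ X = ∑ᶠ x : X, T * ρ (x : N) :=
  mul_finsum' _ _ (Set.toFinite _)

theorem avg_mul (X : Subgroup N) (T : AddMonoid.End A) : avg ρ X * T = ∑ᶠ x : X, ρ (x : N) * T :=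
  finsum_mul' _ _ (Set.toFinite _)

theorem avg_apply (X : Subgroup N) (a : A) : avg ρ X a = ∑ᶠ x : X, ρ (x : N) a := by
  exact (AddMonoidHom.eval a : (A →+ A) →+ A).map_finsum (f := fun x : X => ρ (x : N)) (Set.toFinite _)

theorem avg_conj (X : Subgroup N) (s : N) :
    ρ s * avg ρ X = avg ρ (X.map (MulAut.conj s).toMonoidHom) * ρ s := by
  rw [mul_avg, avg_mul]
  rw [← finsum_comp_equiv (X.equivMapOfInjective (MulAut.conj s).toMonoidHom (MulAut.conj s).injective).toEquiv]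
  refine finsum_congr fun x => ?_
  rw [← map_mul, ← map_mul]
  have : (((X.equivMapOfInjective (MulAut.conj s).toMonoidHom (MulAut.conj s).injective).toEquiv x :
      X.map (MulAut.conj s).toMonoidHom) : N) = s * x * s⁻¹ := rfl
  rw [this, inv_mul_cancel_right]

theorem left_avg {X : Subgroup N} {y : N} (hy : y ∈ X) : ρ y * avg ρ X = avg ρ X := by
  rw [mul_avg]
  calc (∑ᶠ x : X, ρ y * ρ (x : N)) = ∑ᶠ x : X, ρ ((Equiv.mulLeft (⟨y, hy⟩ : X) x : X) : N) := by
        refine finsum_congr fun x => ?_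
        rw [← map_mul]
        rfl
    _ = _ := finsum_comp_equiv (Equiv.mulLeft (⟨y, hy⟩ : X)) (f := fun x : X => ρ (x : N))

theorem avg_right {X : Subgroup N} {y : N} (hy : y ∈ X) : avg ρ X * ρ y = avg ρ X := by
  rw [avg_mul]
  calc (∑ᶠ x : X, ρ (x : N) * ρ y) = ∑ᶠ x : X, ρ ((Equiv.mulRight (⟨y, hy⟩ : X) x : X) : N) := by
        refine finsum_congr fun x => ?_
        rw [← map_mul]
        rfl
    _ = _ := finsum_comp_equiv (Equiv.mulRight (⟨y, hy⟩ : X)) (f := fun x : X => ρ (x : N))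

theorem commute_avg {X : Subgroup N} {T : AddMonoid.End A} (h : ∀ x ∈ X, T * ρ x = ρ x * T) :
    T * avg ρ X = avg ρ X * T := by
  rw [mul_avg, avg_mul]
  exact finsum_congr fun x => h x x.2

/-- `T + T = 0`. -/
theorem End_two (h2 : ∀ a : A, a + a = 0) (T : AddMonoid.End A) : T + T = 0 := by
  ext a
  exact h2 _

theorem odd_nsmul {M : Type*} [AddCommGroup M] (h2 : ∀ a : M, a + a = 0) {n : ℕ} (hn : Odd n) (a : M) :
    n • a = a := by
  obtain ⟨m, rfl⟩ := hn
  rw [add_smul, mul_comm, mul_smul, two_smul, h2, smul_zero, zero_add, one_smul]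

theorem finsum_odd_const {M : Type*} [AddCommGroup M] (h2 : ∀ a : M, a + a = 0) {X : Subgroup N}
    (hX : Odd (Nat.card X)) (a : M) : (∑ᶠ _ : X, a) = a := by
  classical
  let _ := Fintype.ofFinite X
  rw [finsum_eq_sum_of_fintype, Finset.sum_const, Finset.card_univ, ← Nat.card_eq_fintype_card]
  exact odd_nsmul h2 hX a

theorem avg_mul_of_fix (h2 : ∀ a : A, a + a = 0) {X : Subgroup N} (hX : Odd (Nat.card X))
    {T : AddMonoid.End A} (h : ∀ x ∈ X, ρ x * T = T) : avg ρ X * T = T := by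
  rw [avg_mul]
  calc (∑ᶠ x : X, ρ (x : N) * T) = ∑ᶠ _ : X, T := finsum_congr fun x => h x x.2
    _ = T := finsum_odd_const (End_two h2) hX T

theorem mul_avg_of_fix (h2 : ∀ a : A, a + a = 0) {X : Subgroup N} (hX : Odd (Nat.card X))
    {T : AddMonoid.End A} (h : ∀ x ∈ X, T * ρ x = T) : T * avg ρ X = T := by
  rw [mul_avg]
  calc (∑ᶠ x : X, T * ρ (x : N)) = ∑ᶠ _ : X, T := finsum_congr fun x => h x x.2
    _ = T := finsum_odd_const (End_two h2) hX T

theorem avg_apply_of_fix (h2 : ∀ a : A, a + a = 0) {X : Subgroup N} (hX : Odd (Nat.card X))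
    {a : A} (h : ∀ x ∈ X, ρ x a = a) : avg ρ X a = a := by
  rw [avg_apply]
  calc (∑ᶠ x : X, ρ (x : N) a) = ∑ᶠ _ : X, a := finsum_congr fun x => h x x.2
    _ = a := finsum_odd_const h2 hX a

/-- `ρ y` fixes `avg X a` for `y ∈ X`. -/
theorem fix_avg_apply {X : Subgroup N} {y : N} (hy : y ∈ X) (a : A) : ρ y (avg ρ X a) = avg ρ X a :=
  congrArg (fun T : AddMonoid.End A => T a) (left_avg ρ hy)

theorem avg_mem {X : Subgroup N} {Z : AddSubgroup A} (h : ∀ x ∈ X, ∀ z ∈ Z, ρ x z ∈ Z) {z : A} (hz : z ∈ Z) :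
    avg ρ X z ∈ Z := by
  rw [avg_apply]
  exact finsum_induction (p := fun a => a ∈ Z) Z.zero_mem (fun _ _ => Z.add_mem) fun x => h _ x.2 z hz

theorem avg_mul_avg (h2 : ∀ a : A, a + a = 0) {X Y Z : Subgroup N} (hX : Odd (Nat.card X))
    (hY : Odd (Nat.card Y)) (hZ : Odd (Nat.card Z)) (hXZ : X ≤ Z) (hYZ : Y ≤ Z) (hle : Z ≤ X ⊔ Y)
    (hc : ∀ x ∈ X, ∀ y ∈ Y, x * y = y * x) : avg ρ X * avg ρ Y = avg ρ Z := by
  have h1 : avg ρ Z * avg ρ X = avg ρ Z := mul_avg_of_fix ρ h2 hX fun x hx => avg_right ρ (hXZ hx)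
  have h3 : avg ρ Z * avg ρ Y = avg ρ Z := mul_avg_of_fix ρ h2 hY fun x hx => avg_right ρ (hYZ hx)
  have hXY : avg ρ X * avg ρ Y = avg ρ Y * avg ρ X := by
    refine commute_avg ρ fun y hy => ?_
    refine (commute_avg ρ (T := ρ y) fun x hx => ?_).symm
    rw [← map_mul, ← map_mul, hc x hx y hy]
  have h4 : ∀ z ∈ X ⊔ Y, ρ z * (avg ρ X * avg ρ Y) = avg ρ X * avg ρ Y := by
    intro z hz
    rw [Subgroup.sup_eq_closure] at hz
    induction hz using Subgroup.closure_induction with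
    | mem z hz =>
      rcases hz with hx | hy
      · rw [← mul_assoc, left_avg ρ hx]
      · rw [hXY, ← mul_assoc, left_avg ρ hy]
    | one => rw [map_one, one_mul]
    | mul a b ha hb iha ihb => rw [map_mul, mul_assoc, ihb, iha]
    | inv a ha iha =>
      calc ρ a⁻¹ * (avg ρ X * avg ρ Y) = ρ a⁻¹ * (ρ a * (avg ρ X * avg ρ Y)) := by rw [iha]
        _ = _ := by rw [← mul_assoc, ← map_mul, inv_mul_cancel, map_one, one_mul]
  calc avg ρ X * avg ρ Y = avg ρ Z * (avg ρ X * avg ρ Y) :=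
        (avg_mul_of_fix ρ h2 hZ fun z hz => h4 z (hle hz)).symm
    _ = avg ρ Z := by rw [← mul_assoc, h1, h3]

end avg

end Cfsg.Agent.Omega.ThmC.Four

end

section


/-!
# THEOREM C, case `q ≥ 4`, (1): the decomposition `A = ⨁ C_l`

`eps ρ h l` is the projection onto `C_l = [A, h l]`.
-/

set_option autoImplicit false
set_option linter.unusedSectionVars false
set_option linter.unusedVariables false
set_option linter.style.haveILetI false

namespace Cfsg.Agent.Omega.ThmC.Four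

open Subgroup Cfsg

universe u

/-- A 2-group acting on an elementary abelian 2-group `K ≠ 0` has a non-zero fixed vector. -/
theorem exists_fix {N A : Type u} [Group N] [Finite N] [AddCommGroup A] [Finite A] {ρ : N →* AddMonoid.End A}
    (h2 : ∀ a : A, a + a = 0) {T : Subgroup N} (hT : IsPGroup 2 T) {K : AddSubgroup A}
    (hK : ∀ s ∈ T, ∀ a ∈ K, ρ s a ∈ K) (hne : K ≠ ⊥) : ∃ a ∈ K, a ≠ 0 ∧ ∀ s ∈ T, ρ s a = a := by
  classical
  let _ : MulAction T K :=
    { smul := fun s a => ⟨ρ s a, hK s s.2 a a.2⟩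
      one_smul := fun a => Subtype.ext (by
        change ρ ((1 : T) : N) (a : A) = a
        rw [OneMemClass.coe_one, map_one]; rfl)
      mul_smul := fun s t a => Subtype.ext (by
        change ρ ((s * t : T) : N) (a : A) = ρ (s : N) (ρ (t : N) a)
        rw [Subgroup.coe_mul, map_mul]; rfl) }
  have hcard : 2 ∣ Nat.card K := by
    obtain ⟨⟨a, ha⟩, ha0'⟩ := AddSubgroup.ne_bot_iff_exists_ne_zero.1 hne
    have ha0 : a ≠ 0 := fun h => ha0' (Subtype.ext h)
    have h1 : addOrderOf (⟨a, ha⟩ : K) = 2 := by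
      refine addOrderOf_eq_prime ?_ ?_
      · rw [two_nsmul]; exact Subtype.ext (h2 a)
      · exact fun h => ha0 (congrArg Subtype.val h)
    rw [← h1]
    exact addOrderOf_dvd_natCard _
  have h0 : (0 : K) ∈ MulAction.fixedPoints T K := by
    intro s
    exact Subtype.ext (map_zero (ρ (s : N)))
  obtain ⟨b, hb, hb0⟩ := hT.exists_fixed_point_of_prime_dvd_card_of_fixed_point K hcard h0
  exact ⟨b, b.2, fun h => hb0 (Subtype.ext h.symm), fun s hs => congrArg Subtype.val (hb ⟨s, hs⟩)⟩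

section defs

variable {N A : Type u} [Group N] [AddCommGroup A] {k : ℕ}

/-- `D = ⟨h l⟩`. -/
def DD (h : Fin k → N) : Subgroup N := closure (Set.range h)

/-- `D_l = ⟨h m : m ≠ l⟩`. -/
def DL (h : Fin k → N) (l : Fin k) : Subgroup N := closure (h '' {l}ᶜ)

/-- The projection onto `C_l`. -/
noncomputable def eps [Finite N] (ρ : N →* AddMonoid.End A) (h : Fin k → N) (l : Fin k) : AddMonoid.End A :=
  avg ρ (DL h l) + avg ρ (DD h)

theorem h_mem_DD (h : Fin k → N) (l : Fin k) : h l ∈ DD h := subset_closure (Set.mem_range_self l)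

theorem h_mem_DL (h : Fin k → N) {l m : Fin k} (hml : m ≠ l) : h m ∈ DL h l :=
  subset_closure (Set.mem_image_of_mem h hml)

theorem DL_le (h : Fin k → N) (l : Fin k) : DL h l ≤ DD h := closure_mono (Set.image_subset_range _ _)

theorem zpowers_le_DD (h : Fin k → N) (l : Fin k) : zpowers (h l) ≤ DD h :=
  (zpowers_le).2 (h_mem_DD h l)

end defs

namespace Abs

variable {N A : Type u} [Group N] [Finite N] [AddCommGroup A] [Finite A] {ρ : N →* AddMonoid.End A}
  {S : Sylow 2 N} {k : ℕ} {h : Fin k → N} {Z : Fin k → AddSubgroup A} {p : ℕ}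

theorem DD_comm (d : Abs ρ S h Z p) : ∀ x ∈ DD h, ∀ y ∈ DD h, x * y = y * x := by
  have h1 : ∀ l, ∀ y ∈ DD h, h l * y = y * h l := by
    intro l y hy
    have : DD h ≤ centralizer ({h l} : Set N) := by
      rw [DD, closure_le]
      rintro _ ⟨m, rfl⟩
      rw [SetLike.mem_coe, mem_centralizer_iff]
      rintro _ rfl
      exact d.hcomm l m
    exact mem_centralizer_iff.1 (this hy) _ rfl
  intro x hx y hy
  have : DD h ≤ centralizer ({y} : Set N) := by
    rw [DD, closure_le]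
    rintro _ ⟨m, rfl⟩
    rw [SetLike.mem_coe, mem_centralizer_iff]
    rintro _ rfl
    exact (h1 m _ hy).symm
  exact (mem_centralizer_iff.1 (this hx) _ rfl).symm

theorem DD_pow (d : Abs ρ S h Z p) : ∀ x ∈ DD h, x ^ p = 1 := by
  intro x hx
  have hx' := hx
  rw [DD] at hx
  induction hx using Subgroup.closure_induction with
  | mem z hz => obtain ⟨l, rfl⟩ := hz; exact d.hp l
  | one => exact one_pow _
  | mul a b ha hb iha ihb =>
    have hc : Commute a b := d.DD_comm a ha b hb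
    rw [hc.mul_pow, iha ha, ihb hb, one_mul]
  | inv a ha iha => rw [inv_pow, iha ha, inv_one]

theorem odd_card (d : Abs ρ S h Z p) {X : Subgroup N} (hX : X ≤ DD h) : Odd (Nat.card X) := by
  haveI := Fact.mk d.prime
  have : IsPGroup p X := fun x => ⟨1, by
    rw [pow_one]
    exact Subtype.ext (d.DD_pow _ (hX x.2))⟩
  obtain ⟨n, hn⟩ := IsPGroup.iff_card.1 this
  rw [hn]
  exact (d.prime.odd_of_ne_two d.odd).pow

theorem zpowers_le_DD' (l : Fin k) : zpowers (h l) ≤ DD h := zpowers_le_DD h l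

theorem DD_le_sup {l m : Fin k} (hlm : l ≠ m) : DD h ≤ DL h l ⊔ DL h m := by
  rw [DD, closure_le]
  rintro _ ⟨j, rfl⟩
  by_cases hj : j = l
  · subst hj
    exact mem_sup_right (h_mem_DL h hlm)
  · exact mem_sup_left (h_mem_DL h hj)

theorem DD_le_sup' (l : Fin k) : DD h ≤ zpowers (h l) ⊔ DL h l := by
  rw [DD, closure_le]
  rintro _ ⟨j, rfl⟩
  by_cases hj : j = l
  · subst hj
    exact mem_sup_left (mem_zpowers _)
  · exact mem_sup_right (h_mem_DL h hj)

theorem avg_mul' (d : Abs ρ S h Z p) {X Y Z' : Subgroup N} (hX : X ≤ DD h) (hY : Y ≤ DD h) (hZ : Z' ≤ DD h)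
    (hXZ : X ≤ Z') (hYZ : Y ≤ Z') (hle : Z' ≤ X ⊔ Y) : avg ρ X * avg ρ Y = avg ρ Z' :=
  avg_mul_avg ρ d.two (d.odd_card hX) (d.odd_card hY) (d.odd_card hZ) hXZ hYZ hle
    fun x hx y hy => d.DD_comm x (hX hx) y (hY hy)

theorem DL_DL (d : Abs ρ S h Z p) {l m : Fin k} (hlm : l ≠ m) :
    avg ρ (DL h l) * avg ρ (DL h m) = avg ρ (DD h) :=
  d.avg_mul' (DL_le h l) (DL_le h m) le_rfl (DL_le h l) (DL_le h m) (DD_le_sup hlm)

theorem self_mul (d : Abs ρ S h Z p) {X : Subgroup N} (hX : X ≤ DD h) : avg ρ X * avg ρ X = avg ρ X :=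
  d.avg_mul' hX hX hX le_rfl le_rfl le_sup_left

theorem mul_DD (d : Abs ρ S h Z p) {X : Subgroup N} (hX : X ≤ DD h) : avg ρ X * avg ρ (DD h) = avg ρ (DD h) :=
  d.avg_mul' hX le_rfl le_rfl hX le_rfl le_sup_right

theorem DD_mul (d : Abs ρ S h Z p) {X : Subgroup N} (hX : X ≤ DD h) : avg ρ (DD h) * avg ρ X = avg ρ (DD h) :=
  d.avg_mul' le_rfl hX le_rfl le_rfl hX le_sup_left

theorem add_self' (d : Abs ρ S h Z p) (T : AddMonoid.End A) : T + T = 0 := End_two d.two T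

theorem eps_idem (d : Abs ρ S h Z p) (l : Fin k) : eps ρ h l * eps ρ h l = eps ρ h l := by
  rw [eps, mul_add, add_mul, add_mul, d.self_mul (DL_le h l), d.mul_DD (DL_le h l), d.DD_mul (DL_le h l),
    d.self_mul le_rfl, d.add_self', add_zero]

theorem eps_orth (d : Abs ρ S h Z p) {l m : Fin k} (hlm : l ≠ m) : eps ρ h l * eps ρ h m = 0 := by
  rw [eps, eps, mul_add, add_mul, add_mul, d.DL_DL hlm, d.mul_DD (DL_le h l), d.DD_mul (DL_le h m),
    d.self_mul le_rfl, d.add_self']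

theorem h_mul_eps (d : Abs ρ S h Z p) {l m : Fin k} (hml : m ≠ l) : ρ (h m) * eps ρ h l = eps ρ h l := by
  rw [eps, mul_add, left_avg ρ (h_mem_DL h hml), left_avg ρ (h_mem_DD h m)]

theorem eps_mul_h (d : Abs ρ S h Z p) {l m : Fin k} (hml : m ≠ l) : eps ρ h l * ρ (h m) = eps ρ h l := by
  rw [eps, add_mul, avg_right ρ (h_mem_DL h hml), avg_right ρ (h_mem_DD h m)]

/-- An element of `N` which commutes with all `h m` commutes with `eps l`. -/
theorem commute_DD (d : Abs ρ S h Z p) {x : N} (hx : x ∈ DD h) (l : Fin k) :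
    ρ x * eps ρ h l = eps ρ h l * ρ x := by
  rw [eps, mul_add, add_mul]
  congr 1
  · refine commute_avg ρ fun y hy => ?_
    rw [← map_mul, ← map_mul, d.DD_comm x hx y (DL_le h l hy)]
  · refine commute_avg ρ fun y hy => ?_
    rw [← map_mul, ← map_mul, d.DD_comm x hx y hy]

/-! ### the action of `S` -/

/-- `s` permutes the `⟨h l⟩` as `σ`. -/
def Perm (h : Fin k → N) (s : N) (σ : Equiv.Perm (Fin k)) : Prop :=
  ∀ l, ∃ r : ℕ, s * h l * s⁻¹ = h (σ l) ^ r

theorem map_DL_le {s : N} {σ : Equiv.Perm (Fin k)} (hs : Perm h s σ) (l : Fin k) :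
    (DL h l).map (MulAut.conj s).toMonoidHom ≤ DL h (σ l) := by
  rw [DL, MonoidHom.map_closure, closure_le]
  rintro _ ⟨_, ⟨m, hm, rfl⟩, rfl⟩
  obtain ⟨r, hr⟩ := hs m
  have : (MulAut.conj s).toMonoidHom (h m) = h (σ m) ^ r := by rw [← hr]; rfl
  rw [SetLike.mem_coe, this]
  exact pow_mem (h_mem_DL h fun e => hm (σ.injective e)) _

theorem map_DD_le {s : N} {σ : Equiv.Perm (Fin k)} (hs : Perm h s σ) :
    (DD h).map (MulAut.conj s).toMonoidHom ≤ DD h := by
  rw [DD, MonoidHom.map_closure, closure_le]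
  rintro _ ⟨_, ⟨m, rfl⟩, rfl⟩
  obtain ⟨r, hr⟩ := hs m
  have : (MulAut.conj s).toMonoidHom (h m) = h (σ m) ^ r := by rw [← hr]; rfl
  rw [SetLike.mem_coe, this]
  exact pow_mem (h_mem_DD h _) _

theorem card_map_conj (X : Subgroup N) (s : N) :
    Nat.card (X.map (MulAut.conj s).toMonoidHom) = Nat.card X :=
  Nat.card_congr (X.equivMapOfInjective (MulAut.conj s).toMonoidHom (MulAut.conj s).injective).toEquiv.symm

theorem map_DD {s : N} {σ : Equiv.Perm (Fin k)} (hs : Perm h s σ) :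
    (DD h).map (MulAut.conj s).toMonoidHom = DD h :=
  eq_of_le_of_card_ge (map_DD_le hs) (card_map_conj _ _).ge

theorem map_DL {s : N} {σ : Equiv.Perm (Fin k)} (hs : Perm h s σ) (l : Fin k) :
    (DL h l).map (MulAut.conj s).toMonoidHom = DL h (σ l) := by
  have h1 : ∀ m, Nat.card (DL h m) ≤ Nat.card (DL h (σ m)) := by
    intro m
    rw [← card_map_conj (DL h m) s]
    exact Subgroup.card_le_of_le (map_DL_le hs m)
  have h2 := (Finset.sum_eq_sum_iff_of_le (s := Finset.univ) (fun i _ => h1 i)).1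
    (Equiv.sum_comp σ fun m => Nat.card (DL h m)).symm l (Finset.mem_univ l)
  refine eq_of_le_of_card_ge (map_DL_le hs l) ?_
  rw [card_map_conj, h2]

theorem conj_eps {s : N} {σ : Equiv.Perm (Fin k)} (hs : Perm h s σ) (l : Fin k) :
    ρ s * eps ρ h l = eps ρ h (σ l) * ρ s := by
  rw [eps, eps, mul_add, add_mul, avg_conj, avg_conj, map_DL hs, map_DD hs]

/-! ### (1) -/

theorem pow_fix {x : N} {a : A} (hx : ρ x a = a) {y : N} (hy : y ∈ zpowers x) : ρ y a = a := by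
  obtain ⟨n, rfl⟩ := hy
  have h1 : ∀ m : ℕ, ρ (x ^ m) a = a := by
    intro m
    induction m with
    | zero => rw [pow_zero, map_one]; rfl
    | succ m ih => rw [pow_succ, map_mul]; change ρ (x ^ m) (ρ x a) = a; rw [hx, ih]
  rcases n with n | n
  · have h3 := h1 n
    change ρ (x ^ ((n : ℕ) : ℤ)) a = a
    rw [zpow_natCast]
    exact h3
  · have h3 : ρ (x ^ (n + 1)) a = a := h1 _
    calc ρ ((fun z : ℤ => x ^ z) (Int.negSucc n)) a = ρ (x ^ (n + 1))⁻¹ a := by
          rw [show (fun z : ℤ => x ^ z) (Int.negSucc n) = (x ^ (n + 1))⁻¹ from zpow_negSucc x n]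
      _ = ρ (x ^ (n + 1))⁻¹ (ρ (x ^ (n + 1)) a) := by rw [h3]
      _ = ρ ((x ^ (n + 1))⁻¹ * x ^ (n + 1)) a := by rw [map_mul]; rfl
      _ = a := by rw [inv_mul_cancel, map_one]; rfl

/-- `Z l` is invariant under `D`. -/
theorem Z_inv (d : Abs ρ S h Z p) (l : Fin k) : ∀ x ∈ DD h, ∀ z ∈ Z l, ρ x z ∈ Z l := by
  have hgen : ∀ m, ∀ z ∈ Z l, ρ (h m) z ∈ Z l := by
    intro m z hz
    by_cases hm : l = m
    · subst hm; exact d.Znor l z hz
    · rw [d.Zcent l m hm z hz]; exact hz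
  intro x hx
  rw [DD] at hx
  induction hx using Subgroup.closure_induction with
  | mem y hy => obtain ⟨m, rfl⟩ := hy; exact hgen m
  | one => intro z hz; rw [map_one]; exact hz
  | mul a b ha hb iha ihb => intro z hz; rw [map_mul]; exact iha _ (ihb z hz)
  | inv a ha iha =>
    intro z hz
    -- `a⁻¹ = a ^ (p - 1)`
    have h1 : a⁻¹ = a ^ (p - 1) := by
      have h2 := d.DD_pow a ha
      have h3 : a ^ (p - 1) * a = 1 := by
        rw [← pow_succ, Nat.sub_add_cancel d.prime.one_lt.le, h2]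
      exact (eq_inv_of_mul_eq_one_left h3).symm
    rw [h1]
    generalize p - 1 = n
    induction n with
    | zero => rw [pow_zero, map_one]; exact hz
    | succ n ih => rw [pow_succ', map_mul]; exact iha _ ih

theorem avg_Z (d : Abs ρ S h Z p) {l : Fin k} {X : Subgroup N} (hX : X ≤ DD h) (hl : h l ∈ X) {z : A}
    (hz : z ∈ Z l) : avg ρ X z = 0 := by
  refine d.Zfpf l _ (avg_mem ρ (fun x hx => d.Z_inv l x (hX hx)) hz) ?_
  exact fix_avg_apply ρ hl z

theorem avg_DL_Z (d : Abs ρ S h Z p) {l : Fin k} {z : A} (hz : z ∈ Z l) : avg ρ (DL h l) z = z := by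
  refine avg_apply_of_fix ρ d.two (d.odd_card (DL_le h l)) fun x hx => ?_
  rw [DL] at hx
  induction hx using Subgroup.closure_induction with
  | mem y hy => obtain ⟨m, hm, rfl⟩ := hy; exact d.Zcent l m (fun e => hm e.symm) z hz
  | one => rw [map_one]; rfl
  | mul a b ha hb iha ihb => rw [map_mul]; change ρ a (ρ b z) = z; rw [ihb, iha]
  | inv a ha iha => exact pow_fix iha ⟨-1, by simp⟩

theorem eps_Z (d : Abs ρ S h Z p) {l : Fin k} {z : A} (hz : z ∈ Z l) : eps ρ h l z = z := by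
  change avg ρ (DL h l) z + avg ρ (DD h) z = z
  rw [d.avg_DL_Z hz, d.avg_Z le_rfl (h_mem_DD h l) hz, add_zero]

theorem eps_Z' (d : Abs ρ S h Z p) {l m : Fin k} (hml : m ≠ l) {z : A} (hz : z ∈ Z l) : eps ρ h m z = 0 := by
  change avg ρ (DL h m) z + avg ρ (DD h) z = 0
  rw [d.avg_Z (DL_le h m) (h_mem_DL h hml.symm) hz, d.avg_Z le_rfl (h_mem_DD h l) hz, add_zero]

theorem eps_ne (d : Abs ρ S h Z p) (l : Fin k) : ∃ a, eps ρ h l a ≠ 0 := by
  obtain ⟨a, ha⟩ := AddSubgroup.ne_bot_iff_exists_ne_zero.1 (d.Zne l)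
  refine ⟨a, ?_⟩
  rw [d.eps_Z a.2]
  exact fun h => ha (Subtype.ext h)

/-- **(1)** `A = ⨁ C_l`. -/
theorem sum_eps (d : Abs ρ S h Z p) : ∑ l, eps ρ h l = 1 := by
  classical
  set E : AddMonoid.End A := ∑ l, eps ρ h l with hE
  have hEE : E * E = E := by
    rw [hE, Finset.sum_mul]
    refine Finset.sum_congr rfl fun l _ => ?_
    rw [Finset.mul_sum, Finset.sum_eq_single l (fun m _ hm => d.eps_orth hm.symm)
      (fun h => (h (Finset.mem_univ l)).elim), d.eps_idem]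
  have hES : ∀ s ∈ (S : Subgroup N), ρ s * E = E * ρ s := by
    intro s hs
    obtain ⟨σ, hσ⟩ := d.perm s hs
    rw [hE, Finset.mul_sum, Finset.sum_mul]
    calc ∑ l, ρ s * eps ρ h l = ∑ l, eps ρ h (σ l) * ρ s := Finset.sum_congr rfl fun l _ => conj_eps hσ l
      _ = _ := Equiv.sum_comp σ fun l => eps ρ h l * ρ s
  have hEapp : ∀ a, E a = ∑ l, eps ρ h l a := by
    intro a
    rw [hE]
    exact AddMonoidHom.finsetSum_apply _ _ _
  have hEZ : ∀ a ∈ ⨆ l, Z l, E a = a := by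
    intro a ha
    have : ⨆ l, Z l ≤ (E : A →+ A).eqLocus (AddMonoidHom.id A) := by
      refine iSup_le fun l z hz => ?_
      change E z = z
      rw [hEapp, Finset.sum_eq_single l (fun m _ hm => d.eps_Z' hm hz)
        (fun h => (h (Finset.mem_univ l)).elim), d.eps_Z hz]
    exact this ha
  have hker : (E : A →+ A).ker = ⊥ := by
    by_contra hne
    obtain ⟨a, ha, ha0, hfix⟩ := exists_fix (ρ := ρ) d.two S.isPGroup' (K := (E : A →+ A).ker) (by
      intro s hs a ha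
      have h1 : E a = 0 := ha
      change E (ρ s a) = 0
      have h2 := congrArg (fun T : AddMonoid.End A => T a) (hES s hs)
      change ρ s (E a) = E (ρ s a) at h2
      rw [← h2, h1, map_zero]) hne
    have h1 : E a = 0 := ha
    rw [hEZ a (d.fix a hfix)] at h1
    exact ha0 h1
  ext a
  have h1 : a + E a ∈ (E : A →+ A).ker := by
    change E (a + E a) = 0
    have h2 := congrArg (fun T : AddMonoid.End A => T a) hEE
    change E (E a) = E a at h2
    rw [map_add, h2, d.two]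
  rw [hker, AddSubgroup.mem_bot] at h1
  change E a = a
  have h3 := d.two a
  calc E a = a + a + E a := by rw [h3, zero_add]
    _ = a + (a + E a) := by rw [add_assoc]
    _ = a := by rw [h1, add_zero]

theorem avg_h_mul_eps (d : Abs ρ S h Z p) (l : Fin k) : avg ρ (zpowers (h l)) * eps ρ h l = 0 := by
  rw [eps, mul_add, d.mul_DD (zpowers_le_DD h l),
    d.avg_mul' (zpowers_le_DD h l) (DL_le h l) le_rfl (zpowers_le_DD h l) (DL_le h l) (DD_le_sup' l), d.add_self']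

/-- `eps l = 1 + avg ⟨h l⟩`. -/
theorem eps_eq (d : Abs ρ S h Z p) (l : Fin k) : eps ρ h l = 1 + avg ρ (zpowers (h l)) := by
  classical
  have h1 : avg ρ (zpowers (h l)) = ∑ m, avg ρ (zpowers (h l)) * eps ρ h m := by
    rw [← Finset.mul_sum, d.sum_eps, mul_one]
  have h2 : eps ρ h l + avg ρ (zpowers (h l)) = 1 := by
    rw [h1, ← d.sum_eps, ← Finset.add_sum_erase Finset.univ _ (Finset.mem_univ l),
      ← Finset.add_sum_erase (a := l) Finset.univ (fun m => eps ρ h m) (Finset.mem_univ l), d.avg_h_mul_eps, zero_add]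
    congr 1
    refine Finset.sum_congr rfl fun m hm => ?_
    have hml : l ≠ m := (Finset.ne_of_mem_erase hm).symm
    refine avg_mul_of_fix ρ d.two (d.odd_card (zpowers_le_DD h l)) fun x hx => ?_
    ext a
    exact pow_fix (ρ := ρ) (congrArg (fun T : AddMonoid.End A => T a) (d.h_mul_eps hml)) hx
  calc eps ρ h l = eps ρ h l + (avg ρ (zpowers (h l)) + avg ρ (zpowers (h l))) := by rw [d.add_self', add_zero]
    _ = _ := by rw [← add_assoc, h2]

/-- `h l` is fixed-point-free on `C_l`. -/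
theorem fpf (d : Abs ρ S h Z p) {l : Fin k} {a : A} (ha : ρ (h l) (eps ρ h l a) = eps ρ h l a) :
    eps ρ h l a = 0 := by
  have h1 : avg ρ (zpowers (h l)) (eps ρ h l a) = eps ρ h l a :=
    avg_apply_of_fix ρ d.two (d.odd_card (zpowers_le_DD h l)) fun x hx => pow_fix ha hx
  rw [← h1]
  exact congrArg (fun T : AddMonoid.End A => T a) (d.avg_h_mul_eps l)

/-- An element of `N` which commutes with `h l` commutes with `eps l`. -/
theorem commute_eps (d : Abs ρ S h Z p) {x : N} {l : Fin k} (hx : x * h l = h l * x) :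
    ρ x * eps ρ h l = eps ρ h l * ρ x := by
  rw [d.eps_eq, mul_add, add_mul, mul_one, one_mul]
  congr 1
  refine commute_avg ρ fun y hy => ?_
  obtain ⟨n, rfl⟩ := hy
  rw [← map_mul, ← map_mul]
  congr 1
  exact ((show Commute x (h l) from hx).zpow_right n)

theorem h_ne (d : Abs ρ S h Z p) (l : Fin k) : h l ≠ 1 := by
  intro he
  obtain ⟨a, ha⟩ := d.eps_ne l
  refine ha (d.fpf ?_)
  rw [he, map_one]
  rfl

theorem orderOf_h (d : Abs ρ S h Z p) (l : Fin k) : orderOf (h l) = p := by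
  haveI := Fact.mk d.prime
  exact orderOf_eq_prime (d.hp l) (d.h_ne l)

end Abs

end Cfsg.Agent.Omega.ThmC.Four

end

section


/-!
# THEOREM C, case `q ≥ 4`, (2): no four-group all of whose involutions have the same commutator space
-/

set_option autoImplicit false
set_option linter.unusedSectionVars false
set_option linter.unusedVariables false

namespace Cfsg.Agent.Omega.ThmC.Four

open Subgroup Cfsg

universe u

/-- `[A, f]`. -/
def im {N A : Type u} [Group N] [AddCommGroup A] (ρ : N →* AddMonoid.End A) (f : N) : AddSubgroup A :=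
  AddMonoidHom.range (1 + ρ f : AddMonoid.End A)

theorem mem_im {N A : Type u} [Group N] [AddCommGroup A] {ρ : N →* AddMonoid.End A} {f : N} {a : A} :
    a ∈ im ρ f ↔ ∃ b, b + ρ f b = a := Iff.rfl

theorem rho_mul {N A : Type u} [Group N] [AddCommGroup A] (ρ : N →* AddMonoid.End A) (f g : N) (a : A) :
    ρ (f * g) a = ρ f (ρ g a) := by rw [map_mul]; rfl

theorem rho_one {N A : Type u} [Group N] [AddCommGroup A] (ρ : N →* AddMonoid.End A) (a : A) :
    ρ 1 a = a := by rw [map_one]; rfl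

namespace Abs

variable {N A : Type u} [Group N] [Finite N] [AddCommGroup A] [Finite A] {ρ : N →* AddMonoid.End A}
  {S : Sylow 2 N} {k : ℕ} {h : Fin k → N} {Z : Fin k → AddSubgroup A} {p : ℕ}

theorem Perm.mul {s t : N} {σ τ : Equiv.Perm (Fin k)} (hs : Perm h s σ) (ht : Perm h t τ) :
    Perm h (s * t) (σ * τ) := by
  intro l
  obtain ⟨r, hr⟩ := ht l
  obtain ⟨r', hr'⟩ := hs (τ l)
  refine ⟨r' * r, ?_⟩
  calc s * t * h l * (s * t)⁻¹ = s * (t * h l * t⁻¹) * s⁻¹ := by group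
    _ = (s * h (τ l) * s⁻¹) ^ r := by rw [hr, conj_pow]
    _ = h ((σ * τ) l) ^ (r' * r) := by rw [hr', ← pow_mul]; rfl

theorem conj_eps_apply {s : N} {σ : Equiv.Perm (Fin k)} (hs : Perm h s σ) (l : Fin k) (a : A) :
    ρ s (eps ρ h l a) = eps ρ h (σ l) (ρ s a) :=
  congrArg (fun T : AddMonoid.End A => T a) (conj_eps hs l)

theorem idem_apply (d : Abs ρ S h Z p) (l : Fin k) (a : A) : eps ρ h l (eps ρ h l a) = eps ρ h l a :=
  congrArg (fun T : AddMonoid.End A => T a) (d.eps_idem l)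

theorem orth_apply (d : Abs ρ S h Z p) {l m : Fin k} (hlm : l ≠ m) (a : A) : eps ρ h l (eps ρ h m a) = 0 :=
  congrArg (fun T : AddMonoid.End A => T a) (d.eps_orth hlm)

theorem sq_apply {g : N} (hgg : g * g = 1) (a : A) : ρ g (ρ g a) = a := by
  rw [← rho_mul, hgg, rho_one]

/-- elements of `[A, g]` are fixed by the involution `g`. -/
theorem fix_im {g : N} (hgg : g * g = 1) {a : A} (ha : a ∈ im ρ g) : ρ g a = a := by
  obtain ⟨b, rfl⟩ := mem_im.1 ha
  rw [map_add, sq_apply hgg, add_comm]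

theorem stepA1 (d : Abs ρ S h Z p) {f g : N} {σ τ : Equiv.Perm (Fin k)} (hf : Perm h f σ) (hg : Perm h g τ)
    (hgg : g * g = 1) (him : im ρ f ≤ im ρ g) {x : Fin k} (hx : σ x ≠ x) : τ x ≠ x := by
  intro hτ
  have key : ∀ a, ∃ b, eps ρ h x a = eps ρ h x b + ρ g (eps ρ h x b) := by
    intro a
    obtain ⟨b, hb⟩ := mem_im.1 (him (mem_im.2 ⟨eps ρ h x a, rfl⟩))
    refine ⟨b, ?_⟩
    have h1 := congrArg (eps ρ h x) hb
    rw [map_add, map_add, d.idem_apply, conj_eps_apply hf, d.orth_apply hx.symm, add_zero] at h1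
    rw [conj_eps_apply hg, hτ]
    exact h1.symm
  have hfix : ∀ a, ρ g (eps ρ h x a) = eps ρ h x a := by
    intro a
    obtain ⟨b, hb⟩ := key a
    rw [hb, map_add, sq_apply hgg, add_comm]
  obtain ⟨a, ha⟩ := d.eps_ne x
  obtain ⟨b, hb⟩ := key a
  rw [hfix, d.two] at hb
  exact ha hb

theorem stepA2 (d : Abs ρ S h Z p) {f g : N} {σ τ : Equiv.Perm (Fin k)} (hf : Perm h f σ) (hg : Perm h g τ)
    (hgg : g * g = 1) (him : im ρ f ≤ im ρ g) {x : Fin k} (hx : σ x ≠ x) (hx' : τ x ≠ x) : τ (σ x) = x := by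
  by_contra hne
  obtain ⟨a, ha⟩ := d.eps_ne x
  have h1 := fix_im hgg (him (mem_im.2 ⟨eps ρ h x a, rfl⟩))
  have h2 := congrArg (eps ρ h x) h1
  rw [map_add, map_add, map_add, d.idem_apply, conj_eps_apply hf, d.orth_apply hx.symm, add_zero,
    conj_eps_apply hg, conj_eps_apply hg, d.orth_apply (Ne.symm hx'), d.orth_apply (Ne.symm hne), add_zero] at h2
  exact ha h2.symm

theorem stepA (d : Abs ρ S h Z p) {f g : N} {σ τ : Equiv.Perm (Fin k)} (hf : Perm h f σ) (hg : Perm h g τ)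
    (hgg : g * g = 1) (hgf : g * f * (g * f) = 1) (h1 : im ρ f = im ρ g) (h2 : im ρ f = im ρ (g * f))
    (x : Fin k) : σ x = x := by
  by_contra hx
  have h3 := d.stepA1 hf hg hgg h1.le hx
  have h4 := d.stepA2 hf hg hgg h1.le hx h3
  exact d.stepA1 hf (hg.mul hf) hgf h2.le hx h4

theorem inv_or (d : Abs ρ S h Z p) {f : N} (hff : f * f = 1) {l : Fin k} {r : ℕ}
    (hr : f * h l * f⁻¹ = h l ^ r) : f * h l = h l * f ∨ f * h l = (h l)⁻¹ * f := by
  have hfi : f⁻¹ = f := by rw [inv_eq_iff_mul_eq_one, hff]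
  have h1 : h l ^ ((r : ℤ) * r) = h l ^ (1 : ℤ) := by
    have e1 : f * (f * h l * f⁻¹) * f⁻¹ = h l := by
      calc f * (f * h l * f⁻¹) * f⁻¹ = (f * f) * h l * (f * f)⁻¹ := by group
        _ = h l := by rw [hff]; group
    have e2 : f * h l ^ r * f⁻¹ = h l ^ (r * r) := by
      rw [← conj_pow, hr, ← pow_mul]
    rw [hr, e2] at e1
    rw [zpow_one, ← Nat.cast_mul, zpow_natCast, e1]
  rw [← orderOf_dvd_sub_iff_zpow_eq_zpow, d.orderOf_h] at h1
  have h2 : (r : ℤ) * r - 1 = (r - 1) * (r - (-1)) := by ring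
  rw [h2] at h1
  have key : ∀ n : ℤ, (p : ℤ) ∣ r - n → f * h l = h l ^ n * f := by
    intro n hn
    rw [← d.orderOf_h l, orderOf_dvd_sub_iff_zpow_eq_zpow, zpow_natCast, ← hr] at hn
    rw [← hn, inv_mul_cancel_right]
  rcases (Nat.prime_iff_prime_int.1 d.prime).dvd_or_dvd h1 with h3 | h3
  · left
    rw [key 1 h3, zpow_one]
  · right
    rw [key (-1) h3, zpow_neg_one]

theorem sq_fix (d : Abs ρ S h Z p) {l : Fin k} {a : A} (ha : ρ (h l) (ρ (h l) a) = a) : ρ (h l) a = a := by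
  have h1 : ρ (h l ^ 2) a = a := by rw [pow_two, rho_mul, ha]
  refine pow_fix h1 ?_
  obtain ⟨m, hm⟩ := d.prime.odd_of_ne_two d.odd
  refine ⟨(m + 1 : ℕ), ?_⟩
  change (h l ^ 2) ^ ((m + 1 : ℕ) : ℤ) = h l
  rw [zpow_natCast, ← pow_mul, show 2 * (m + 1) = p + 1 by omega, pow_succ, d.hp, one_mul]

theorem fpf' (d : Abs ρ S h Z p) {l : Fin k} {a : A} (he : eps ρ h l a = a) (ha : ρ (h l) a = a) : a = 0 := by
  have := d.fpf (l := l) (a := a) (by rw [he, ha])
  rwa [he] at this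

theorem commute_eps_apply (d : Abs ρ S h Z p) {x : N} {l : Fin k} (hx : x * h l = h l * x) (a : A) :
    ρ x (eps ρ h l a) = eps ρ h l (ρ x a) :=
  congrArg (fun T : AddMonoid.End A => T a) (d.commute_eps hx)

/-- If `f` inverts `h l` and `im f = im f''` where `f''` commutes with `h l`: contradiction. -/
theorem stepB (d : Abs ρ S h Z p) {f f' : N} (hff : f * f = 1) {l : Fin k}
    (hfc : ∀ a, ρ f (eps ρ h l a) = eps ρ h l (ρ f a)) (hf : f * h l = (h l)⁻¹ * f)
    (hf' : f' * h l = h l * f') (him : im ρ f = im ρ f') : False := by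
  -- `f` is trivial on the vectors `c` with `f c = c`, `f (h c) = h c`
  have key : ∀ c, eps ρ h l c = c → ρ f c = c → ρ f (ρ (h l) c) = ρ (h l) c → c = 0 := by
    intro c hc h1 h2
    refine d.fpf' hc (d.sq_fix ?_)
    have h3 : ρ f (ρ (h l) c) = ρ (h l)⁻¹ c := by
      rw [← rho_mul, hf, rho_mul, h1]
    rw [h2] at h3
    rw [h3, ← rho_mul, mul_inv_cancel, rho_one]
  have hh : ∀ a, ρ (h l) (eps ρ h l a) = eps ρ h l (ρ (h l) a) := fun a => d.commute_eps_apply rfl a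
  have h1 : ∀ a, ρ f (eps ρ h l a) = eps ρ h l a := by
    intro a
    have h0 : eps ρ h l a + ρ f (eps ρ h l a) = 0 := by
      set c := eps ρ h l a + ρ f (eps ρ h l a) with hc
      have hcim : c ∈ im ρ f := mem_im.2 ⟨_, rfl⟩
      have hce : eps ρ h l c = c := by rw [hc, map_add, d.idem_apply, hfc, d.idem_apply]
      refine key c hce (fix_im hff hcim) ?_
      refine fix_im hff ?_
      rw [him] at hcim ⊢
      obtain ⟨b, hb⟩ := mem_im.1 hcim
      refine mem_im.2 ⟨ρ (h l) b, ?_⟩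
      rw [← hb, map_add, ← rho_mul, ← rho_mul, hf']
    calc ρ f (eps ρ h l a) = (eps ρ h l a + eps ρ h l a) + ρ f (eps ρ h l a) := by rw [d.two, zero_add]
      _ = eps ρ h l a := by rw [add_assoc, h0, add_zero]
  obtain ⟨a, ha⟩ := d.eps_ne l
  refine ha (key _ (d.idem_apply l a) (h1 a) ?_)
  rw [hh, h1]

theorem no_four_S (d : Abs ρ S h Z p) {f g : N} (hf : f ∈ (S : Subgroup N)) (hg : g ∈ (S : Subgroup N))
    (hff : f * f = 1) (hgg : g * g = 1) (hfg : f * g = g * f) (hf1 : f ≠ 1)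
    (h1 : im ρ f = im ρ g) (h2 : im ρ f = im ρ (g * f)) : False := by
  obtain ⟨σ, hσ⟩ := d.perm f hf
  obtain ⟨τ, hτ⟩ := d.perm g hg
  have hgf : g * f * (g * f) = 1 := by
    calc g * f * (g * f) = g * (f * g) * f := by group
      _ = (g * g) * (f * f) := by rw [hfg]; group
      _ = 1 := by rw [hff, hgg, one_mul]
  have hfg' : f * g * (f * g) = 1 := by rw [hfg]; exact hgf
  have hσ1 : ∀ x, σ x = x := d.stepA hσ hτ hgg hgf h1 h2
  have hτ1 : ∀ x, τ x = x := d.stepA hτ hσ hff hfg' h1.symm (by rw [← h1, h2, hfg])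
  have hσ2 : ∀ l, ∃ r : ℕ, f * h l * f⁻¹ = h l ^ r := fun l => by
    obtain ⟨r, hr⟩ := hσ l
    exact ⟨r, by rw [hr, hσ1]⟩
  have hτ2 : ∀ l, ∃ r : ℕ, g * h l * g⁻¹ = h l ^ r := fun l => by
    obtain ⟨r, hr⟩ := hτ l
    exact ⟨r, by rw [hr, hτ1]⟩
  -- some `h l` is inverted by `f`
  have hl : ∃ l, ¬ f * h l = h l * f := by
    by_contra hcon
    push Not at hcon
    exact hf1 (d.field f hf hcon)
  obtain ⟨l, hl⟩ := hl
  obtain ⟨r, hr⟩ := hσ2 l
  have hinv : f * h l = (h l)⁻¹ * f := (d.inv_or hff hr).resolve_left hl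
  have hfc : ∀ a, ρ f (eps ρ h l a) = eps ρ h l (ρ f a) := by
    intro a
    rw [conj_eps_apply hσ, hσ1]
  obtain ⟨r', hr'⟩ := hτ2 l
  rcases d.inv_or hgg hr' with hg1 | hg1
  · exact d.stepB hff hfc hinv hg1 h1
  · refine d.stepB hff hfc hinv (f' := g * f) ?_ h2
    calc g * f * h l = g * (f * h l) := by group
      _ = (g * h l * g⁻¹)⁻¹ * g * f := by rw [hinv]; group
      _ = h l * (g * f) := by rw [hg1]; group

theorem exists_conj_le {N : Type u} [Group N] [Finite N] {S : Sylow 2 N} {M : Subgroup N}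
    (hS : (S : Subgroup N) ≤ M) {T : Subgroup N} (hT : IsPGroup 2 T) (hTM : T ≤ M) :
    ∃ x ∈ M, ∀ t ∈ T, x * t * x⁻¹ ∈ (S : Subgroup N) := by
  obtain ⟨Q, hQ⟩ := (hT.comap_of_injective M.subtype M.subtype_injective).exists_le_sylow
  obtain ⟨x, hx⟩ := MulAction.exists_smul_eq M Q (S.subtype hS)
  refine ⟨x, x.2, fun t ht => ?_⟩
  have h1 : (⟨t, hTM ht⟩ : M) ∈ Q := hQ ht
  have h2 : x * ⟨t, hTM ht⟩ * x⁻¹ ∈ (x • Q : Sylow 2 M) := by
    rw [← SetLike.mem_coe, Sylow.coe_smul]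
    exact ⟨⟨t, hTM ht⟩, h1, rfl⟩
  rw [hx] at h2
  exact h2

theorem im_conj (x f : N) : im ρ (x * f * x⁻¹) = (im ρ f).map (ρ x : A →+ A) := by
  ext a
  constructor
  · intro ha
    obtain ⟨b, rfl⟩ := mem_im.1 ha
    refine ⟨ρ x⁻¹ b + ρ f (ρ x⁻¹ b), mem_im.2 ⟨_, rfl⟩, ?_⟩
    change ρ x (ρ x⁻¹ b + ρ f (ρ x⁻¹ b)) = _
    rw [map_add, ← rho_mul, mul_inv_cancel, rho_one, ← rho_mul, ← rho_mul]
  · rintro ⟨_, hc, rfl⟩
    obtain ⟨b, rfl⟩ := mem_im.1 hc
    refine mem_im.2 ⟨ρ x b, ?_⟩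
    change _ = ρ x (b + ρ f b)
    rw [map_add, ← rho_mul, ← rho_mul]
    congr 3
    group

/-- **(2)**: a 2-subgroup of `N` contains no four-group `⟨f, g⟩` with `[A, f] = [A, g] = [A, fg]`. -/
theorem no_four (d : Abs ρ S h Z p) {T : Subgroup N} (hT : IsPGroup 2 T) {f g : N} (hf : f ∈ T) (hg : g ∈ T)
    (hff : f * f = 1) (hgg : g * g = 1) (hfg : f * g = g * f) (hf1 : f ≠ 1)
    (h1 : im ρ f = im ρ g) (h2 : im ρ f = im ρ (g * f)) : False := by
  obtain ⟨x, -, hx⟩ := exists_conj_le (S := S) (M := ⊤) le_top hT le_top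
  refine d.no_four_S (hx f hf) (hx g hg) ?_ ?_ ?_ ?_ ?_ ?_
  · calc x * f * x⁻¹ * (x * f * x⁻¹) = x * (f * f) * x⁻¹ := by group
      _ = 1 := by rw [hff]; group
  · calc x * g * x⁻¹ * (x * g * x⁻¹) = x * (g * g) * x⁻¹ := by group
      _ = 1 := by rw [hgg]; group
  · calc x * f * x⁻¹ * (x * g * x⁻¹) = x * (f * g) * x⁻¹ := by group
      _ = x * g * x⁻¹ * (x * f * x⁻¹) := by rw [hfg]; group
  · intro h3
    apply hf1
    calc f = x⁻¹ * (x * f * x⁻¹) * x := by group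
      _ = 1 := by rw [h3]; group
  · rw [im_conj, im_conj, h1]
  · rw [show x * g * x⁻¹ * (x * f * x⁻¹) = x * (g * f) * x⁻¹ by group, im_conj, im_conj, h2]

end Abs

end Cfsg.Agent.Omega.ThmC.Four

end

section


/-!
# THEOREM C with `D = C_V(O²(P))`, case `q ≥ 4` (bb OMEGA #19922, helper399; #20115, helper914): the data

* `DatD S L Z h p` : the situation in `G` (`L = S^L`, `E = Ω₁ Z(L)`, `Z l = Z_l`, `h l = h_l`); it is
  `ThmC.Four.Dat` with a weaker condition on `Ω₁ Z(S)`.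
* `AbsD ρ S h Z p` : the situation in the group `N = N_G(E) / C_G(E)` acting faithfully on `E` (written additively).
-/

set_option autoImplicit false

namespace Cfsg.Agent.Omega.IId.ThmCQ

open Subgroup Cfsg Cfsg.Agent.ZN Cfsg.Agent.Omega.ThmC.Four

universe u

/-- The data of THEOREM C with `D`, case `q ≥ 4`. `L = S^L`, `E = Ω₁ Z(L)`. -/
structure DatD {G : Type u} [Group G] [Finite G] (S : Sylow 2 G) (L : Subgroup G) {k : ℕ}
    (Z : Fin k → Subgroup G) (h : Fin k → G) (p : ℕ) : Prop where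
  prime : p.Prime
  odd : p ≠ 2
  LS : L ≤ S
  nor : (S : Subgroup G) ≤ normalizer (L : Set G)
  cL : centralizer (L : Set G) ≤ L
  hL : ∀ l, h l ∈ normalizer (L : Set G)
  /-- the `h l` commute and have order `p` modulo `C(E)` -/
  hcomm : ∀ l m, Act (zc L) (h l * h m) (h m * h l)
  hp : ∀ l, Act (zc L) (h l ^ p) 1
  /-- `S` permutes the `⟨h l⟩` modulo `C(E)` -/
  perm : ∀ s ∈ (S : Subgroup G), ∃ σ : Equiv.Perm (Fin k), ∀ l, ∃ r : ℕ,
    Act (zc L) (s * h l * s⁻¹) (h (σ l) ^ r)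
  /-- `C_S(D^) = L` (modulo `C(E)`) -/
  field : ∀ s ∈ (S : Subgroup G), (∀ l, Act (zc L) (s * h l) (h l * s)) → s ∈ L
  ZE : ∀ l, Z l ≤ zc L
  Zne : ∀ l, Z l ≠ ⊥
  Znor : ∀ l, h l ∈ normalizer (Z l : Set G)
  Zfpf : ∀ l, ∀ z ∈ Z l, h l * z = z * h l → z = 1
  Zcent : ∀ l m, l ≠ m → ∀ z ∈ Z l, h m * z = z * h m
  /-- `S` permutes the `Z l` -/
  Zperm : ∀ s ∈ (S : Subgroup G), ∀ l, ∃ m, ∀ v, v ∈ Z l ↔ s * v * s⁻¹ ∈ Z m
  /-- `S` is transitive on the `Z l` -/
  trans : ∀ l m, ∃ s ∈ (S : Subgroup G), ∀ v, v ∈ Z l ↔ s * v * s⁻¹ ∈ Z m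
  /-- `C_E(S) ≤ C_E(D^) (∑ Z l)` -/
  fix : ∀ z ∈ zc (S : Subgroup G), ∃ d ∈ zc L, (∀ l, h l * d = d * h l) ∧ ∃ w ∈ ⨆ l, Z l, z = d * w

/-- `C_A(D^)` -/
def C0 {N A : Type u} [Group N] [AddCommGroup A] (ρ : N →* AddMonoid.End A) {k : ℕ} (h : Fin k → N) : AddSubgroup A where
  carrier := {a | ∀ l, ρ (h l) a = a}
  zero_mem' l := map_zero _
  add_mem' ha hb l := by rw [map_add, ha l, hb l]
  neg_mem' ha l := by rw [map_neg, ha l]

theorem mem_C0 {N A : Type u} [Group N] [AddCommGroup A] {ρ : N →* AddMonoid.End A} {k : ℕ} {h : Fin k → N} {a : A} :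
    a ∈ C0 ρ h ↔ ∀ l, ρ (h l) a = a := Iff.rfl

/-- The data of THEOREM C with `D`, case `q ≥ 4`, in `N = N_G(E) / C_G(E)` (any finite group), acting faithfully on
`A = E` (written additively) by `ρ`. -/
structure AbsD {N A : Type u} [Group N] [Finite N] [AddCommGroup A] [Finite A] (ρ : N →* AddMonoid.End A)
    (S : Sylow 2 N) {k : ℕ} (h : Fin k → N) (Z : Fin k → AddSubgroup A) (p : ℕ) : Prop where
  two : ∀ a : A, a + a = 0
  inj : Function.Injective ρ
  prime : p.Prime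
  odd : p ≠ 2
  hcomm : ∀ l m, h l * h m = h m * h l
  hp : ∀ l, h l ^ p = 1
  perm : ∀ s ∈ (S : Subgroup N), ∃ σ : Equiv.Perm (Fin k), ∀ l, ∃ r : ℕ, s * h l * s⁻¹ = h (σ l) ^ r
  field : ∀ s ∈ (S : Subgroup N), (∀ l, s * h l = h l * s) → s = 1
  Zne : ∀ l, Z l ≠ ⊥
  Znor : ∀ l, ∀ z ∈ Z l, ρ (h l) z ∈ Z l
  Zfpf : ∀ l, ∀ z ∈ Z l, ρ (h l) z = z → z = 0
  Zcent : ∀ l m, l ≠ m → ∀ z ∈ Z l, ρ (h m) z = z
  fix : ∀ a : A, (∀ s ∈ (S : Subgroup N), ρ s a = a) → a ∈ C0 ρ h ⊔ ⨆ l, Z l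

end Cfsg.Agent.Omega.IId.ThmCQ

end

section


/-!
# THEOREM C with `D`, case `q ≥ 4`, (1): the decomposition `A = C₀ ⊕ ⨁ C_l`

`eps ρ h l` is the projection onto `C_l = [A, h l]`, `avg ρ (DD h)` the projection onto `C₀ = C_A(D^)`
(after helper334's `ThmC/FourDec.lean`).
-/

set_option autoImplicit false
set_option linter.unusedSectionVars false
set_option linter.unusedVariables false
set_option linter.style.haveILetI false

namespace Cfsg.Agent.Omega.IId.ThmCQ

open Subgroup Cfsg Cfsg.Agent.Omega.ThmC.Four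
open Cfsg.Agent.Omega.ThmC.Four.Abs (Perm zpowers_le_DD' DD_le_sup DD_le_sup' map_DL_le map_DD_le card_map_conj map_DD map_DL conj_eps pow_fix)

universe u

namespace AbsD

variable {N A : Type u} [Group N] [Finite N] [AddCommGroup A] [Finite A] {ρ : N →* AddMonoid.End A}
  {S : Sylow 2 N} {k : ℕ} {h : Fin k → N} {Z : Fin k → AddSubgroup A} {p : ℕ}

theorem DD_comm (d : AbsD ρ S h Z p) : ∀ x ∈ DD h, ∀ y ∈ DD h, x * y = y * x := by
  have h1 : ∀ l, ∀ y ∈ DD h, h l * y = y * h l := by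
    intro l y hy
    have : DD h ≤ centralizer ({h l} : Set N) := by
      rw [DD, closure_le]
      rintro _ ⟨m, rfl⟩
      rw [SetLike.mem_coe, mem_centralizer_iff]
      rintro _ rfl
      exact d.hcomm l m
    exact mem_centralizer_iff.1 (this hy) _ rfl
  intro x hx y hy
  have : DD h ≤ centralizer ({y} : Set N) := by
    rw [DD, closure_le]
    rintro _ ⟨m, rfl⟩
    rw [SetLike.mem_coe, mem_centralizer_iff]
    rintro _ rfl
    exact (h1 m _ hy).symm
  exact (mem_centralizer_iff.1 (this hx) _ rfl).symm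

theorem DD_pow (d : AbsD ρ S h Z p) : ∀ x ∈ DD h, x ^ p = 1 := by
  intro x hx
  have hx' := hx
  rw [DD] at hx
  induction hx using Subgroup.closure_induction with
  | mem z hz => obtain ⟨l, rfl⟩ := hz; exact d.hp l
  | one => exact one_pow _
  | mul a b ha hb iha ihb =>
    have hc : Commute a b := d.DD_comm a ha b hb
    rw [hc.mul_pow, iha ha, ihb hb, one_mul]
  | inv a ha iha => rw [inv_pow, iha ha, inv_one]

theorem odd_card (d : AbsD ρ S h Z p) {X : Subgroup N} (hX : X ≤ DD h) : Odd (Nat.card X) := by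
  haveI := Fact.mk d.prime
  have : IsPGroup p X := fun x => ⟨1, by
    rw [pow_one]
    exact Subtype.ext (d.DD_pow _ (hX x.2))⟩
  obtain ⟨n, hn⟩ := IsPGroup.iff_card.1 this
  rw [hn]
  exact (d.prime.odd_of_ne_two d.odd).pow

theorem avg_mul' (d : AbsD ρ S h Z p) {X Y Z' : Subgroup N} (hX : X ≤ DD h) (hY : Y ≤ DD h) (hZ : Z' ≤ DD h)
    (hXZ : X ≤ Z') (hYZ : Y ≤ Z') (hle : Z' ≤ X ⊔ Y) : avg ρ X * avg ρ Y = avg ρ Z' :=
  avg_mul_avg ρ d.two (d.odd_card hX) (d.odd_card hY) (d.odd_card hZ) hXZ hYZ hle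
    fun x hx y hy => d.DD_comm x (hX hx) y (hY hy)

theorem DL_DL (d : AbsD ρ S h Z p) {l m : Fin k} (hlm : l ≠ m) :
    avg ρ (DL h l) * avg ρ (DL h m) = avg ρ (DD h) :=
  d.avg_mul' (DL_le h l) (DL_le h m) le_rfl (DL_le h l) (DL_le h m) (DD_le_sup hlm)

theorem self_mul (d : AbsD ρ S h Z p) {X : Subgroup N} (hX : X ≤ DD h) : avg ρ X * avg ρ X = avg ρ X :=
  d.avg_mul' hX hX hX le_rfl le_rfl le_sup_left

theorem mul_DD (d : AbsD ρ S h Z p) {X : Subgroup N} (hX : X ≤ DD h) : avg ρ X * avg ρ (DD h) = avg ρ (DD h) :=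
  d.avg_mul' hX le_rfl le_rfl hX le_rfl le_sup_right

theorem DD_mul (d : AbsD ρ S h Z p) {X : Subgroup N} (hX : X ≤ DD h) : avg ρ (DD h) * avg ρ X = avg ρ (DD h) :=
  d.avg_mul' le_rfl hX le_rfl le_rfl hX le_sup_left

theorem add_self' (d : AbsD ρ S h Z p) (T : AddMonoid.End A) : T + T = 0 := End_two d.two T

theorem eps_idem (d : AbsD ρ S h Z p) (l : Fin k) : eps ρ h l * eps ρ h l = eps ρ h l := by
  rw [eps, mul_add, add_mul, add_mul, d.self_mul (DL_le h l), d.mul_DD (DL_le h l), d.DD_mul (DL_le h l),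
    d.self_mul le_rfl, d.add_self', add_zero]

theorem eps_orth (d : AbsD ρ S h Z p) {l m : Fin k} (hlm : l ≠ m) : eps ρ h l * eps ρ h m = 0 := by
  rw [eps, eps, mul_add, add_mul, add_mul, d.DL_DL hlm, d.mul_DD (DL_le h l), d.DD_mul (DL_le h m),
    d.self_mul le_rfl, d.add_self']

theorem h_mul_eps (d : AbsD ρ S h Z p) {l m : Fin k} (hml : m ≠ l) : ρ (h m) * eps ρ h l = eps ρ h l := by
  rw [eps, mul_add, left_avg ρ (h_mem_DL h hml), left_avg ρ (h_mem_DD h m)]

theorem eps_mul_h (d : AbsD ρ S h Z p) {l m : Fin k} (hml : m ≠ l) : eps ρ h l * ρ (h m) = eps ρ h l := by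
  rw [eps, add_mul, avg_right ρ (h_mem_DL h hml), avg_right ρ (h_mem_DD h m)]

/-- An element of `N` which commutes with all `h m` commutes with `eps l`. -/
theorem commute_DD (d : AbsD ρ S h Z p) {x : N} (hx : x ∈ DD h) (l : Fin k) :
    ρ x * eps ρ h l = eps ρ h l * ρ x := by
  rw [eps, mul_add, add_mul]
  congr 1
  · refine commute_avg ρ fun y hy => ?_
    rw [← map_mul, ← map_mul, d.DD_comm x hx y (DL_le h l hy)]
  · refine commute_avg ρ fun y hy => ?_
    rw [← map_mul, ← map_mul, d.DD_comm x hx y hy]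

/-! ### (1) -/

/-- `Z l` is invariant under `D`. -/
theorem Z_inv (d : AbsD ρ S h Z p) (l : Fin k) : ∀ x ∈ DD h, ∀ z ∈ Z l, ρ x z ∈ Z l := by
  have hgen : ∀ m, ∀ z ∈ Z l, ρ (h m) z ∈ Z l := by
    intro m z hz
    by_cases hm : l = m
    · subst hm; exact d.Znor l z hz
    · rw [d.Zcent l m hm z hz]; exact hz
  intro x hx
  rw [DD] at hx
  induction hx using Subgroup.closure_induction with
  | mem y hy => obtain ⟨m, rfl⟩ := hy; exact hgen m
  | one => intro z hz; rw [map_one]; exact hz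
  | mul a b ha hb iha ihb => intro z hz; rw [map_mul]; exact iha _ (ihb z hz)
  | inv a ha iha =>
    intro z hz
    -- `a⁻¹ = a ^ (p - 1)`
    have h1 : a⁻¹ = a ^ (p - 1) := by
      have h2 := d.DD_pow a ha
      have h3 : a ^ (p - 1) * a = 1 := by
        rw [← pow_succ, Nat.sub_add_cancel d.prime.one_lt.le, h2]
      exact (eq_inv_of_mul_eq_one_left h3).symm
    rw [h1]
    generalize p - 1 = n
    induction n with
    | zero => rw [pow_zero, map_one]; exact hz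
    | succ n ih => rw [pow_succ', map_mul]; exact iha _ ih

theorem avg_Z (d : AbsD ρ S h Z p) {l : Fin k} {X : Subgroup N} (hX : X ≤ DD h) (hl : h l ∈ X) {z : A}
    (hz : z ∈ Z l) : avg ρ X z = 0 := by
  refine d.Zfpf l _ (avg_mem ρ (fun x hx => d.Z_inv l x (hX hx)) hz) ?_
  exact fix_avg_apply ρ hl z

theorem avg_DL_Z (d : AbsD ρ S h Z p) {l : Fin k} {z : A} (hz : z ∈ Z l) : avg ρ (DL h l) z = z := by
  refine avg_apply_of_fix ρ d.two (d.odd_card (DL_le h l)) fun x hx => ?_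
  rw [DL] at hx
  induction hx using Subgroup.closure_induction with
  | mem y hy => obtain ⟨m, hm, rfl⟩ := hy; exact d.Zcent l m (fun e => hm e.symm) z hz
  | one => rw [map_one]; rfl
  | mul a b ha hb iha ihb => rw [map_mul]; change ρ a (ρ b z) = z; rw [ihb, iha]
  | inv a ha iha => exact pow_fix iha ⟨-1, by simp⟩

theorem eps_Z (d : AbsD ρ S h Z p) {l : Fin k} {z : A} (hz : z ∈ Z l) : eps ρ h l z = z := by
  change avg ρ (DL h l) z + avg ρ (DD h) z = z
  rw [d.avg_DL_Z hz, d.avg_Z le_rfl (h_mem_DD h l) hz, add_zero]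

theorem eps_Z' (d : AbsD ρ S h Z p) {l m : Fin k} (hml : m ≠ l) {z : A} (hz : z ∈ Z l) : eps ρ h m z = 0 := by
  change avg ρ (DL h m) z + avg ρ (DD h) z = 0
  rw [d.avg_Z (DL_le h m) (h_mem_DL h hml.symm) hz, d.avg_Z le_rfl (h_mem_DD h l) hz, add_zero]

theorem eps_ne (d : AbsD ρ S h Z p) (l : Fin k) : ∃ a, eps ρ h l a ≠ 0 := by
  obtain ⟨a, ha⟩ := AddSubgroup.ne_bot_iff_exists_ne_zero.1 (d.Zne l)
  refine ⟨a, ?_⟩
  rw [d.eps_Z a.2]
  exact fun h => ha (Subtype.ext h)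

theorem DD_mul_eps (d : AbsD ρ S h Z p) (l : Fin k) : avg ρ (DD h) * eps ρ h l = 0 := by
  rw [eps, mul_add, d.DD_mul (DL_le h l), d.self_mul le_rfl, d.add_self']

theorem eps_mul_DD (d : AbsD ρ S h Z p) (l : Fin k) : eps ρ h l * avg ρ (DD h) = 0 := by
  rw [eps, add_mul, d.mul_DD (DL_le h l), d.self_mul le_rfl, d.add_self']

/-- `C₀` is fixed by `D^`. -/
theorem C0_fix {a : A} (ha : a ∈ C0 ρ h) : ∀ x ∈ DD h, ρ x a = a := by
  intro x hx
  rw [DD] at hx
  induction hx using Subgroup.closure_induction with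
  | mem y hy => obtain ⟨m, rfl⟩ := hy; exact ha m
  | one => rw [map_one]; rfl
  | mul a b ha hb iha ihb => rw [map_mul]; change ρ a (ρ b _) = _; rw [ihb, iha]
  | inv a ha iha => exact pow_fix iha ⟨-1, by simp⟩

theorem avg_C0 (d : AbsD ρ S h Z p) {X : Subgroup N} (hX : X ≤ DD h) {a : A} (ha : a ∈ C0 ρ h) : avg ρ X a = a :=
  avg_apply_of_fix ρ d.two (d.odd_card hX) fun x hx => C0_fix ha x (hX hx)

theorem eps_C0 (d : AbsD ρ S h Z p) (l : Fin k) {a : A} (ha : a ∈ C0 ρ h) : eps ρ h l a = 0 := by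
  change avg ρ (DL h l) a + avg ρ (DD h) a = 0
  rw [d.avg_C0 (DL_le h l) ha, d.avg_C0 le_rfl ha, d.two]

/-- **(1)** `A = C₀ ⊕ ⨁ C_l`. -/
theorem sum_eps (d : AbsD ρ S h Z p) : avg ρ (DD h) + ∑ l, eps ρ h l = 1 := by
  classical
  set E₁ : AddMonoid.End A := ∑ l, eps ρ h l with hE₁
  set E : AddMonoid.End A := avg ρ (DD h) + E₁ with hE
  have hEE₁ : E₁ * E₁ = E₁ := by
    rw [hE₁, Finset.sum_mul]
    refine Finset.sum_congr rfl fun l _ => ?_
    rw [Finset.mul_sum, Finset.sum_eq_single l (fun m _ hm => d.eps_orth hm.symm)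
      (fun h => (h (Finset.mem_univ l)).elim), d.eps_idem]
  have h01 : avg ρ (DD h) * E₁ = 0 := by
    rw [hE₁, Finset.mul_sum]
    exact Finset.sum_eq_zero fun l _ => d.DD_mul_eps l
  have h10 : E₁ * avg ρ (DD h) = 0 := by
    rw [hE₁, Finset.sum_mul]
    exact Finset.sum_eq_zero fun l _ => d.eps_mul_DD l
  have hEE : E * E = E := by
    rw [hE, mul_add, add_mul, add_mul, d.self_mul le_rfl, h10, h01, hEE₁, add_zero, zero_add]
  have hES : ∀ s ∈ (S : Subgroup N), ρ s * E = E * ρ s := by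
    intro s hs
    obtain ⟨σ, hσ⟩ := d.perm s hs
    rw [hE, mul_add, add_mul, hE₁, Finset.mul_sum, Finset.sum_mul]
    congr 1
    · rw [avg_conj, map_DD hσ]
    · calc ∑ l, ρ s * eps ρ h l = ∑ l, eps ρ h (σ l) * ρ s := Finset.sum_congr rfl fun l _ => conj_eps hσ l
        _ = _ := Equiv.sum_comp σ fun l => eps ρ h l * ρ s
  have hEapp : ∀ a, E a = avg ρ (DD h) a + ∑ l, eps ρ h l a := by
    intro a
    rw [hE, hE₁]
    change avg ρ (DD h) a + (∑ l, eps ρ h l : AddMonoid.End A) a = _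
    congr 1
    exact AddMonoidHom.finsetSum_apply _ _ _
  have hEZ : ∀ a ∈ C0 ρ h ⊔ ⨆ l, Z l, E a = a := by
    intro a ha
    have : C0 ρ h ⊔ ⨆ l, Z l ≤ (E : A →+ A).eqLocus (AddMonoidHom.id A) := by
      refine sup_le (fun a ha => ?_) (iSup_le fun l z hz => ?_)
      · change E a = a
        rw [hEapp, d.avg_C0 le_rfl ha, Finset.sum_eq_zero fun l _ => d.eps_C0 l ha, add_zero]
      · change E z = z
        rw [hEapp, d.avg_Z le_rfl (h_mem_DD h l) hz, zero_add, Finset.sum_eq_single l (fun m _ hm => d.eps_Z' hm hz)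
          (fun h => (h (Finset.mem_univ l)).elim), d.eps_Z hz]
    exact this ha
  have hker : (E : A →+ A).ker = ⊥ := by
    by_contra hne
    obtain ⟨a, ha, ha0, hfix⟩ := exists_fix (ρ := ρ) d.two S.isPGroup' (K := (E : A →+ A).ker) (by
      intro s hs a ha
      have h1 : E a = 0 := ha
      change E (ρ s a) = 0
      have h2 := congrArg (fun T : AddMonoid.End A => T a) (hES s hs)
      change ρ s (E a) = E (ρ s a) at h2
      rw [← h2, h1, map_zero]) hne
    have h1 : E a = 0 := ha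
    rw [hEZ a (d.fix a hfix)] at h1
    exact ha0 h1
  ext a
  have h1 : a + E a ∈ (E : A →+ A).ker := by
    change E (a + E a) = 0
    have h2 := congrArg (fun T : AddMonoid.End A => T a) hEE
    change E (E a) = E a at h2
    rw [map_add, h2, d.two]
  rw [hker, AddSubgroup.mem_bot] at h1
  change E a = a
  have h3 := d.two a
  calc E a = a + a + E a := by rw [h3, zero_add]
    _ = a + (a + E a) := by rw [add_assoc]
    _ = a := by rw [h1, add_zero]

theorem avg_h_mul_eps (d : AbsD ρ S h Z p) (l : Fin k) : avg ρ (zpowers (h l)) * eps ρ h l = 0 := by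
  rw [eps, mul_add, d.mul_DD (zpowers_le_DD h l),
    d.avg_mul' (zpowers_le_DD h l) (DL_le h l) le_rfl (zpowers_le_DD h l) (DL_le h l) (DD_le_sup' l), d.add_self']

/-- `eps l = 1 + avg ⟨h l⟩`. -/
theorem eps_eq (d : AbsD ρ S h Z p) (l : Fin k) : eps ρ h l = 1 + avg ρ (zpowers (h l)) := by
  classical
  have h1 : avg ρ (zpowers (h l)) = avg ρ (DD h) + ∑ m, avg ρ (zpowers (h l)) * eps ρ h m := by
    calc avg ρ (zpowers (h l)) = avg ρ (zpowers (h l)) * (avg ρ (DD h) + ∑ l, eps ρ h l) := by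
          rw [d.sum_eps, mul_one]
      _ = _ := by rw [mul_add, d.mul_DD (zpowers_le_DD h l), Finset.mul_sum]
  have h2 : eps ρ h l + avg ρ (zpowers (h l)) = 1 := by
    rw [h1, ← d.sum_eps, ← Finset.add_sum_erase Finset.univ _ (Finset.mem_univ l),
      ← Finset.add_sum_erase (a := l) Finset.univ (fun m => eps ρ h m) (Finset.mem_univ l), d.avg_h_mul_eps, zero_add,
      add_left_comm]
    congr 2
    refine Finset.sum_congr rfl fun m hm => ?_
    have hml : l ≠ m := (Finset.ne_of_mem_erase hm).symm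
    refine avg_mul_of_fix ρ d.two (d.odd_card (zpowers_le_DD h l)) fun x hx => ?_
    ext a
    exact pow_fix (ρ := ρ) (congrArg (fun T : AddMonoid.End A => T a) (d.h_mul_eps hml)) hx
  calc eps ρ h l = eps ρ h l + (avg ρ (zpowers (h l)) + avg ρ (zpowers (h l))) := by rw [d.add_self', add_zero]
    _ = _ := by rw [← add_assoc, h2]

/-- `h l` is fixed-point-free on `C_l`. -/
theorem fpf (d : AbsD ρ S h Z p) {l : Fin k} {a : A} (ha : ρ (h l) (eps ρ h l a) = eps ρ h l a) :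
    eps ρ h l a = 0 := by
  have h1 : avg ρ (zpowers (h l)) (eps ρ h l a) = eps ρ h l a :=
    avg_apply_of_fix ρ d.two (d.odd_card (zpowers_le_DD h l)) fun x hx => pow_fix ha hx
  rw [← h1]
  exact congrArg (fun T : AddMonoid.End A => T a) (d.avg_h_mul_eps l)

/-- An element of `N` which commutes with `h l` commutes with `eps l`. -/
theorem commute_eps (d : AbsD ρ S h Z p) {x : N} {l : Fin k} (hx : x * h l = h l * x) :
    ρ x * eps ρ h l = eps ρ h l * ρ x := by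
  rw [d.eps_eq, mul_add, add_mul, mul_one, one_mul]
  congr 1
  refine commute_avg ρ fun y hy => ?_
  obtain ⟨n, rfl⟩ := hy
  rw [← map_mul, ← map_mul]
  congr 1
  exact ((show Commute x (h l) from hx).zpow_right n)

theorem h_ne (d : AbsD ρ S h Z p) (l : Fin k) : h l ≠ 1 := by
  intro he
  obtain ⟨a, ha⟩ := d.eps_ne l
  refine ha (d.fpf ?_)
  rw [he, map_one]
  rfl

theorem orderOf_h (d : AbsD ρ S h Z p) (l : Fin k) : orderOf (h l) = p := by
  haveI := Fact.mk d.prime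
  exact orderOf_eq_prime (d.hp l) (d.h_ne l)

end AbsD

end Cfsg.Agent.Omega.IId.ThmCQ

end

section


/-!
# THEOREM C with `D`, case `q ≥ 4`, (2): no four-group all of whose involutions have the same commutator space
(after helper334's `ThmC/FourTwo.lean`)
-/

set_option autoImplicit false
set_option linter.unusedSectionVars false
set_option linter.unusedVariables false

namespace Cfsg.Agent.Omega.IId.ThmCQ

open Subgroup Cfsg Cfsg.Agent.Omega.ThmC.Four
open Cfsg.Agent.Omega.ThmC.Four.Abs (Perm Perm.mul conj_eps pow_fix conj_eps_apply sq_apply fix_im exists_conj_le im_conj)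

universe u

namespace AbsD

variable {N A : Type u} [Group N] [Finite N] [AddCommGroup A] [Finite A] {ρ : N →* AddMonoid.End A}
  {S : Sylow 2 N} {k : ℕ} {h : Fin k → N} {Z : Fin k → AddSubgroup A} {p : ℕ}

theorem idem_apply (d : AbsD ρ S h Z p) (l : Fin k) (a : A) : eps ρ h l (eps ρ h l a) = eps ρ h l a :=
  congrArg (fun T : AddMonoid.End A => T a) (d.eps_idem l)

theorem orth_apply (d : AbsD ρ S h Z p) {l m : Fin k} (hlm : l ≠ m) (a : A) : eps ρ h l (eps ρ h m a) = 0 :=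
  congrArg (fun T : AddMonoid.End A => T a) (d.eps_orth hlm)

theorem stepA1 (d : AbsD ρ S h Z p) {f g : N} {σ τ : Equiv.Perm (Fin k)} (hf : Perm h f σ) (hg : Perm h g τ)
    (hgg : g * g = 1) (him : im ρ f ≤ im ρ g) {x : Fin k} (hx : σ x ≠ x) : τ x ≠ x := by
  intro hτ
  have key : ∀ a, ∃ b, eps ρ h x a = eps ρ h x b + ρ g (eps ρ h x b) := by
    intro a
    obtain ⟨b, hb⟩ := mem_im.1 (him (mem_im.2 ⟨eps ρ h x a, rfl⟩))
    refine ⟨b, ?_⟩
    have h1 := congrArg (eps ρ h x) hb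
    rw [map_add, map_add, d.idem_apply, conj_eps_apply hf, d.orth_apply hx.symm, add_zero] at h1
    rw [conj_eps_apply hg, hτ]
    exact h1.symm
  have hfix : ∀ a, ρ g (eps ρ h x a) = eps ρ h x a := by
    intro a
    obtain ⟨b, hb⟩ := key a
    rw [hb, map_add, sq_apply hgg, add_comm]
  obtain ⟨a, ha⟩ := d.eps_ne x
  obtain ⟨b, hb⟩ := key a
  rw [hfix, d.two] at hb
  exact ha hb

theorem stepA2 (d : AbsD ρ S h Z p) {f g : N} {σ τ : Equiv.Perm (Fin k)} (hf : Perm h f σ) (hg : Perm h g τ)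
    (hgg : g * g = 1) (him : im ρ f ≤ im ρ g) {x : Fin k} (hx : σ x ≠ x) (hx' : τ x ≠ x) : τ (σ x) = x := by
  by_contra hne
  obtain ⟨a, ha⟩ := d.eps_ne x
  have h1 := fix_im hgg (him (mem_im.2 ⟨eps ρ h x a, rfl⟩))
  have h2 := congrArg (eps ρ h x) h1
  rw [map_add, map_add, map_add, d.idem_apply, conj_eps_apply hf, d.orth_apply hx.symm, add_zero,
    conj_eps_apply hg, conj_eps_apply hg, d.orth_apply (Ne.symm hx'), d.orth_apply (Ne.symm hne), add_zero] at h2
  exact ha h2.symm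

theorem stepA (d : AbsD ρ S h Z p) {f g : N} {σ τ : Equiv.Perm (Fin k)} (hf : Perm h f σ) (hg : Perm h g τ)
    (hgg : g * g = 1) (hgf : g * f * (g * f) = 1) (h1 : im ρ f = im ρ g) (h2 : im ρ f = im ρ (g * f))
    (x : Fin k) : σ x = x := by
  by_contra hx
  have h3 := d.stepA1 hf hg hgg h1.le hx
  have h4 := d.stepA2 hf hg hgg h1.le hx h3
  exact d.stepA1 hf (hg.mul hf) hgf h2.le hx h4

theorem inv_or (d : AbsD ρ S h Z p) {f : N} (hff : f * f = 1) {l : Fin k} {r : ℕ}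
    (hr : f * h l * f⁻¹ = h l ^ r) : f * h l = h l * f ∨ f * h l = (h l)⁻¹ * f := by
  have hfi : f⁻¹ = f := by rw [inv_eq_iff_mul_eq_one, hff]
  have h1 : h l ^ ((r : ℤ) * r) = h l ^ (1 : ℤ) := by
    have e1 : f * (f * h l * f⁻¹) * f⁻¹ = h l := by
      calc f * (f * h l * f⁻¹) * f⁻¹ = (f * f) * h l * (f * f)⁻¹ := by group
        _ = h l := by rw [hff]; group
    have e2 : f * h l ^ r * f⁻¹ = h l ^ (r * r) := by
      rw [← conj_pow, hr, ← pow_mul]
    rw [hr, e2] at e1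
    rw [zpow_one, ← Nat.cast_mul, zpow_natCast, e1]
  rw [← orderOf_dvd_sub_iff_zpow_eq_zpow, d.orderOf_h] at h1
  have h2 : (r : ℤ) * r - 1 = (r - 1) * (r - (-1)) := by ring
  rw [h2] at h1
  have key : ∀ n : ℤ, (p : ℤ) ∣ r - n → f * h l = h l ^ n * f := by
    intro n hn
    rw [← d.orderOf_h l, orderOf_dvd_sub_iff_zpow_eq_zpow, zpow_natCast, ← hr] at hn
    rw [← hn, inv_mul_cancel_right]
  rcases (Nat.prime_iff_prime_int.1 d.prime).dvd_or_dvd h1 with h3 | h3
  · left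
    rw [key 1 h3, zpow_one]
  · right
    rw [key (-1) h3, zpow_neg_one]

theorem sq_fix (d : AbsD ρ S h Z p) {l : Fin k} {a : A} (ha : ρ (h l) (ρ (h l) a) = a) : ρ (h l) a = a := by
  have h1 : ρ (h l ^ 2) a = a := by rw [pow_two, rho_mul, ha]
  refine pow_fix h1 ?_
  obtain ⟨m, hm⟩ := d.prime.odd_of_ne_two d.odd
  refine ⟨(m + 1 : ℕ), ?_⟩
  change (h l ^ 2) ^ ((m + 1 : ℕ) : ℤ) = h l
  rw [zpow_natCast, ← pow_mul, show 2 * (m + 1) = p + 1 by omega, pow_succ, d.hp, one_mul]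

theorem fpf' (d : AbsD ρ S h Z p) {l : Fin k} {a : A} (he : eps ρ h l a = a) (ha : ρ (h l) a = a) : a = 0 := by
  have := d.fpf (l := l) (a := a) (by rw [he, ha])
  rwa [he] at this

theorem commute_eps_apply (d : AbsD ρ S h Z p) {x : N} {l : Fin k} (hx : x * h l = h l * x) (a : A) :
    ρ x (eps ρ h l a) = eps ρ h l (ρ x a) :=
  congrArg (fun T : AddMonoid.End A => T a) (d.commute_eps hx)

/-- If `f` inverts `h l` and `im f = im f''` where `f''` commutes with `h l`: contradiction. -/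
theorem stepB (d : AbsD ρ S h Z p) {f f' : N} (hff : f * f = 1) {l : Fin k}
    (hfc : ∀ a, ρ f (eps ρ h l a) = eps ρ h l (ρ f a)) (hf : f * h l = (h l)⁻¹ * f)
    (hf' : f' * h l = h l * f') (him : im ρ f = im ρ f') : False := by
  -- `f` is trivial on the vectors `c` with `f c = c`, `f (h c) = h c`
  have key : ∀ c, eps ρ h l c = c → ρ f c = c → ρ f (ρ (h l) c) = ρ (h l) c → c = 0 := by
    intro c hc h1 h2
    refine d.fpf' hc (d.sq_fix ?_)
    have h3 : ρ f (ρ (h l) c) = ρ (h l)⁻¹ c := by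
      rw [← rho_mul, hf, rho_mul, h1]
    rw [h2] at h3
    rw [h3, ← rho_mul, mul_inv_cancel, rho_one]
  have hh : ∀ a, ρ (h l) (eps ρ h l a) = eps ρ h l (ρ (h l) a) := fun a => d.commute_eps_apply rfl a
  have h1 : ∀ a, ρ f (eps ρ h l a) = eps ρ h l a := by
    intro a
    have h0 : eps ρ h l a + ρ f (eps ρ h l a) = 0 := by
      set c := eps ρ h l a + ρ f (eps ρ h l a) with hc
      have hcim : c ∈ im ρ f := mem_im.2 ⟨_, rfl⟩
      have hce : eps ρ h l c = c := by rw [hc, map_add, d.idem_apply, hfc, d.idem_apply]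
      refine key c hce (fix_im hff hcim) ?_
      refine fix_im hff ?_
      rw [him] at hcim ⊢
      obtain ⟨b, hb⟩ := mem_im.1 hcim
      refine mem_im.2 ⟨ρ (h l) b, ?_⟩
      rw [← hb, map_add, ← rho_mul, ← rho_mul, hf']
    calc ρ f (eps ρ h l a) = (eps ρ h l a + eps ρ h l a) + ρ f (eps ρ h l a) := by rw [d.two, zero_add]
      _ = eps ρ h l a := by rw [add_assoc, h0, add_zero]
  obtain ⟨a, ha⟩ := d.eps_ne l
  refine ha (key _ (d.idem_apply l a) (h1 a) ?_)
  rw [hh, h1]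

theorem no_four_S (d : AbsD ρ S h Z p) {f g : N} (hf : f ∈ (S : Subgroup N)) (hg : g ∈ (S : Subgroup N))
    (hff : f * f = 1) (hgg : g * g = 1) (hfg : f * g = g * f) (hf1 : f ≠ 1)
    (h1 : im ρ f = im ρ g) (h2 : im ρ f = im ρ (g * f)) : False := by
  obtain ⟨σ, hσ⟩ := d.perm f hf
  obtain ⟨τ, hτ⟩ := d.perm g hg
  have hgf : g * f * (g * f) = 1 := by
    calc g * f * (g * f) = g * (f * g) * f := by group
      _ = (g * g) * (f * f) := by rw [hfg]; group
      _ = 1 := by rw [hff, hgg, one_mul]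
  have hfg' : f * g * (f * g) = 1 := by rw [hfg]; exact hgf
  have hσ1 : ∀ x, σ x = x := d.stepA hσ hτ hgg hgf h1 h2
  have hτ1 : ∀ x, τ x = x := d.stepA hτ hσ hff hfg' h1.symm (by rw [← h1, h2, hfg])
  have hσ2 : ∀ l, ∃ r : ℕ, f * h l * f⁻¹ = h l ^ r := fun l => by
    obtain ⟨r, hr⟩ := hσ l
    exact ⟨r, by rw [hr, hσ1]⟩
  have hτ2 : ∀ l, ∃ r : ℕ, g * h l * g⁻¹ = h l ^ r := fun l => by
    obtain ⟨r, hr⟩ := hτ l
    exact ⟨r, by rw [hr, hτ1]⟩
  -- some `h l` is inverted by `f`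
  have hl : ∃ l, ¬ f * h l = h l * f := by
    by_contra hcon
    push Not at hcon
    exact hf1 (d.field f hf hcon)
  obtain ⟨l, hl⟩ := hl
  obtain ⟨r, hr⟩ := hσ2 l
  have hinv : f * h l = (h l)⁻¹ * f := (d.inv_or hff hr).resolve_left hl
  have hfc : ∀ a, ρ f (eps ρ h l a) = eps ρ h l (ρ f a) := by
    intro a
    rw [conj_eps_apply hσ, hσ1]
  obtain ⟨r', hr'⟩ := hτ2 l
  rcases d.inv_or hgg hr' with hg1 | hg1
  · exact d.stepB hff hfc hinv hg1 h1
  · refine d.stepB hff hfc hinv (f' := g * f) ?_ h2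
    calc g * f * h l = g * (f * h l) := by group
      _ = (g * h l * g⁻¹)⁻¹ * g * f := by rw [hinv]; group
      _ = h l * (g * f) := by rw [hg1]; group

/-- **(2)**: a 2-subgroup of `N` contains no four-group `⟨f, g⟩` with `[A, f] = [A, g] = [A, fg]`. -/
theorem no_four (d : AbsD ρ S h Z p) {T : Subgroup N} (hT : IsPGroup 2 T) {f g : N} (hf : f ∈ T) (hg : g ∈ T)
    (hff : f * f = 1) (hgg : g * g = 1) (hfg : f * g = g * f) (hf1 : f ≠ 1)
    (h1 : im ρ f = im ρ g) (h2 : im ρ f = im ρ (g * f)) : False := by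
  obtain ⟨x, -, hx⟩ := exists_conj_le (S := S) (M := ⊤) le_top hT le_top
  refine d.no_four_S (hx f hf) (hx g hg) ?_ ?_ ?_ ?_ ?_ ?_
  · calc x * f * x⁻¹ * (x * f * x⁻¹) = x * (f * f) * x⁻¹ := by group
      _ = 1 := by rw [hff]; group
  · calc x * g * x⁻¹ * (x * g * x⁻¹) = x * (g * g) * x⁻¹ := by group
      _ = 1 := by rw [hgg]; group
  · calc x * f * x⁻¹ * (x * g * x⁻¹) = x * (f * g) * x⁻¹ := by group
      _ = x * g * x⁻¹ * (x * f * x⁻¹) := by rw [hfg]; group
  · intro h3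
    apply hf1
    calc f = x⁻¹ * (x * f * x⁻¹) * x := by group
      _ = 1 := by rw [h3]; group
  · rw [im_conj, im_conj, h1]
  · rw [show x * g * x⁻¹ * (x * f * x⁻¹) = x * (g * f) * x⁻¹ by group, im_conj, im_conj, h2]

end AbsD

end Cfsg.Agent.Omega.IId.ThmCQ

end
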