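import Cfsg.Agent.Mrg.Omega.ThmC.TwoZero
import Cfsg.Agent.Mrg.Omega.IITwo.Count
import Cfsg.Agent.Omega.ThmC.TwoNE
import Mathlib

section


/-!
# THEOREM C, `q = 2`: the module `E = Ω₁Z(S⁰)` and the group `N = N_G(E)/C_G(E)`
-/

set_option autoImplicit false

namespace Cfsg.Agent.Omega.ThmC

open Subgroup Cfsg Cfsg.Agent.MinSimple.VModule
open Cfsg.Agent.ZN (zc o2)
open Cfsg.Agent.Omega.IITwo.Count (conj_mem conj_mem' mem_norm)

universe u

variable {G : Type u} [Group G]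

/-- `X` of characteristic `zc X ≤ zc Q` if `Q ≤ X`. -/
theorem zc_le_of_le {Q X : Subgroup G} (hC : centralizer (Q : Set G) ≤ Q) (h : Q ≤ X) : zc X ≤ zc Q := by
  intro v hv
  rw [mem_zc] at hv ⊢
  have h1 : ∀ q ∈ Q, q * v = v * q := fun q hq => by
    have := zc_le_centralizer X (mem_zc.mpr hv)
    exact mem_centralizer_iff.mp this q (h hq)
  exact ⟨hC (mem_centralizer_iff.mpr h1), h1, hv.2.2⟩

theorem mem_zc_iff_of_le {Q X : Subgroup G} (hC : centralizer (Q : Set G) ≤ Q) (h : Q ≤ X) {v : G} :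
    v ∈ zc X ↔ v ∈ zc Q ∧ ∀ s ∈ X, s * v = v * s := by
  constructor
  · intro hv
    exact ⟨zc_le_of_le hC h hv, fun s hs => mem_centralizer_iff.mp (zc_le_centralizer X hv) s hs⟩
  · rintro ⟨hv, hs⟩
    rw [mem_zc] at hv ⊢
    exact ⟨h hv.1, hs, hv.2.2⟩

namespace Dat

variable {S : Sylow 2 G} {Q : Subgroup G} {ι : Type} {Z : ι → Subgroup G} {x z : ι → G}

section
variable (D : Dat S Q Z x z)
include D

omit D in
theorem S0_le : S0 (S : Subgroup G) Z ≤ S := inf_le_left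

theorem Q_le_S0 : Q ≤ S0 (S : Subgroup G) Z := by
  intro q hq
  rw [mem_S0]
  refine ⟨D.QS hq, fun l => ?_⟩
  rw [mem_normalizer_iff]
  have key : ∀ v ∈ Z l, q * v * q⁻¹ = v := fun v hv => by
    have : q * v = v * q := mem_centralizer_iff.mp (zc_le_centralizer Q (D.le l hv)) q hq
    rw [this]; group
  intro v
  constructor
  · intro hv; rwa [key v hv]
  · intro hv
    have h1 : q⁻¹ * (q * v * q⁻¹) * q = q * v * q⁻¹ := by
      have : q * (q * v * q⁻¹) = (q * v * q⁻¹) * q :=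
        mem_centralizer_iff.mp (zc_le_centralizer Q (D.le l hv)) q hq
      rw [mul_assoc, ← this]; group
    have h2 : v = q * v * q⁻¹ := by
      calc v = q⁻¹ * (q * v * q⁻¹) * q := by group
        _ = _ := h1
    rwa [h2]

theorem E_le : zc (S0 (S : Subgroup G) Z) ≤ zc Q := zc_le_of_le D.CQ D.Q_le_S0

theorem mem_E {v : G} : v ∈ zc (S0 (S : Subgroup G) Z) ↔
    v ∈ zc Q ∧ ∀ s ∈ S0 (S : Subgroup G) Z, s * v = v * s := mem_zc_iff_of_le D.CQ D.Q_le_S0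

theorem z_mem_E [Finite G] (l : ι) : z l ∈ zc (S0 (S : Subgroup G) Z) := by
  rw [D.mem_E]
  refine ⟨D.le l (D.zm l), fun s hs => ?_⟩
  have h1 := (D.mem_S0_iff (S0_le hs)).mp hs l
  have := (D.sg_iff_z (S0_le hs)).mp h1
  rw [mem_centralizer_singleton_iff] at this
  exact this

theorem S_le_nor_S0 [Finite G] : (S : Subgroup G) ≤ normalizer (S0 (S : Subgroup G) Z : Set G) := by
  intro s hs
  refine mem_norm fun t ht => ?_
  have ht1 := S0_le ht
  have h1 : s * t * s⁻¹ ∈ (S : Subgroup G) := mul_mem (mul_mem hs ht1) (inv_mem hs)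
  rw [D.mem_S0_iff h1]
  intro l
  rw [D.sg_mul (mul_mem hs ht1) (inv_mem hs), D.sg_mul hs ht1, (D.mem_S0_iff ht1).mp ht,
    ← D.sg_mul hs (inv_mem hs), mul_inv_cancel, D.sg_one]

theorem S_le_nor_E [Finite G] : (S : Subgroup G) ≤ normalizer (zc (S0 (S : Subgroup G) Z) : Set G) :=
  fun _ hs => normalizer_le_normalizer_zc _ (D.S_le_nor_S0 hs)

theorem inf_cE [Finite G] : (S : Subgroup G) ⊓ centralizer (zc (S0 (S : Subgroup G) Z) : Set G) =
    S0 (S : Subgroup G) Z := by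
  apply le_antisymm
  · intro s hs
    rw [mem_inf] at hs
    rw [D.mem_S0_iff hs.1]
    intro l
    exact D.sg_of_z hs.1 (mem_centralizer_iff.mp hs.2 _ (D.z_mem_E l)).symm
  · exact le_inf S0_le (le_centralizer_zc _)

/-- a 2-subgroup of `C_G(E)` normalised by `S⁰` lies in `S⁰`. -/
theorem le_S0 [Finite G] {Y : Subgroup G} (hY : IsPGroup 2 Y)
    (hYE : Y ≤ centralizer (zc (S0 (S : Subgroup G) Z) : Set G))
    (hn : S0 (S : Subgroup G) Z ≤ normalizer (Y : Set G)) : Y ≤ S0 (S : Subgroup G) Z := by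
  have h1 : centralizer (zc (S0 (S : Subgroup G) Z) : Set G) ≤
      normalizer (zc (S0 (S : Subgroup G) Z) : Set G) := centralizer_le_normalizer _
  have h2 : normalizer (zc (S0 (S : Subgroup G) Z) : Set G) ≤
      normalizer (centralizer (zc (S0 (S : Subgroup G) Z) : Set G) : Set G) := by
    intro g hg
    rw [mem_normalizer_iff]
    have key : ∀ g ∈ normalizer (zc (S0 (S : Subgroup G) Z) : Set G),
        ∀ c ∈ centralizer (zc (S0 (S : Subgroup G) Z) : Set G),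
          g * c * g⁻¹ ∈ centralizer (zc (S0 (S : Subgroup G) Z) : Set G) := by
      intro g hg c hc
      rw [mem_centralizer_iff]
      intro v hv
      have h3 := mem_centralizer_iff.mp hc _ (conj_mem' hg hv)
      calc v * (g * c * g⁻¹) = g * ((g⁻¹ * v * g) * c) * g⁻¹ := by group
        _ = g * (c * (g⁻¹ * v * g)) * g⁻¹ := by rw [h3]
        _ = g * c * g⁻¹ * v := by group
    intro c
    refine ⟨key g hg c, fun h => ?_⟩
    have := key g⁻¹ (inv_mem hg) _ h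
    simpa [mul_assoc] using this
  have h3 := le_of_normalized S D.S_le_nor_E h1 h2 hY hYE (by rw [D.inf_cE]; exact hn)
  exact (le_inf h3 hYE).trans D.inf_cE.le

/-- Frattini. -/
theorem frattini_E [Finite G] {g : G} (hg : g ∈ normalizer (zc (S0 (S : Subgroup G) Z) : Set G)) :
    ∃ c ∈ centralizer (zc (S0 (S : Subgroup G) Z) : Set G),
      c * g ∈ normalizer (S0 (S : Subgroup G) Z : Set G) := by
  have h1 : centralizer (zc (S0 (S : Subgroup G) Z) : Set G) ≤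
      normalizer (zc (S0 (S : Subgroup G) Z) : Set G) := centralizer_le_normalizer _
  have key : ∀ g ∈ normalizer (zc (S0 (S : Subgroup G) Z) : Set G),
        ∀ c ∈ centralizer (zc (S0 (S : Subgroup G) Z) : Set G),
          g * c * g⁻¹ ∈ centralizer (zc (S0 (S : Subgroup G) Z) : Set G) := by
    intro g hg c hc
    rw [mem_centralizer_iff]
    intro v hv
    have h3 := mem_centralizer_iff.mp hc _ (conj_mem' hg hv)
    calc v * (g * c * g⁻¹) = g * ((g⁻¹ * v * g) * c) * g⁻¹ := by group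
      _ = g * (c * (g⁻¹ * v * g)) * g⁻¹ := by rw [h3]
      _ = g * c * g⁻¹ * v := by group
  have h2 : normalizer (zc (S0 (S : Subgroup G) Z) : Set G) ≤
      normalizer (centralizer (zc (S0 (S : Subgroup G) Z) : Set G) : Set G) :=
    fun g hg => mem_norm (key g hg)
  obtain ⟨c, hc, hc2⟩ := sylow_normal S D.S_le_nor_E h1 h2
    (Y := (S0 (S : Subgroup G) Z).map (MulAut.conj g).toMonoidHom)
    ((S.2.to_le S0_le : IsPGroup 2 ↥(S0 (S : Subgroup G) Z)).map _) (by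
      rintro _ ⟨s, hs, rfl⟩
      exact key g hg s (le_centralizer_zc _ hs))
  refine ⟨c, hc, mem_norm fun s hs => ?_⟩
  have := hc2 (g * s * g⁻¹) ⟨s, hs, rfl⟩
  rw [D.inf_cE] at this
  have h3 : c * g * s * (c * g)⁻¹ = c * (g * s * g⁻¹) * c⁻¹ := by group
  rwa [h3]

theorem pr_E [Finite G] [Finite ι] (l : ι) : ∀ v ∈ zc (S0 (S : Subgroup G) Z), pr (x l) v ∈ zc (S0 (S : Subgroup G) Z) := by
  intro v hv
  have h1 := D.mem_E.mp hv
  rw [D.mem_E]
  refine ⟨pr_mem (D.xN l) h1.1, fun s hs => ?_⟩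
  have h2 := D.pr_conj (S0_le hs) l h1.1
  rw [(D.mem_S0_iff (S0_le hs)).mp hs l] at h2
  have h3 : s * v * s⁻¹ = v := by rw [h1.2 s hs]; group
  rw [h3] at h2
  exact mul_inv_eq_iff_eq_mul.mp h2

end

/-! ### projections on `Md X`, `zc X ≤ zc Q` -/

section proj

variable (D : Dat S Q Z x z)

/-- `π l` on `Md X`. -/
def pX (D : Dat S Q Z x z) {X : Subgroup G} (hX : zc X ≤ zc Q)
    (h : ∀ l, ∀ v ∈ zc X, pr (x l) v ∈ zc X) (l : ι) : Md X →+ Md X :=
  Md.lft (pr (x l)) (h l) (fun _ hv _ hw => pr_mul (D.xN l) (hX hv) (hX hw))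

variable {X : Subgroup G} {hX : zc X ≤ zc Q} {h : ∀ l, ∀ v ∈ zc X, pr (x l) v ∈ zc X}

@[simp] theorem val_pX (l : ι) (a : Md X) : (D.pX hX h l a).val = pr (x l) a.val := rfl

theorem inc_pX (l : ι) (a : Md X) : Md.inc hX (D.pX hX h l a) = D.pi l (Md.inc hX a) := rfl

theorem pX_idem [Finite ι] (l : ι) (a : Md X) : D.pX hX h l (D.pX hX h l a) = D.pX hX h l a :=
  Md.inc_inj hX (by rw [inc_pX, inc_pX, D.pi_idem])

theorem pX_orth [Finite ι] {l m : ι} (hlm : l ≠ m) (a : Md X) : D.pX hX h l (D.pX hX h m a) = 0 :=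
  Md.inc_inj hX (by rw [inc_pX, inc_pX, D.pi_orth hlm, map_zero])

theorem pX_sum [Fintype ι] (a : Md X) : ∑ l, D.pX hX h l a = a :=
  Md.inc_inj hX (by simp only [map_sum, inc_pX]; exact D.pi_sum (Md.inc hX a))

theorem pX_eq_iff [Finite ι] {l : ι} {a : Md X} : D.pX hX h l a = a ↔ a.val ∈ Z l := by
  rw [← Md.val_inj, val_pX, ← Md.val_inc hX a, ← D.val_pi, Md.val_inj, D.pi_eq_iff]

theorem pX_mem [Finite ι] (l : ι) (a : Md X) : (D.pX hX h l a).val ∈ Z l :=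
  D.pi_mem l (Md.inc hX a)

end proj

end Dat

end Cfsg.Agent.Omega.ThmC

end

section


/-!
# THEOREM C, `q = 2`: `N_G(E)/C_G(E)` acting on `E` satisfies `TwoN.NDat`
-/

set_option autoImplicit false

namespace Cfsg.Agent.Omega.ThmC

open Subgroup Cfsg Cfsg.Agent.MinSimple.VModule
open Cfsg.Agent.ZN (zc o2)
open Cfsg.Agent.Omega.IITwo.Count (conj_mem conj_mem' mem_norm)

universe u

variable {G : Type u} [Group G]

/-- `N_G(zc X)/C_G(zc X)` as a subgroup of `Aut(zc X)`. -/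
def NG (X : Subgroup G) : Subgroup (MulAut ↥(zc X)) := (zc X).normalizerMonoidHom.range

/-- the image of `g ∈ N_G(zc X)` in `NG X`. -/
def phi {X : Subgroup G} {g : G} (hg : g ∈ normalizer (zc X : Set G)) : ↥(NG X) :=
  (zc X).normalizerMonoidHom.rangeRestrict ⟨g, hg⟩

section phi
variable {X : Subgroup G}

@[simp] theorem coe_phi {g : G} (hg : g ∈ normalizer (zc X : Set G)) : ((phi hg : ↥(NG X)) : MulAut ↥(zc X)) = Md.cjE hg := rfl

theorem val_phi {g : G} (hg : g ∈ normalizer (zc X : Set G)) (a : Md X) :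
    (phi hg • a).val = g * a.val * g⁻¹ := rfl

theorem phi_mul {g h : G} (hg : g ∈ normalizer (zc X : Set G)) (hh : h ∈ normalizer (zc X : Set G)) :
    phi hg * phi hh = phi (mul_mem hg hh) :=
  ((zc X).normalizerMonoidHom.rangeRestrict.map_mul ⟨g, hg⟩ ⟨h, hh⟩).symm

theorem phi_inv {g : G} (hg : g ∈ normalizer (zc X : Set G)) : (phi hg)⁻¹ = phi (inv_mem hg) :=
  ((zc X).normalizerMonoidHom.rangeRestrict.map_inv ⟨g, hg⟩).symm

theorem exists_phi (n : ↥(NG X)) : ∃ (g : G) (hg : g ∈ normalizer (zc X : Set G)), phi hg = n := by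
  obtain ⟨⟨g, hg⟩, h⟩ := (zc X).normalizerMonoidHom.rangeRestrict_surjective n
  exact ⟨g, hg, h⟩

theorem NG_faith {n : ↥(NG X)} (h : ∀ a : Md X, n • a = a) : n = 1 :=
  Subtype.ext (Md.faith h)

theorem phi_eq_one_iff {g : G} (hg : g ∈ normalizer (zc X : Set G)) :
    phi hg = 1 ↔ g ∈ centralizer (zc X : Set G) := by
  rw [mem_centralizer_iff]
  constructor
  · intro h v hv
    have h1 : phi hg • Md.mk v hv = Md.mk v hv := by rw [h, one_smul]
    have h2 := congrArg Md.val h1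
    rw [val_phi, Md.val_mk] at h2
    exact (mul_inv_eq_iff_eq_mul.mp h2).symm
  · intro h
    refine NG_faith fun a => Md.ext ?_
    rw [val_phi, ← h _ a.val_mem]
    group

theorem phi_eq_iff {g h : G} (hg : g ∈ normalizer (zc X : Set G)) (hh : h ∈ normalizer (zc X : Set G)) :
    phi hg = phi hh ↔ ∀ v ∈ zc X, g * v * g⁻¹ = h * v * h⁻¹ := by
  constructor
  · intro he v hv
    have h1 : phi hg • Md.mk v hv = phi hh • Md.mk v hv := by rw [he]
    exact congrArg Md.val h1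
  · intro he
    apply Subtype.ext
    apply Md.ext_smul
    intro a
    exact Md.ext (he _ a.val_mem)

theorem pow_phi {g : G} (hg : g ∈ normalizer (zc X : Set G)) (n : ℕ) : (phi hg) ^ n = phi (pow_mem hg n) :=
  ((zc X).normalizerMonoidHom.rangeRestrict.map_pow ⟨g, hg⟩ n).symm

/-- the image of a subgroup of `N_G(zc X)`. -/
def img (X : Subgroup G) (Y : Subgroup G) : Subgroup ↥(NG X) :=
  (Y.subgroupOf (normalizer (zc X : Set G))).map (zc X).normalizerMonoidHom.rangeRestrict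

theorem mem_img {Y : Subgroup G} {n : ↥(NG X)} :
    n ∈ img X Y ↔ ∃ (g : G) (hg : g ∈ normalizer (zc X : Set G)), g ∈ Y ∧ phi hg = n := by
  constructor
  · rintro ⟨⟨g, hg⟩, h1, h2⟩
    exact ⟨g, hg, h1, h2⟩
  · rintro ⟨g, hg, h1, h2⟩
    exact ⟨⟨g, hg⟩, h1, h2⟩

theorem phi_mem_img {Y : Subgroup G} {g : G} (hg : g ∈ normalizer (zc X : Set G)) (h : g ∈ Y) :
    phi hg ∈ img X Y := mem_img.mpr ⟨g, hg, h, rfl⟩

theorem img_isPGroup {Y : Subgroup G} (hY : IsPGroup 2 Y) : IsPGroup 2 (img X Y) :=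
  (hY.comap_of_injective _ (normalizer (zc X : Set G)).subtype_injective).map _

instance [Finite G] : Finite (MulAut ↥(zc X)) := inferInstance

end phi

namespace Dat

variable {S : Sylow 2 G} {Q : Subgroup G} {ι : Type} {Z : ι → Subgroup G} {x z : ι → G}

section
variable [Finite G] (D : Dat S Q Z x z)

/-- the Sylow 2-subgroup `S/S⁰` of `N`. -/
noncomputable def TT : Sylow 2 ↥(NG (S0 (S : Subgroup G) Z)) :=
  haveI : Fact (Nat.Prime 2) := ⟨Nat.prime_two⟩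
  (S.subtype D.S_le_nor_E).mapSurjective
    (zc (S0 (S : Subgroup G) Z)).normalizerMonoidHom.rangeRestrict_surjective

theorem coe_TT : ((D.TT : Sylow 2 _) : Subgroup ↥(NG (S0 (S : Subgroup G) Z))) =
    img (S0 (S : Subgroup G) Z) S := rfl

theorem mem_TT {n : ↥(NG (S0 (S : Subgroup G) Z))} : n ∈ (D.TT : Subgroup ↥(NG (S0 (S : Subgroup G) Z))) ↔
    ∃ (s : G) (hs : s ∈ (S : Subgroup G)), phi (D.S_le_nor_E hs) = n := by
  rw [coe_TT, mem_img]
  constructor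
  · rintro ⟨s, hs, h1, h2⟩
    exact ⟨s, h1, h2⟩
  · rintro ⟨s, hs, h⟩
    exact ⟨s, D.S_le_nor_E hs, hs, h⟩

variable [Finite ι]

/-- the projections of `E`. -/
abbrev pE (l : ι) : Md (S0 (S : Subgroup G) Z) →+ Md (S0 (S : Subgroup G) Z) := D.pX D.E_le D.pr_E l

/-- `z l ∈ E`. -/
def zE (l : ι) : Md (S0 (S : Subgroup G) Z) := Md.mk (z l) (D.z_mem_E l)

@[simp] theorem val_zE (l : ι) : (D.zE l).val = z l := rfl

theorem pE_zE (l : ι) : D.pE l (D.zE l) = D.zE l := D.pX_eq_iff.mpr (D.zm l)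

theorem zE_ne (l : ι) : D.zE l ≠ 0 := fun h => D.z1 l (by simpa using congrArg Md.val h)

theorem pE_inj {l m : ι} (h : ∀ a, D.pE l a = D.pE m a) : l = m := by
  by_contra hne
  have h1 := h (D.zE l)
  rw [D.pE_zE l, ← D.pE_zE l, D.pX_orth (Ne.symm hne)] at h1
  exact D.zE_ne l (by rw [← D.pE_zE l]; exact h1)

/-- the permutation of the factors of `E` by elements of `N`. -/
noncomputable def sN (n : ↥(NG (S0 (S : Subgroup G) Z))) (l : ι) : ι := by
  classical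
  exact if h : ∃ m, ∀ a : Md (S0 (S : Subgroup G) Z), n • D.pE l a = D.pE m (n • a) then h.choose else l

theorem sN_eq {n : ↥(NG (S0 (S : Subgroup G) Z))} {l m : ι}
    (h : ∀ a : Md (S0 (S : Subgroup G) Z), n • D.pE l a = D.pE m (n • a)) : D.sN n l = m := by
  have h1 : ∃ m, ∀ a : Md (S0 (S : Subgroup G) Z), n • D.pE l a = D.pE m (n • a) := ⟨m, h⟩
  have h2 : D.sN n l = h1.choose := dif_pos h1
  rw [h2]
  apply D.pE_inj
  intro a
  have h3 := h1.choose_spec (n⁻¹ • a)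
  rw [h, smul_inv_smul] at h3
  exact h3.symm

theorem phi_pE {s : G} (hs : s ∈ (S : Subgroup G)) (l : ι) (a : Md (S0 (S : Subgroup G) Z)) :
    phi (D.S_le_nor_E hs) • D.pE l a = D.pE (D.sg s l) (phi (D.S_le_nor_E hs) • a) := by
  apply Md.ext
  rw [val_phi, val_pX, val_pX, val_phi]
  exact D.pr_conj hs l (D.E_le a.val_mem)

theorem sN_phi {s : G} (hs : s ∈ (S : Subgroup G)) (l : ι) :
    D.sN (phi (D.S_le_nor_E hs)) l = D.sg s l := D.sN_eq (D.phi_pE hs l)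

/-- `N_G(E)/C_G(E)` on `E`. -/
theorem ndat [Fintype ι] : TwoN.NDat D.TT D.pE D.sN D.zE where
  two := Md.two
  faith _ h := NG_faith h
  idem l a := D.pX_idem l a
  orth l m h a := D.pX_orth h a
  sum a := D.pX_sum a
  perm := by
    intro n hn l a
    obtain ⟨s, hs, rfl⟩ := D.mem_TT.mp hn
    rw [D.sN_phi hs]
    exact D.phi_pE hs l a
  ker := by
    intro n hn h
    obtain ⟨s, hs, rfl⟩ := D.mem_TT.mp hn
    rw [phi_eq_one_iff]
    apply le_centralizer_zc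
    rw [D.mem_S0_iff hs]
    intro l
    rw [← D.sN_phi hs]
    exact h l
  trans := by
    intro l m
    obtain ⟨s, hs, h⟩ := D.trans l m
    refine ⟨phi (D.S_le_nor_E hs), D.mem_TT.mpr ⟨s, hs, rfl⟩, ?_⟩
    rw [D.sN_phi hs]
    exact D.sg_eq' hs h
  zm l := D.pE_zE l
  z0 l := D.zE_ne l
  zfix := by
    intro l a ha h
    have h1 : a.val ∈ Z l := D.pX_eq_iff.mp ha
    have h2 := D.zfix l a.val h1 (fun s hs hw => ?_)
    · rcases h2 with h2 | h2
      · exact Or.inl (Md.val_eq_one.mp h2)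
      · exact Or.inr (Md.ext h2)
    · have h3 := h (phi (D.S_le_nor_E hs)) (D.mem_TT.mpr ⟨s, hs, rfl⟩)
        (by rw [D.sN_phi hs]; exact D.sg_eq' hs hw)
      exact congrArg Md.val h3

end

end Dat

end Cfsg.Agent.Omega.ThmC

end

section


/-!
# THEOREM C (#15545), `q = 2`, piece (C) (#16454)

`Γ` acts faithfully on the elementary abelian 2-group `A = ⊕ π l A`, `x l` (`l ≠ o`) is fixed point free on `π l A`
(`x + x² = π l`) and trivial on the other summands, `H ≠ 1` is a 2-group normalised by the `x l`, `C_H(all x l) = 1`, and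
the 2-group `U` normalises `H`, the summands and inverts or centralises each `x l`.
-/

set_option autoImplicit false

namespace Cfsg.Agent.Omega.ThmC.TwoW

structure WDat {Γ : Type*} [Group Γ] {A : Type*} [AddCommGroup A] [DistribMulAction Γ A] {ι : Type*} [Fintype ι]
    (o : ι) (π : ι → A →+ A) (x : ι → Γ) (H U : Subgroup Γ) : Prop where
  two : ∀ a : A, a + a = 0
  faith : ∀ g : Γ, (∀ a : A, g • a = a) → g = 1
  idem : ∀ l a, π l (π l a) = π l a
  orth : ∀ l m, l ≠ m → ∀ a, π l (π m a) = 0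
  sum : ∀ a, ∑ l, π l a = a
  px : ∀ l, l ≠ o → ∀ a, x l • a + x l • x l • a = π l a
  xt : ∀ l, l ≠ o → ∀ m, m ≠ l → ∀ a, x l • π m a = π m a
  H2 : IsPGroup 2 H
  U2 : IsPGroup 2 U
  xH : ∀ l, l ≠ o → ∀ h ∈ H, x l * h * (x l)⁻¹ ∈ H
  UH : ∀ u ∈ U, ∀ h ∈ H, u * h * u⁻¹ ∈ H
  Ux : ∀ u ∈ U, ∀ l, l ≠ o → u * x l * u⁻¹ = x l ∨ u * x l * u⁻¹ = (x l)⁻¹
  Uπ : ∀ u ∈ U, ∀ l a, u • π l a = π l (u • a)
  CH : ∀ h ∈ H, (∀ l, l ≠ o → h * x l = x l * h) → h = 1

section Ring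

variable {Γ R : Type*} [Group Γ] [Ring R] {ι : Type*} [Fintype ι]

/-- the ring form of the data -/
structure RD (o : ι) (e : ι → R) (x : ι → Γ) (ρ : Γ →* R) : Prop where
  two : ∀ r : R, r + r = 0
  inj : Function.Injective ρ
  idem : ∀ l, e l * e l = e l
  orth : ∀ l m, l ≠ m → e l * e m = 0
  sum : ∑ l, e l = 1
  px : ∀ l, l ≠ o → ρ (x l) + ρ (x l) * ρ (x l) = e l
  xt : ∀ l, l ≠ o → ∀ m, m ≠ l → ρ (x l) * e m = e m

namespace RD

variable {o : ι} {e : ι → R} {x : ι → Γ} {ρ : Γ →* R} (D : RD o e x ρ)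

include D

theorem addc {a b : R} (h : a + b = 0) : a = b := by
  have h1 := D.two b
  calc a = a + (b + b) := by rw [h1, add_zero]
    _ = (a + b) + b := by abel
    _ = b := by rw [h, zero_add]

theorem Xe {l : ι} (hl : l ≠ o) : ρ (x l) * e l = e l * ρ (x l) := by
  rw [← D.px l hl]; noncomm_ring

/-- `u_l = (X_l + 1) = (X_l + 1) e_l` -/
theorem ue {l : ι} (hl : l ≠ o) : (ρ (x l) + 1) * e l = ρ (x l) + 1 := by
  classical
  have h1 : (ρ (x l) + 1) * ∑ m, e m = (ρ (x l) + 1) * e l := by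
    rw [Finset.mul_sum]
    refine Finset.sum_eq_single l (fun m _ hm => ?_) (fun h => absurd (Finset.mem_univ _) h)
    rw [add_mul, D.xt l hl m hm, one_mul, D.two]
  rw [← h1, D.sum, mul_one]

theorem eu {l : ι} (hl : l ≠ o) : e l * (ρ (x l) + 1) = ρ (x l) + 1 := by
  have h := D.ue hl
  rw [add_mul, D.Xe hl, one_mul] at h
  rw [mul_add, mul_one, h]

theorem uu {l : ι} (hl : l ≠ o) : (ρ (x l) + 1) * (ρ (x l) + 1) = (ρ (x l) + 1) + e l := by
  apply D.addc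
  have h := D.px l hl
  calc (ρ (x l) + 1) * (ρ (x l) + 1) + (ρ (x l) + 1 + e l)
      = (ρ (x l) + ρ (x l) * ρ (x l)) + (ρ (x l) + ρ (x l)) + (1 + 1) + e l := by noncomm_ring
    _ = 0 := by rw [h, D.two, D.two, add_zero, add_zero, D.two]

theorem uv {l m : ι} (hl : l ≠ o) (hm : m ≠ o) (h : l ≠ m) : (ρ (x l) + 1) * (ρ (x m) + 1) = 0 := by
  rw [← D.ue hl, ← D.eu hm, mul_assoc, ← mul_assoc (e l), D.orth l m h, zero_mul, mul_zero]

theorem XX {l m : ι} (hl : l ≠ o) (hm : m ≠ o) (h : l ≠ m) :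
    ρ (x l * x m) = 1 + (ρ (x l) + 1) + (ρ (x m) + 1) := by
  rw [map_mul]
  apply D.addc
  have h1 := D.uv hl hm h
  calc ρ (x l) * ρ (x m) + (1 + (ρ (x l) + 1) + (ρ (x m) + 1))
      = (ρ (x l) + 1) * (ρ (x m) + 1) + (1 + 1) := by noncomm_ring
    _ = 0 := by rw [h1, D.two, add_zero]

theorem xx {l m : ι} (hl : l ≠ o) (hm : m ≠ o) : x l * x m = x m * x l := by
  rcases eq_or_ne l m with rfl | h
  · rfl
  apply D.inj
  rw [D.XX hl hm h, D.XX hm hl h.symm]; abel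

theorem x3 {l : ι} (hl : l ≠ o) : x l * x l * x l = 1 := by
  apply D.inj
  rw [map_mul, map_mul, map_one]
  apply D.addc
  have h := D.px l hl
  have h1 := D.ue hl
  have h2 : ρ (x l) * ρ (x l) = ρ (x l) + e l := by
    apply D.addc
    rw [← h]
    calc _ = (ρ (x l) + ρ (x l)) + (ρ (x l) * ρ (x l) + ρ (x l) * ρ (x l)) := by abel
      _ = 0 := by rw [D.two, D.two, add_zero]
  calc ρ (x l) * ρ (x l) * ρ (x l) + 1 = (ρ (x l) + e l) * ρ (x l) + 1 := by rw [h2]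
    _ = (ρ (x l) * ρ (x l)) + e l * ρ (x l) + 1 := by noncomm_ring
    _ = (ρ (x l) + 1) + (ρ (x l) + 1) * e l := by rw [h2, ← D.Xe hl]; noncomm_ring
    _ = 0 := by rw [h1, D.two]

/-- replace `x m` by `x m ^ 2` -/
theorem upd [DecidableEq ι] (m : ι) (hm : m ≠ o) : RD o e (Function.update x m (x m * x m)) ρ where
  two := D.two
  inj := D.inj
  idem := D.idem
  orth := D.orth
  sum := D.sum
  px l hl := by
    rcases eq_or_ne l m with rfl | h
    · rw [Function.update_self, ← map_mul]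
      have : x l * x l * (x l * x l) = x l := by rw [← mul_assoc, D.x3 hl, one_mul]
      rw [this, map_mul, add_comm, D.px l hl]
    · rw [Function.update_of_ne h, D.px l hl]
  xt l hl k hk := by
    rcases eq_or_ne l m with rfl | h
    · rw [Function.update_self, map_mul, mul_assoc, D.xt l hl k hk, D.xt l hl k hk]
    · rw [Function.update_of_ne h, D.xt l hl k hk]

/-- `d` is `x_l x_m` or `x_l x_m²` -/
def Good (e : ι → R) (x : ι → Γ) (ρ : Γ →* R) (l m : ι) (d : Γ) : Prop :=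
  ρ d + ρ d * ρ d = e l + e m ∧ ρ (x l) = ρ d * e l + (1 + e l)

theorem good_one {l m : ι} (hl : l ≠ o) (hm : m ≠ o) (h : l ≠ m) : Good e x ρ l m (x l * x m) := by
  have h1 := D.ue hl
  have h2 := D.uu hl
  have h3 := D.uu hm
  have h4 := D.uv hl hm h
  have h5 := D.uv hm hl h.symm
  have h6 : (ρ (x m) + 1) * e l = 0 := by
    rw [← D.ue hm, mul_assoc, D.orth m l h.symm, mul_zero]
  constructor
  · rw [D.XX hl hm h]
    generalize ρ (x l) + 1 = u at *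
    generalize ρ (x m) + 1 = v at *
    calc 1 + u + v + (1 + u + v) * (1 + u + v)
        = (1 + 1) + (u + u) + (v + v) + u + v + u * u + v * v + u * v + v * u := by noncomm_ring
      _ = u + v + (u + e l) + (v + e m) := by rw [D.two 1, D.two u, D.two v, h2, h3, h4, h5]; abel
      _ = (u + u) + (v + v) + (e l + e m) := by abel
      _ = e l + e m := by rw [D.two u, D.two v]; abel
  · rw [D.XX hl hm h]
    apply D.addc
    calc ρ (x l) + ((1 + (ρ (x l) + 1) + (ρ (x m) + 1)) * e l + (1 + e l))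
        = (ρ (x l) + 1) + (ρ (x l) + 1) * e l + (ρ (x m) + 1) * e l + (e l + e l) := by noncomm_ring
      _ = 0 := by rw [h1, h6, D.two (ρ (x l) + 1), D.two (e l), add_zero, add_zero]

theorem good_two {l m : ι} (hl : l ≠ o) (hm : m ≠ o) (h : l ≠ m) : Good e x ρ l m (x l * (x m * x m)) := by
  classical
  have := (D.upd m hm).good_one hl hm h
  rw [Good, Function.update_self, Function.update_of_ne h] at this
  exact this

end RD

end Ring

section Grp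

variable {Γ : Type*} [Group Γ]

theorem cm (x a b : Γ) : x * (a * b) * x⁻¹ = (x * a * x⁻¹) * (x * b * x⁻¹) := by group

theorem commute_of_conj {x a : Γ} (h : x * a * x⁻¹ = a) : Commute a x := by
  have : x * a = a * x := by
    calc x * a = (x * a * x⁻¹) * x := by group
      _ = a * x := by rw [h]
  exact this.symm

theorem conj_of_commute {x a : Γ} (h : Commute a x) : x * a * x⁻¹ = a := by
  rw [← h.eq]; group

theorem split {Y : Subgroup Γ} {x y : Γ} (hc : ∀ a ∈ Y, ∀ b ∈ Y, a * b = b * a) (hs : ∀ a ∈ Y, a * a = 1)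
    (xy : x * y = y * x) (y3 : y * y * y = 1) (hx : ∀ a ∈ Y, x * a * x⁻¹ ∈ Y) (hy : ∀ a ∈ Y, y * a * y⁻¹ ∈ Y)
    (Nx : ∀ a ∈ Y, x * (x * a * x⁻¹) * x⁻¹ = a * (x * a * x⁻¹))
    (Ny : ∀ a ∈ Y, y * (y * a * y⁻¹) * y⁻¹ = a * (y * a * y⁻¹)) {b : Γ} (hb : b ∈ Y) :
    ∃ b₁ ∈ Y, ∃ b₂ ∈ Y, b = b₁ * b₂ ∧ Commute b₁ (x * y) ∧ Commute b₂ (x * (y * y)) ∧
      ∀ g, Commute g x → Commute g y → Commute g b → Commute g b₁ ∧ Commute g b₂ := by
  obtain ⟨p, hp⟩ : ∃ p, p = x * b * x⁻¹ := ⟨_, rfl⟩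
  obtain ⟨q, hq⟩ : ∃ q, q = y * b * y⁻¹ := ⟨_, rfl⟩
  obtain ⟨r, hr⟩ : ∃ r, r = x * q * x⁻¹ := ⟨_, rfl⟩
  have pY : p ∈ Y := hp ▸ hx b hb
  have qY : q ∈ Y := hq ▸ hy b hb
  have rY : r ∈ Y := hr ▸ hx q qY
  have cr : r = y * p * y⁻¹ := by
    rw [hr, hp, hq]
    calc x * (y * b * y⁻¹) * x⁻¹ = (x * y) * b * (x * y)⁻¹ := by group
      _ = (y * x) * b * (y * x)⁻¹ := by rw [xy]
      _ = _ := by group
  have h1 : x * p * x⁻¹ = b * p := by rw [hp]; exact Nx b hb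
  have h2 : y * q * y⁻¹ = b * q := by rw [hq]; exact Ny b hb
  have h3 : x * r * x⁻¹ = q * r := by rw [hr]; exact Nx q qY
  have h4 : y * r * y⁻¹ = p * r := by rw [cr]; exact Ny p pY
  refine ⟨p * q, Y.mul_mem pY qY, q * (b * p), Y.mul_mem qY (Y.mul_mem hb pY), ?_, ?_, ?_, ?_⟩
  · calc b = b * (p * p) := by rw [hs p pY, mul_one]
      _ = (b * p) * p := (mul_assoc _ _ _).symm
      _ = (p * b) * p := congrArg (· * p) (hc b hb p pY)
      _ = p * (b * p) := mul_assoc _ _ _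
      _ = p * ((q * q) * (b * p)) := by rw [hs q qY, one_mul]
      _ = _ := by group
  · apply commute_of_conj
    calc x * y * (p * q) * (x * y)⁻¹ = x * (y * (p * q) * y⁻¹) * x⁻¹ := by group
      _ = x * (r * (b * q)) * x⁻¹ := by rw [cm y, ← cr, h2]
      _ = (q * r) * (p * r) := by rw [cm x, cm x, h3, ← hp, ← hr]
      _ = q * (r * p) * r := by group
      _ = q * p * (r * r) := by rw [hc r rY p pY]; group
      _ = p * q := by rw [hs r rY, mul_one, hc q qY p pY]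
  · apply commute_of_conj
    have e1 : x * (q * (b * p)) * x⁻¹ = r * b := by
      calc x * (q * (b * p)) * x⁻¹ = r * (p * (b * p)) := by rw [cm x, cm x, h1, ← hp, ← hr]
        _ = r * (b * (p * p)) := by rw [← mul_assoc p, hc p pY b hb, mul_assoc]
        _ = r * b := by rw [hs p pY, mul_one]
    have e2 : y * (q * (b * p)) * y⁻¹ = r * b := by
      calc y * (q * (b * p)) * y⁻¹ = (b * q) * (q * r) := by rw [cm y, cm y, h2, ← cr, ← hq]
        _ = b * (q * q) * r := by group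
        _ = r * b := by rw [hs q qY, mul_one, hc b hb r rY]
    have e3 : x * (q * (b * p)) * x⁻¹ = y * (q * (b * p)) * y⁻¹ := by rw [e1, e2]
    generalize q * (b * p) = c at *
    calc x * (y * y) * c * (x * (y * y))⁻¹ = (x * (y * y)) * c * (x * (y * y))⁻¹ := by group
      _ = ((y * y) * x) * c * ((y * y) * x)⁻¹ := by
          have : x * (y * y) = (y * y) * x := by rw [← mul_assoc, xy, mul_assoc, xy, mul_assoc]
          rw [this]
      _ = (y * y) * (x * c * x⁻¹) * (y * y)⁻¹ := by group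
      _ = (y * y * y) * c * (y * y * y)⁻¹ := by rw [e3]; group
      _ = c := by rw [y3]; group
  · intro g gx gy gb
    have gp : Commute g p := by rw [hp]; exact (gx.mul_right gb).mul_right gx.inv_right
    have gq : Commute g q := by rw [hq]; exact (gy.mul_right gb).mul_right gy.inv_right
    exact ⟨gp.mul_right gq, gq.mul_right (gb.mul_right gp)⟩

variable {ι : Type*}

/-- the involutions of `Z(H)` (and `1`) commuting with the `x a`, `a ∉ J` -/
def CB (H : Subgroup Γ) (o : ι) (x : ι → Γ) (J : Finset ι) : Subgroup Γ where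
  carrier := {b | b ∈ H ∧ (∀ h ∈ H, b * h = h * b) ∧ b * b = 1 ∧ ∀ a, a ≠ o → a ∉ J → Commute b (x a)}
  mul_mem' := by
    rintro b c ⟨h1, h2, h3, h4⟩ ⟨k1, k2, k3, k4⟩
    refine ⟨H.mul_mem h1 k1, fun h hh => ?_, ?_, fun a ha hJ => (h4 a ha hJ).mul_left (k4 a ha hJ)⟩
    · rw [mul_assoc, k2 h hh, ← mul_assoc, h2 h hh, mul_assoc]
    · calc b * c * (b * c) = b * (c * b) * c := by group
        _ = (b * b) * (c * c) := by rw [← h2 c k1]; group
        _ = 1 := by rw [h3, k3, one_mul]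
  one_mem' := ⟨H.one_mem, fun h _ => by rw [one_mul, mul_one], one_mul 1, fun a _ _ => Commute.one_left _⟩
  inv_mem' := by
    rintro b ⟨h1, h2, h3, h4⟩
    have : b⁻¹ = b := inv_eq_of_mul_eq_one_left h3
    show b⁻¹ ∈ H ∧ (∀ h ∈ H, b⁻¹ * h = h * b⁻¹) ∧ b⁻¹ * b⁻¹ = 1 ∧ ∀ a, a ≠ o → a ∉ J → Commute b⁻¹ (x a)
    rw [this]; exact ⟨h1, h2, h3, h4⟩

variable {H : Subgroup Γ} {o : ι} {x : ι → Γ} {J : Finset ι}

theorem mem_CB {b : Γ} : b ∈ CB H o x J ↔
    b ∈ H ∧ (∀ h ∈ H, b * h = h * b) ∧ b * b = 1 ∧ ∀ a, a ≠ o → a ∉ J → Commute b (x a) := Iff.rfl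

theorem CB_conj {g : Γ} (h1 : ∀ h ∈ H, g * h * g⁻¹ ∈ H) (h2 : ∀ h ∈ H, g⁻¹ * h * g ∈ H)
    (h3 : ∀ b a, a ≠ o → Commute b (x a) → Commute (g * b * g⁻¹) (x a)) {b : Γ} (hb : b ∈ CB H o x J) :
    g * b * g⁻¹ ∈ CB H o x J := by
  obtain ⟨k1, k2, k3, k4⟩ := hb
  refine ⟨h1 b k1, fun h hh => ?_, ?_, fun a ha hJ => h3 b a ha (k4 a ha hJ)⟩
  · have := k2 _ (h2 h hh)
    calc g * b * g⁻¹ * h = g * (b * (g⁻¹ * h * g)) * g⁻¹ := by group
      _ = g * ((g⁻¹ * h * g) * b) * g⁻¹ := by rw [this]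
      _ = h * (g * b * g⁻¹) := by group
  · calc g * b * g⁻¹ * (g * b * g⁻¹) = g * (b * b) * g⁻¹ := by group
      _ = 1 := by rw [k3]; group

theorem CB_univ [Finite Γ] [Fintype ι] (H2 : IsPGroup 2 H) (hH : H ≠ ⊥) :
    CB H o x (Finset.univ : Finset ι) ≠ ⊥ := by
  have : Nontrivial H := (Subgroup.nontrivial_iff_ne_bot H).2 hH
  have := H2.center_nontrivial
  have h2 : IsPGroup 2 (Subgroup.center H) := H2.to_subgroup _
  obtain ⟨n, hn⟩ := h2.exists_card_eq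
  have hcard : 2 ∣ Nat.card (Subgroup.center H) := by
    rw [hn]
    refine dvd_pow_self 2 (fun h0 => ?_)
    rw [h0, pow_zero] at hn
    exact absurd hn (Finite.one_lt_card).ne'
  obtain ⟨z, hz⟩ := exists_prime_orderOf_dvd_card' 2 hcard
  have hz1 : z ≠ 1 := fun h => by rw [h, orderOf_one] at hz; omega
  have hz2 : z * z = 1 := by rw [← pow_two, ← hz]; exact pow_orderOf_eq_one z
  intro hbot
  have hm : ((z : H) : Γ) ∈ CB H o x (Finset.univ : Finset ι) := by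
    refine ⟨(z : H).2, fun h hh => ?_, ?_, fun a _ ha => absurd (Finset.mem_univ a) ha⟩
    · have := Subgroup.mem_center_iff.1 z.2 ⟨h, hh⟩
      exact (congrArg Subtype.val this).symm
    · have := congrArg (fun w : Subgroup.center H => ((w : H) : Γ)) hz2
      simpa using this
  rw [hbot, Subgroup.mem_bot] at hm
  exact hz1 (Subtype.ext (Subtype.ext hm))

/-- a 2-group acting on a nonzero elementary abelian 2-group has a nonzero fixed vector -/
theorem fix [Finite Γ] {A : Type*} [AddCommGroup A] [Finite A] [DistribMulAction Γ A] {P : Subgroup Γ}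
    (hP : IsPGroup 2 P) (M : AddSubgroup A) (h2 : ∀ a ∈ M, a + a = 0) (hM : ∀ g ∈ P, ∀ a ∈ M, g • a ∈ M) {a : A}
    (ha : a ∈ M) (ha0 : a ≠ 0) : ∃ b ∈ M, b ≠ 0 ∧ ∀ g ∈ P, g • b = b := by
  let _ : MulAction P M :=
    { smul := fun g m => ⟨(g : Γ) • (m : A), hM g g.2 m m.2⟩
      one_smul := fun m => Subtype.ext (one_smul Γ (m : A))
      mul_smul := fun g h m => Subtype.ext (mul_smul (g : Γ) (h : Γ) (m : A)) }
  have hcard : 2 ∣ Nat.card M := by
    have h3 : addOrderOf (⟨a, ha⟩ : M) = 2 := by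
      refine addOrderOf_eq_prime (Subtype.ext ?_) (fun h => ha0 (congrArg Subtype.val h))
      show (((2 : ℕ) • (⟨a, ha⟩ : M) : M) : A) = 0
      rw [two_nsmul]; exact h2 a ha
    rw [← h3]; exact addOrderOf_dvd_natCard _
  have h0 : (0 : M) ∈ MulAction.fixedPoints P M := fun g => Subtype.ext (smul_zero (g : Γ))
  obtain ⟨b, hb, hb0⟩ := hP.exists_fixed_point_of_prime_dvd_card_of_fixed_point M hcard h0
  refine ⟨b, b.2, fun h => hb0 (Subtype.ext h.symm), fun g hg => ?_⟩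
  exact congrArg Subtype.val (hb ⟨g, hg⟩)

end Grp

section Core

variable {Γ R : Type*} [Group Γ] [Ring R] {ι : Type*} [Fintype ι] {o : ι} {e : ι → R} {x : ι → Γ} {ρ : Γ →* R}
  {H : Subgroup Γ} {J : Finset ι}

theorem cx (D : RD o e x ρ) {l : ι} (hl : l ≠ o) (hx : ∀ h ∈ H, x l * h * (x l)⁻¹ ∈ H) :
    ∀ b ∈ CB H o x J, x l * b * (x l)⁻¹ ∈ CB H o x J := by
  have hi : (x l)⁻¹ = x l * x l := (eq_inv_of_mul_eq_one_left (D.x3 hl)).symm
  intro b hb
  refine CB_conj hx (fun h hh => ?_) (fun b a ha hc => ?_) hb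
  · have h1 := hx _ (hx h hh)
    have h2 : x l * (x l * h * (x l)⁻¹) * (x l)⁻¹ = (x l)⁻¹ * h * x l := by
      calc x l * (x l * h * (x l)⁻¹) * (x l)⁻¹ = (x l * x l) * h * (x l * x l)⁻¹ := by group
        _ = (x l)⁻¹ * h * x l := by rw [← hi, inv_inv]
    rwa [h2] at h1
  · have hla : Commute (x l) (x a) := D.xx hl ha
    exact (hla.mul_left hc).mul_left hla.inv_left

omit [Fintype ι] in
theorem cc {b : Γ} (hb : b ∈ CB H o x J) {c : Γ} (hc : c ∈ CB H o x J) : b * c = c * b := hb.2.1 c hc.1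

theorem nm (D : RD o e x ρ) {l : ι} (hl : l ≠ o) (hx : ∀ h ∈ H, x l * h * (x l)⁻¹ ∈ H)
    (hJ : ∀ b ∈ CB H o x J, Commute b (x l) → b = 1) {b : Γ} (hb : b ∈ CB H o x J) :
    x l * (x l * b * (x l)⁻¹) * (x l)⁻¹ = b * (x l * b * (x l)⁻¹) := by
  obtain ⟨p, hp⟩ : ∃ p, p = x l * b * (x l)⁻¹ := ⟨_, rfl⟩
  obtain ⟨r, hr⟩ : ∃ r, r = x l * p * (x l)⁻¹ := ⟨_, rfl⟩
  have pY : p ∈ CB H o x J := hp ▸ cx D hl hx b hb
  have rY : r ∈ CB H o x J := hr ▸ cx D hl hx p pY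
  have h3 : x l * r * (x l)⁻¹ = b := by
    rw [hr, hp]
    calc x l * (x l * (x l * b * (x l)⁻¹) * (x l)⁻¹) * (x l)⁻¹
        = (x l * x l * x l) * b * (x l * x l * x l)⁻¹ := by group
      _ = b := by rw [D.x3 hl]; group
  have h4 : b * p * r = 1 := by
    refine hJ _ ((CB H o x J).mul_mem ((CB H o x J).mul_mem hb pY) rY) (commute_of_conj ?_)
    calc x l * (b * p * r) * (x l)⁻¹ = p * r * b := by rw [cm, cm, h3, ← hp, ← hr]
      _ = b * (p * r) := (cc hb ((CB H o x J).mul_mem pY rY)).symm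
      _ = b * p * r := (mul_assoc _ _ _).symm
  have h5 : (b * p) * (b * p) = 1 := ((CB H o x J).mul_mem hb pY).2.2.1
  rw [← hp, ← hr]
  exact mul_left_cancel (h4.trans h5.symm)

omit [Fintype ι] in
theorem com_ee {l m : ι} {d b : Γ} (h : RD.Good e x ρ l m d) (hb : Commute b d) :
    Commute (ρ b) (e l + e m) := by
  have h1 : Commute (ρ b) (ρ d) := hb.map ρ
  rw [← h.1]; exact h1.add_right (h1.mul_right h1)

theorem com_e (D : RD o e x ρ) {a : ι} (ha : a ≠ o) {b : Γ} (hb : Commute b (x a)) : Commute (ρ b) (e a) := by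
  have h1 : Commute (ρ b) (ρ (x a)) := hb.map ρ
  rw [← D.px a ha]; exact h1.add_right (h1.mul_right h1)

theorem pick (D : RD o e x ρ) (xH : ∀ l, l ≠ o → ∀ h ∈ H, x l * h * (x l)⁻¹ ∈ H) (ho : o ∉ J)
    (hJ : ∀ j ∈ J, ∀ b ∈ CB H o x J, Commute b (x j) → b = 1) {l m : ι} (lJ : l ∈ J) (mJ : m ∈ J)
    {b : Γ} (hb : b ∈ CB H o x J) :
    ∃ b₁ ∈ CB H o x J, ∃ b₂ ∈ CB H o x J, b = b₁ * b₂ ∧ Commute b₁ (x l * x m) ∧ Commute b₂ (x l * (x m * x m)) ∧
      ∀ g, Commute g (x l) → Commute g (x m) → Commute g b → Commute g b₁ ∧ Commute g b₂ := by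
  have hl : l ≠ o := fun h => ho (h ▸ lJ)
  have hm : m ≠ o := fun h => ho (h ▸ mJ)
  exact split (fun a ha b hb => cc ha hb) (fun a ha => ha.2.2.1) (D.xx hl hm) (D.x3 hm) (cx D hl (xH l hl))
    (cx D hm (xH m hm)) (fun a ha => nm D hl (xH l hl) (hJ l lJ) ha) (fun a ha => nm D hm (xH m hm) (hJ m mJ) ha) hb

theorem pick' (D : RD o e x ρ) (xH : ∀ l, l ≠ o → ∀ h ∈ H, x l * h * (x l)⁻¹ ∈ H) (ho : o ∉ J)
    (hJ : ∀ j ∈ J, ∀ b ∈ CB H o x J, Commute b (x j) → b = 1) {l m : ι} (lJ : l ∈ J) (mJ : m ∈ J) (hlm : l ≠ m)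
    {b : Γ} (hb : b ∈ CB H o x J) (hb1 : b ≠ 1) :
    ∃ b' ∈ CB H o x J, b' ≠ 1 ∧ (∃ d, RD.Good e x ρ l m d ∧ Commute b' d ∧ ∀ a, a ≠ o → Commute d (x a)) ∧
      ∀ g, Commute g (x l) → Commute g (x m) → Commute g b → Commute g b' := by
  have hl : l ≠ o := fun h => ho (h ▸ lJ)
  have hm : m ≠ o := fun h => ho (h ▸ mJ)
  obtain ⟨b₁, h1, b₂, h2, hbb, c1, c2, cg⟩ := pick D xH ho hJ lJ mJ hb
  by_cases hb1' : b₁ = 1
  · refine ⟨b₂, h2, fun h => hb1 (by rw [hbb, hb1', h, one_mul]), ⟨_, D.good_two hl hm hlm, c2, fun a ha => ?_⟩,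
      fun g g1 g2 g3 => (cg g g1 g2 g3).2⟩
    have k1 : Commute (x l) (x a) := D.xx hl ha
    have k2 : Commute (x m) (x a) := D.xx hm ha
    exact k1.mul_left (k2.mul_left k2)
  · refine ⟨b₁, h1, hb1', ⟨_, D.good_one hl hm hlm, c1, fun a ha => ?_⟩, fun g g1 g2 g3 => (cg g g1 g2 g3).1⟩
    have k1 : Commute (x l) (x a) := D.xx hl ha
    have k2 : Commute (x m) (x a) := D.xx hm ha
    exact k1.mul_left k2

theorem no_three (D : RD o e x ρ) (xH : ∀ l, l ≠ o → ∀ h ∈ H, x l * h * (x l)⁻¹ ∈ H) (ho : o ∉ J)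
    (hJ : ∀ j ∈ J, ∀ b ∈ CB H o x J, Commute b (x j) → b = 1) {l m n : ι} (lJ : l ∈ J) (mJ : m ∈ J) (nJ : n ∈ J)
    (hlm : l ≠ m) (hln : l ≠ n) (hmn : m ≠ n) : CB H o x J = ⊥ := by
  have hl : l ≠ o := fun h => ho (h ▸ lJ)
  have hn : n ≠ o := fun h => ho (h ▸ nJ)
  rw [Subgroup.eq_bot_iff_forall]
  intro b hb
  by_contra hb1
  obtain ⟨b₁, h1, h11, ⟨d, hd, cd, dx⟩, -⟩ := pick' D xH ho hJ lJ mJ hlm hb hb1
  obtain ⟨b₂, h2, h21, ⟨d', hd', cd', -⟩, cg⟩ := pick' D xH ho hJ lJ nJ hln h1 h11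
  have k1 : Commute b₂ d := (cg d (dx l hl) (dx n hn) cd.symm).symm
  have k2 := com_ee hd k1
  have k3 := com_ee hd' cd'
  have k4 : (e l + e m) * (e l + e n) = e l := by
    rw [add_mul, mul_add, mul_add, D.idem, D.orth l n hln, D.orth m l hlm.symm, D.orth m n hmn, add_zero, add_zero,
      add_zero]
  have k5 : Commute (ρ b₂) (e l) := by rw [← k4]; exact k2.mul_right k3
  have k6 : Commute (ρ b₂) (ρ (x l)) := by
    rw [hd.2]
    exact ((k1.map ρ).mul_right k5).add_right ((Commute.one_right _).add_right k5)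
  have k7 : Commute b₂ (x l) := D.inj (by rw [map_mul, map_mul]; exact k6.eq)
  exact h21 (hJ l lJ b₂ h2 k7)

theorem com_lm (D : RD o e x ρ) (xH : ∀ l, l ≠ o → ∀ h ∈ H, x l * h * (x l)⁻¹ ∈ H) (ho : o ∉ J)
    (hJ : ∀ j ∈ J, ∀ b ∈ CB H o x J, Commute b (x j) → b = 1) {l m : ι} (lJ : l ∈ J) (mJ : m ∈ J) (hlm : l ≠ m)
    {b : Γ} (hb : b ∈ CB H o x J) : Commute (ρ b) (e l + e m) := by
  have hl : l ≠ o := fun h => ho (h ▸ lJ)
  have hm : m ≠ o := fun h => ho (h ▸ mJ)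
  obtain ⟨b₁, h1, b₂, h2, hbb, c1, c2, -⟩ := pick D xH ho hJ lJ mJ hb
  rw [hbb, map_mul]
  exact (com_ee (D.good_one hl hm hlm) c1).mul_left (com_ee (D.good_two hl hm hlm) c2)

theorem com_o (D : RD o e x ρ) {b : Γ} {l m : ι} (hlm : l ≠ m) (hl : l ≠ o) (hm : m ≠ o)
    (h1 : Commute (ρ b) (e l + e m)) (h2 : ∀ a, a ≠ o → a ≠ l → a ≠ m → Commute (ρ b) (e a)) :
    Commute (ρ b) (e o) := by
  classical
  have k1 := Finset.add_sum_erase Finset.univ e (Finset.mem_univ o)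
  have k2 := Finset.add_sum_erase (Finset.univ.erase o) e (Finset.mem_erase.2 ⟨hl, Finset.mem_univ l⟩)
  have k3 := Finset.add_sum_erase ((Finset.univ.erase o).erase l) e
    (Finset.mem_erase.2 ⟨hlm.symm, Finset.mem_erase.2 ⟨hm, Finset.mem_univ m⟩⟩)
  have k4 : Commute (ρ b) (∑ a ∈ ((Finset.univ.erase o).erase l).erase m, e a) := by
    refine Commute.sum_right _ _ _ fun a ha => ?_
    simp only [Finset.mem_erase, Finset.mem_univ, and_true] at ha
    exact h2 a ha.2.2 ha.2.1 ha.1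
  have k5 : e o = 1 - ((e l + e m) + ∑ a ∈ ((Finset.univ.erase o).erase l).erase m, e a) := by
    rw [← D.sum, ← k1, ← k2, ← k3]; abel
  rw [k5]
  exact (Commute.one_right _).sub_right (h1.add_right k4)

theorem core [Finite Γ] (D : RD o e x ρ) (xH : ∀ l, l ≠ o → ∀ h ∈ H, x l * h * (x l)⁻¹ ∈ H) (H2 : IsPGroup 2 H)
    (CH : ∀ h ∈ H, (∀ l, l ≠ o → h * x l = x l * h) → h = 1) (hH : H ≠ ⊥) :
    ∃ J : Finset ι, CB H o x J ≠ ⊥ ∧ o ∉ J ∧ (∀ j ∈ J, ∀ b ∈ CB H o x J, Commute b (x j) → b = 1) ∧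
      ((∃ j, J = {j}) ∨ ∃ l m, l ≠ m ∧ l ∈ J ∧ m ∈ J ∧ ∀ a ∈ J, a = l ∨ a = m) := by
  classical
  obtain ⟨J, hJ0, hmin⟩ := Set.exists_min_image {J : Finset ι | CB H o x J ≠ ⊥} Finset.card (Set.toFinite _)
    ⟨Finset.univ, CB_univ H2 hH⟩
  replace hJ0 : CB H o x J ≠ ⊥ := hJ0
  have herase : ∀ j ∈ J, CB H o x (J.erase j) = ⊥ := by
    intro j hj
    by_contra hne
    have := hmin _ hne
    rw [Finset.card_erase_of_mem hj] at this
    have : 0 < J.card := Finset.card_pos.2 ⟨j, hj⟩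
    omega
  have hJ : ∀ j ∈ J, ∀ b ∈ CB H o x J, Commute b (x j) → b = 1 := by
    intro j hj b hb hc
    have : b ∈ CB H o x (J.erase j) := by
      refine ⟨hb.1, hb.2.1, hb.2.2.1, fun a ha haJ => ?_⟩
      by_cases h : a ∈ J
      · have : a = j := by
          by_contra h'
          exact haJ (Finset.mem_erase.2 ⟨h', h⟩)
        rw [this]; exact hc
      · exact hb.2.2.2 a ha h
    rwa [herase j hj, Subgroup.mem_bot] at this
  have ho : o ∉ J := by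
    intro ho
    apply hJ0
    rw [Subgroup.eq_bot_iff_forall]
    intro b hb
    have : b ∈ CB H o x (J.erase o) := by
      refine ⟨hb.1, hb.2.1, hb.2.2.1, fun a ha haJ => hb.2.2.2 a ha fun h => haJ (Finset.mem_erase.2 ⟨ha, h⟩)⟩
    rwa [herase o ho, Subgroup.mem_bot] at this
  refine ⟨J, hJ0, ho, hJ, ?_⟩
  have h0 : J.card ≠ 0 := by
    intro h
    rw [Finset.card_eq_zero] at h
    apply hJ0
    rw [Subgroup.eq_bot_iff_forall]
    intro b hb
    refine CH b hb.1 fun l hl => (hb.2.2.2 l hl (by rw [h]; exact Finset.notMem_empty l)).eq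
  have h3 : ¬ 2 < J.card := by
    intro h
    obtain ⟨l, lJ, m, mJ, n, nJ, h1, h2, h3⟩ := Finset.two_lt_card.1 h
    exact hJ0 (no_three D xH ho hJ lJ mJ nJ h1 h2 h3)
  have h12 : J.card = 1 ∨ J.card = 2 := by omega
  rcases h12 with h | h
  · exact Or.inl (Finset.card_eq_one.1 h)
  · obtain ⟨l, m, hlm, rfl⟩ := Finset.card_eq_two.1 h
    refine Or.inr ⟨l, m, hlm, ?_, ?_, ?_⟩ <;> simp

end Core

section Main

variable {Γ : Type*} [Group Γ] {A : Type*} [AddCommGroup A] [DistribMulAction Γ A] {ι : Type*} [Fintype ι] {o : ι}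
  {π : ι → A →+ A} {x : ι → Γ} {H U : Subgroup Γ}

theorem rd (D : WDat o π x H U) :
    RD (R := AddMonoid.End A) o (fun l => (π l : AddMonoid.End A)) x (DistribMulAction.toAddMonoidEnd Γ A) where
  two r := AddMonoidHom.ext fun a => D.two (r a)
  inj g h hgh := by
    have h1 : ∀ a : A, g • a = h • a := fun a => DFunLike.congr_fun hgh a
    have h2 := D.faith (h⁻¹ * g) fun a => by rw [mul_smul, h1, inv_smul_smul]
    exact (inv_mul_eq_one.1 h2).symm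
  idem l := AddMonoidHom.ext (D.idem l)
  orth l m h := AddMonoidHom.ext (D.orth l m h)
  sum := AddMonoidHom.ext fun a => (AddMonoidHom.finsetSum_apply _ _ a).trans (D.sum a)
  px l hl := AddMonoidHom.ext (D.px l hl)
  xt l hl m hm := AddMonoidHom.ext (D.xt l hl m hm)

/-- the cube lemma -/
theorem cube (D : WDat o π x H U) {j a : ι} (hj : j ≠ o) (haj : a ≠ j) {b : Γ} (hb2 : b * b = 1)
    (hn : x j * (x j * b * (x j)⁻¹) * (x j)⁻¹ = b * (x j * b * (x j)⁻¹)) (hc : ∀ y, b • π a y = π a (b • y)) (y : A) :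
    b • π a y = π a y := by
  have hx : ∀ z, x j • π a z = π a z := D.xt j hj a haj
  have hi : ∀ z, (x j)⁻¹ • π a z = π a z := fun z => by rw [inv_smul_eq_iff, hx]
  have e1 : (x j * b * (x j)⁻¹) • π a y = b • π a y := by
    rw [mul_smul, hi, mul_smul, hc, hx]
  have e2 : (x j * (x j * b * (x j)⁻¹) * (x j)⁻¹) • π a y = b • π a y := by
    rw [mul_smul, hi, mul_smul, e1, hc, hx]
  have e3 : (b * (x j * b * (x j)⁻¹)) • π a y = π a y := by
    rw [mul_smul, e1, ← mul_smul, hb2, one_smul]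
  rw [← e2, hn, e3]

theorem BU (D : WDat o π x H U) {J : Finset ι} : ∀ u ∈ U, ∀ b ∈ CB H o x J, u * b * u⁻¹ ∈ CB H o x J := by
  intro u hu b hb
  refine CB_conj (D.UH u hu) (fun h hh => ?_) (fun b a ha hc => ?_) hb
  · have := D.UH u⁻¹ (U.inv_mem hu) h hh
    rwa [inv_inv] at this
  · have h1 : Commute b (u⁻¹ * x a * u⁻¹⁻¹) := by
      rcases D.Ux u⁻¹ (U.inv_mem hu) a ha with h | h
      · rw [h]; exact hc
      · rw [h]; exact hc.inv_right
    show u * b * u⁻¹ * x a = x a * (u * b * u⁻¹)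
    calc u * b * u⁻¹ * x a = u * (b * (u⁻¹ * x a * u⁻¹⁻¹)) * u⁻¹ := by group
      _ = u * ((u⁻¹ * x a * u⁻¹⁻¹) * b) * u⁻¹ := by rw [h1.eq]
      _ = x a * (u * b * u⁻¹) := by group

end Main

theorem main {Γ : Type*} [Group Γ] [Finite Γ] {A : Type*} [AddCommGroup A] [Finite A] [DistribMulAction Γ A]
    {ι : Type*} [Fintype ι] {o : ι} {π : ι → A →+ A} {x : ι → Γ} {H U : Subgroup Γ} (D : WDat o π x H U) (hH : H ≠ ⊥) :
    ∃ (B : Subgroup Γ) (p q : ι), B ≤ H ∧ B ≠ ⊥ ∧ p ≠ q ∧ (∀ b ∈ B, b * b = 1) ∧ (∀ u ∈ U, ∀ b ∈ B, u * b * u⁻¹ ∈ B) ∧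
      (∀ b ∈ B, ∀ l, l ≠ p → l ≠ q → ∀ a, b • π l a = π l a) ∧ (∀ b ∈ B, ∀ l, l ≠ p → l ≠ q → ∀ a, π l (b • a) = π l a) ∧
      ((p = o ∧ ∀ b ∈ B, x q * b * (x q)⁻¹ ∈ B ∧ (x q * b * (x q)⁻¹ = b → b = 1)) ∨
        (p ≠ o ∧ q ≠ o ∧ ∃ a : A, a ≠ 0 ∧ (π p a = a ∨ π q a = a) ∧ (∀ u ∈ U, u • a = a) ∧ ∀ b ∈ B, b • a = a)) := by
  have R := rd D
  obtain ⟨J, hJ0, ho, hJ, hcase⟩ := core R D.xH D.H2 D.CH hH
  have hjo : ∀ j ∈ J, j ≠ o := fun j hj h => ho (h ▸ hj)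
  have hBH : CB H o x J ≤ H := fun b hb => hb.1
  have hsq : ∀ b ∈ CB H o x J, b * b = 1 := fun b hb => hb.2.2.1
  have hcom : ∀ b ∈ CB H o x J, ∀ a, a ≠ o → a ∉ J → ∀ y, b • π a y = π a (b • y) := fun b hb a ha haJ y =>
    DFunLike.congr_fun (com_e R ha (hb.2.2.2 a ha haJ)).eq y
  have hcube : ∀ j ∈ J, ∀ a, a ≠ j → ∀ b ∈ CB H o x J, (∀ y, b • π a y = π a (b • y)) → ∀ y, b • π a y = π a y :=
    fun j hj a haj b hb hc => cube D (hjo j hj) haj (hsq b hb) (nm R (hjo j hj) (D.xH j (hjo j hj)) (hJ j hj) hb) hc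
  rcases hcase with ⟨j, rfl⟩ | ⟨l, m, hlm, lJ, mJ, hlmJ⟩
  · have hj : j ∈ ({j} : Finset ι) := Finset.mem_singleton_self j
    have h1 : ∀ b ∈ CB H o x {j}, ∀ l, l ≠ o → l ≠ j → ∀ a, b • π l a = π l a := fun b hb l hlo hlj =>
      hcube j hj l hlj b hb (hcom b hb l hlo fun h => hlj (Finset.mem_singleton.1 h))
    refine ⟨CB H o x {j}, o, j, hBH, hJ0, (hjo j hj).symm, hsq, BU D, h1, fun b hb l hlo hlj a => ?_,
      Or.inl ⟨rfl, fun b hb => ⟨cx R (hjo j hj) (D.xH j (hjo j hj)) b hb, fun h => hJ j hj b hb (commute_of_conj h)⟩⟩⟩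
    rw [← hcom b hb l hlo fun h => hlj (Finset.mem_singleton.1 h), h1 b hb l hlo hlj]
  · have hl := hjo l lJ
    have hm := hjo m mJ
    have hee : ∀ b ∈ CB H o x J, Commute (DistribMulAction.toAddMonoidEnd Γ A b)
        ((π l : AddMonoid.End A) + (π m : AddMonoid.End A)) := fun b hb => com_lm R D.xH ho hJ lJ mJ hlm hb
    have hcomo : ∀ b ∈ CB H o x J, ∀ a, a ≠ l → a ≠ m → ∀ y, b • π a y = π a (b • y) := by
      intro b hb a hal ham y
      have haJ : a ∉ J := fun h => (hlmJ a h).elim hal ham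
      by_cases hao : a = o
      · rw [hao]
        exact DFunLike.congr_fun (com_o R hlm hl hm (hee b hb) fun a h1 h2 h3 =>
          com_e R h1 (hb.2.2.2 a h1 fun h => (hlmJ a h).elim h2 h3)).eq y
      · exact hcom b hb a hao haJ y
    have h1 : ∀ b ∈ CB H o x J, ∀ a, a ≠ l → a ≠ m → ∀ y, b • π a y = π a y := fun b hb a hal ham =>
      hcube l lJ a hal b hb (hcomo b hb a hal ham)
    refine ⟨CB H o x J, l, m, hBH, hJ0, hlm, hsq, BU D, h1, fun b hb a hal ham y => ?_, Or.inr ⟨hl, hm, ?_⟩⟩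
    · rw [← hcomo b hb a hal ham, h1 b hb a hal ham]
    -- a vector of `π l A`
    obtain ⟨v, hv⟩ : ∃ v, π l v ≠ 0 := by
      by_contra hne
      push Not at hne
      have hx1 : x l = 1 := D.faith _ fun a => by
        have k1 := D.sum a
        rw [← k1, Finset.smul_sum]
        refine Finset.sum_congr rfl fun k _ => ?_
        rcases eq_or_ne k l with rfl | hk
        · rw [hne, smul_zero]
        · exact D.xt l hl k hk a
      apply hJ0
      rw [Subgroup.eq_bot_iff_forall]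
      intro b hb
      refine hJ l lJ b hb ?_
      rw [hx1]; exact Commute.one_right b
    let M : AddSubgroup A :=
      { carrier := {a | π l a + π m a = a}
        add_mem' := fun {a b} ha hb => by
          show π l (a + b) + π m (a + b) = a + b
          have ha' : π l a + π m a = a := ha
          have hb' : π l b + π m b = b := hb
          rw [map_add, map_add]
          calc _ = (π l a + π m a) + (π l b + π m b) := by abel
            _ = a + b := by rw [ha', hb']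
        zero_mem' := by show π l 0 + π m 0 = 0; rw [map_zero, map_zero, add_zero]
        neg_mem' := fun {a} ha => by
          show π l (-a) + π m (-a) = -a
          have ha' : π l a + π m a = a := ha
          rw [map_neg, map_neg, ← neg_add, ha'] }
    have hMm : ∀ a, a ∈ M ↔ π l a + π m a = a := fun a => Iff.rfl
    have hMB : ∀ b ∈ CB H o x J, ∀ a ∈ M, b • a ∈ M := by
      intro b hb a ha
      rw [hMm] at ha ⊢
      have k : b • (π l a + π m a) = π l (b • a) + π m (b • a) := DFunLike.congr_fun (hee b hb).eq a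
      rw [← k, ha]
    have hvM : π l v ∈ M := by
      rw [hMm, D.idem, D.orth m l hlm.symm, add_zero]
    obtain ⟨w, hwM, hw0, hwB⟩ := fix (D.H2.to_le hBH) M (fun a _ => D.two a) hMB hvM hv
    rw [hMm] at hwM
    -- fixed vectors of `B` are mapped to such by `x j`, `j ∈ J`
    have hxB : ∀ j ∈ J, ∀ a : A, (∀ b ∈ CB H o x J, b • a = a) → ∀ b ∈ CB H o x J, b • (x j • a) = x j • a := by
      intro j hj a ha b hb
      have hjj := hjo j hj
      have k1 := cx R hjj (D.xH j hjj) _ (cx R hjj (D.xH j hjj) b hb)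
      have k2 : x j * (x j * b * (x j)⁻¹) * (x j)⁻¹ = (x j)⁻¹ * b * x j := by
        have hi : (x j)⁻¹ = x j * x j := (eq_inv_of_mul_eq_one_left (R.x3 hjj)).symm
        calc x j * (x j * b * (x j)⁻¹) * (x j)⁻¹ = (x j * x j) * b * (x j * x j)⁻¹ := by group
          _ = (x j)⁻¹ * b * x j := by rw [← hi, inv_inv]
      rw [k2] at k1
      have k3 := ha _ k1
      rw [mul_smul, mul_smul, inv_smul_eq_iff] at k3
      exact k3
    have hπB : ∀ j ∈ J, ∀ a : A, (∀ b ∈ CB H o x J, b • a = a) → ∀ b ∈ CB H o x J, b • π j a = π j a := by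
      intro j hj a ha b hb
      have k1 := hxB j hj a ha
      have k2 := hxB j hj _ k1
      rw [← D.px j (hjo j hj) a, smul_add, k1 b hb, k2 b hb]
    obtain ⟨j, hj, hjlm, hj0⟩ : ∃ j ∈ J, (j = l ∨ j = m) ∧ π j w ≠ 0 := by
      by_contra hne
      push Not at hne
      exact hw0 (by rw [← hwM, hne l lJ (Or.inl rfl), hne m mJ (Or.inr rfl), add_zero])
    let F : AddSubgroup A :=
      { carrier := {a | π j a = a ∧ ∀ b ∈ CB H o x J, b • a = a}
        add_mem' := fun {a b} ha hb => ⟨by rw [map_add, ha.1, hb.1], fun c hc => by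
          rw [smul_add, ha.2 c hc, hb.2 c hc]⟩
        zero_mem' := ⟨map_zero _, fun c _ => smul_zero c⟩
        neg_mem' := fun {a} ha => ⟨by rw [map_neg, ha.1], fun c hc => by rw [smul_neg, ha.2 c hc]⟩ }
    have hFm : ∀ a, a ∈ F ↔ π j a = a ∧ ∀ b ∈ CB H o x J, b • a = a := fun a => Iff.rfl
    have hFU : ∀ u ∈ U, ∀ a ∈ F, u • a ∈ F := by
      intro u hu a ha
      rw [hFm] at ha ⊢
      refine ⟨by rw [← D.Uπ u hu, ha.1], fun b hb => ?_⟩
      have k1 := BU D u⁻¹ (U.inv_mem hu) b hb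
      have k2 := ha.2 _ k1
      rw [inv_inv, mul_smul, mul_smul, inv_smul_eq_iff] at k2
      exact k2
    have hwF : π j w ∈ F := by
      rw [hFm]
      exact ⟨D.idem j w, hπB j hj w hwB⟩
    obtain ⟨z, hzF, hz0, hzU⟩ := fix D.U2 F (fun a _ => D.two a) hFU hwF hj0
    rw [hFm] at hzF
    refine ⟨z, hz0, ?_, hzU, hzF.2⟩
    rcases hjlm with rfl | rfl
    · exact Or.inl hzF.1
    · exact Or.inr hzF.1

end Cfsg.Agent.Omega.ThmC.TwoW

end

section


/-!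
# THEOREM C, `q = 2`, step (2): `K = W ∩ S`, `W = O₂(C_G(z o))`, and its action on `Ω₁Z(KQ)`
-/

set_option autoImplicit false
set_option linter.unusedSectionVars false

namespace Cfsg.Agent.Omega.ThmC

open scoped Pointwise
open Subgroup Cfsg Cfsg.Agent.MinSimple.VModule
open Cfsg.Agent.ZN (zc o2)
open Cfsg.Agent.Omega.IITwo.Count (conj_mem conj_mem' mem_norm)

universe u

variable {G : Type u} [Group G]

/-- `O₂(C_G(v))`. -/
def WW (v : G) : Subgroup G := o2 (centralizer {v})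

theorem WW_two (v : G) : IsPGroup 2 (WW v) := o2_isPGroup _

theorem WW_le (v : G) : WW v ≤ centralizer {v} := o2_le _

theorem le_nor_WW (v : G) : centralizer {v} ≤ normalizer (WW v : Set G) := le_normalizer_o2 _

/-- membership of `g` in `centralizer {v}`. -/
theorem mem_cs {v g : G} : g ∈ centralizer ({v} : Set G) ↔ g * v = v * g := by
  rw [mem_centralizer_singleton_iff]

theorem mem_cs' {v g : G} : g ∈ centralizer ({v} : Set G) ↔ g * v * g⁻¹ = v := by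
  rw [mem_cs, mul_inv_eq_iff_eq_mul]

namespace Dat

variable {S : Sylow 2 G} {Q : Subgroup G} {ι : Type} {Z : ι → Subgroup G} {x z : ι → G}

section
variable [Finite G] [Finite ι] (D : Dat S Q Z x z) {o : ι}

include D in
theorem x_mem_C {l : ι} (h : l ≠ o) : x l ∈ centralizer ({z o} : Set G) :=
  mem_cs'.mpr (D.triv l o h _ (D.zm o))

include D in
theorem S0_le_C : S0 (S : Subgroup G) Z ≤ centralizer ({z o} : Set G) := fun s hs =>
  mem_cs.mpr ((D.mem_E.mp (D.z_mem_E o)).2 s hs)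

include D in
theorem Q_le_C : Q ≤ centralizer ({z o} : Set G) := D.Q_le_S0.trans D.S0_le_C

include D in
/-- `w ∈ W ∩ S` commutes with `x l`, `l ≠ o`, on `Ω₁Z(Q)`. -/
theorem comm_x {w : G} (hw : w ∈ WW (z o)) (hs : w ∈ (S : Subgroup G)) {l : ι} (hl : l ≠ o) :
    Md.cjE (D.SN hs) * D.X l = D.X l * Md.cjE (D.SN hs) := by
  set A : MulAut ↥(zc Q) := Md.cjE (D.SN hs) with hA
  -- `A X A⁻¹`
  have h1 : A * D.X l * A⁻¹ = D.X (D.sg w l) ∨ A * D.X l * A⁻¹ = (D.X (D.sg w l))⁻¹ := by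
    have hval : ∀ a : Md Q, ((A * D.X l * A⁻¹) • a).val = (w * x l * w⁻¹) * a.val * (w * x l * w⁻¹)⁻¹ := by
      intro a
      have h0 : A • A⁻¹ • a = a := smul_inv_smul _ _
      have h2 : (A⁻¹ • a).val = w⁻¹ * a.val * w := by
        have h3 : w * (A⁻¹ • a).val * w⁻¹ = a.val := congrArg Md.val h0
        rw [← h3]
        generalize (A⁻¹ • a).val = b
        group
      have h4 : ((A * D.X l * A⁻¹) • a).val = w * (x l * (A⁻¹ • a).val * (x l)⁻¹) * w⁻¹ := by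
        rw [mul_smul, mul_smul]; rfl
      rw [h4, h2]
      group
    rcases (D.sg_spec hs l).2 with h | h
    · left
      apply Md.ext_smul
      intro a
      exact Md.ext (by rw [hval, h _ a.val_mem, val_X])
    · right
      apply Md.ext_smul
      intro a
      apply Md.ext
      rw [hval, h _ a.val_mem]
      have h0 : D.X (D.sg w l) • (D.X (D.sg w l))⁻¹ • a = a := smul_inv_smul _ _
      have h3 : x (D.sg w l) * ((D.X (D.sg w l))⁻¹ • a).val * (x (D.sg w l))⁻¹ = a.val := congrArg Md.val h0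
      rw [← h3]
      generalize ((D.X (D.sg w l))⁻¹ • a).val = b
      group
  have hcube : ∀ m, (D.X m) ^ 3 = 1 := fun m => Md.faith (fun a => by
    rw [pow_succ, pow_two, mul_smul, mul_smul]; exact D.X_cube m a)
  -- `C = [X⁻¹, A]`
  have hC3 : ((D.X l)⁻¹ * (A * D.X l * A⁻¹)) ^ 3 = 1 := by
    rcases h1 with h | h
    · rw [h]
      have hc0 : Commute (D.X l) (D.X (D.sg w l)) := D.X_comm l _
      have hc : Commute (D.X l)⁻¹ (D.X (D.sg w l)) := hc0.inv_left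
      rw [hc.mul_pow, inv_pow, hcube, hcube, inv_one, one_mul]
    · rw [h]
      have hc0 : Commute (D.X l) (D.X (D.sg w l)) := D.X_comm l _
      have hc : Commute (D.X l)⁻¹ (D.X (D.sg w l))⁻¹ := hc0.inv_left.inv_right
      rw [hc.mul_pow, inv_pow, inv_pow, hcube, hcube, inv_one, one_mul]
  have hwl : (x l)⁻¹ * w * x l ∈ WW (z o) := conj_mem' (le_nor_WW _ (D.x_mem_C hl)) hw
  have hc : (x l)⁻¹ * w * x l * w⁻¹ ∈ WW (z o) := mul_mem hwl (inv_mem hw)
  obtain ⟨n, hn⟩ := WW_two (z o) ⟨_, hc⟩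
  have hn' : ((x l)⁻¹ * w * x l * w⁻¹) ^ 2 ^ n = 1 := congrArg Subtype.val hn
  have hcN : (x l)⁻¹ * w * x l * w⁻¹ ∈ normalizer (zc Q : Set G) :=
    mul_mem (mul_mem (mul_mem (inv_mem (D.xN l)) (D.SN hs)) (D.xN l)) (inv_mem (D.SN hs))
  have hCe : (D.X l)⁻¹ * (A * D.X l * A⁻¹) = Md.cjE hcN := by
    have e1 : (⟨(x l)⁻¹ * w * x l * w⁻¹, hcN⟩ : normalizer (zc Q : Set G)) =
        (⟨x l, D.xN l⟩ : normalizer (zc Q : Set G))⁻¹ * (⟨w, D.SN hs⟩ * ⟨x l, D.xN l⟩ * ⟨w, D.SN hs⟩⁻¹) := by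
      apply Subtype.ext
      simp [mul_assoc]
    have e2 := congrArg (zc Q).normalizerMonoidHom e1
    simp only [map_mul, map_inv] at e2
    exact e2.symm
  have hCn : ((D.X l)⁻¹ * (A * D.X l * A⁻¹)) ^ 2 ^ n = 1 := by
    rw [hCe]
    have e1 : (⟨(x l)⁻¹ * w * x l * w⁻¹, hcN⟩ : normalizer (zc Q : Set G)) ^ 2 ^ n = 1 :=
      Subtype.ext (by simpa using hn')
    have e2 := congrArg (zc Q).normalizerMonoidHom e1
    rw [map_pow, map_one] at e2
    exact e2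
  have h4 : (D.X l)⁻¹ * (A * D.X l * A⁻¹) = 1 := by
    have h5 : orderOf ((D.X l)⁻¹ * (A * D.X l * A⁻¹)) ∣ Nat.gcd 3 (2 ^ n) :=
      Nat.dvd_gcd (orderOf_dvd_of_pow_eq_one hC3) (orderOf_dvd_of_pow_eq_one hCn)
    have h6 : Nat.gcd 3 (2 ^ n) = 1 := Nat.Coprime.pow_right n (by decide)
    rw [h6, Nat.dvd_one, orderOf_eq_one_iff] at h5
    exact h5
  have h5 := inv_mul_eq_one.mp h4
  rw [eq_mul_inv_iff_mul_eq] at h5
  exact h5.symm

include D in
theorem comm_x' {w : G} (hw : w ∈ WW (z o)) (hs : w ∈ (S : Subgroup G)) {l : ι} (hl : l ≠ o) {v : G}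
    (hv : v ∈ zc Q) : w * (x l * v * (x l)⁻¹) * w⁻¹ = x l * (w * v * w⁻¹) * (x l)⁻¹ := by
  have h := D.comm_x hw hs hl
  have h1 : (Md.cjE (D.SN hs) * D.X l) • Md.mk v hv = (D.X l * Md.cjE (D.SN hs)) • Md.mk v hv := by rw [h]
  rw [mul_smul, mul_smul] at h1
  exact congrArg Md.val h1

include D in
/-- `W ∩ S ≤ S⁰`. -/
theorem inf_le_S0 : WW (z o) ⊓ (S : Subgroup G) ≤ S0 (S : Subgroup G) Z := by
  intro w hw
  rw [mem_inf] at hw
  rw [D.mem_S0_iff hw.2]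
  intro l
  rcases eq_or_ne l o with rfl | hl
  · exact D.sg_of_z hw.2 (mem_cs.mp (WW_le _ hw.1))
  · refine D.sg_eq' hw.2 fun v hv => ?_
    have h1 := D.comm_x' hw.1 hw.2 hl (D.le l hv)
    have h2 := D.comm_x' hw.1 hw.2 hl (conj_mem (D.xN l) (D.le l hv))
    have h3 : pr (x l) (w * v * w⁻¹) = w * pr (x l) v * w⁻¹ := by
      unfold pr
      rw [← h1, ← h2]; group
    rw [D.pr_self hv] at h3
    have h4 := D.pi_mem l (Md.mk (w * v * w⁻¹) (conj_mem (D.SN hw.2) (D.le l hv)))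
    rw [D.val_pi, Md.val_mk, h3] at h4
    exact h4

include D in
/-- `W ∩ C(Ω₁Z(Q)) ≤ Q`. -/
theorem inf_C_le_Q : WW (z o) ⊓ centralizer (zc Q : Set G) ≤ Q := by
  have h1 : centralizer (zc Q : Set G) ≤ normalizer (zc Q : Set G) := centralizer_le_normalizer _
  have h2 : normalizer (zc Q : Set G) ≤ normalizer (centralizer (zc Q : Set G) : Set G) := by
    intro g hg
    refine mem_norm fun c hc => ?_
    rw [mem_centralizer_iff]
    intro v hv
    have h3 := mem_centralizer_iff.mp hc _ (conj_mem' hg hv)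
    calc v * (g * c * g⁻¹) = g * ((g⁻¹ * v * g) * c) * g⁻¹ := by group
      _ = g * (c * (g⁻¹ * v * g)) * g⁻¹ := by rw [h3]
      _ = g * c * g⁻¹ * v := by group
  have h3 : (S : Subgroup G) ⊓ centralizer (zc Q : Set G) ≤
      normalizer (WW (z o) ⊓ centralizer (zc Q : Set G) : Subgroup G) := by
    intro s hs
    have hsQ := D.SC hs
    refine mem_norm fun w hw => ?_
    rw [mem_inf] at hw hs
    exact mem_inf.mpr ⟨conj_mem (le_nor_WW _ (D.Q_le_C hsQ)) hw.1,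
      mul_mem (mul_mem hs.2 hw.2) (inv_mem hs.2)⟩
  have h4 := le_of_normalized S D.SN h1 h2 ((WW_two (z o)).to_le inf_le_left) inf_le_right h3
  exact (le_inf h4 inf_le_right).trans D.SC

end

/-! ### `K`, `KQ`, `W'` -/

/-- `K Q`, `K = W ∩ S`. -/
def KQ (S : Sylow 2 G) (Q : Subgroup G) (v : G) : Subgroup G := (WW v ⊓ (S : Subgroup G)) ⊔ Q

/-- `W' = N_W(KQ)`. -/
def Wp (S : Sylow 2 G) (Q : Subgroup G) (v : G) : Subgroup G :=
  WW v ⊓ normalizer (KQ S Q v : Set G)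

section
variable [Finite G] [Finite ι] (D : Dat S Q Z x z) {o : ι}

include D

theorem K_le_KQ : WW (z o) ⊓ (S : Subgroup G) ≤ KQ S Q (z o) := le_sup_left

theorem Q_le_KQ : Q ≤ KQ S Q (z o) := le_sup_right

theorem KQ_le_S0 : KQ S Q (z o) ≤ S0 (S : Subgroup G) Z := sup_le D.inf_le_S0 D.Q_le_S0

theorem ZK_le : zc (KQ S Q (z o)) ≤ zc Q := zc_le_of_le D.CQ (D.Q_le_KQ)

theorem E_le_ZK : zc (S0 (S : Subgroup G) Z) ≤ zc (KQ S Q (z o)) :=
  zc_le_of_le (((centralizer_le (D.Q_le_KQ (o := o))).trans D.CQ).trans D.Q_le_KQ) D.KQ_le_S0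

theorem mem_ZK {v : G} : v ∈ zc (KQ S Q (z o)) ↔ v ∈ zc Q ∧ ∀ s ∈ KQ S Q (z o), s * v = v * s :=
  mem_zc_iff_of_le D.CQ D.Q_le_KQ

theorem pr_ZK (l : ι) : ∀ v ∈ zc (KQ S Q (z o)), pr (x l) v ∈ zc (KQ S Q (z o)) := by
  intro v hv
  have h1 := D.mem_ZK.mp hv
  rw [D.mem_ZK]
  refine ⟨pr_mem (D.xN l) h1.1, fun s hs => ?_⟩
  have hs0 := D.KQ_le_S0 hs
  have h2 := D.pr_conj (S0_le hs0) l h1.1
  rw [(D.mem_S0_iff (S0_le hs0)).mp hs0 l] at h2
  have h3 : s * v * s⁻¹ = v := by rw [h1.2 s hs]; group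
  rw [h3] at h2
  exact mul_inv_eq_iff_eq_mul.mp h2

/-- `x l` normalises `K`. -/
theorem x_nor_K {l : ι} (hl : l ≠ o) : x l ∈ normalizer (WW (z o) ⊓ (S : Subgroup G) : Subgroup G) := by
  refine mem_norm fun w hw => ?_
  rw [mem_inf] at hw ⊢
  have h1 : x l * w * (x l)⁻¹ ∈ WW (z o) := conj_mem (le_nor_WW _ (D.x_mem_C hl)) hw.1
  refine ⟨h1, ?_⟩
  have h2 : x l * w * (x l)⁻¹ * w⁻¹ ∈ WW (z o) ⊓ centralizer (zc Q : Set G) := by
    refine mem_inf.mpr ⟨mul_mem h1 (inv_mem hw.1), ?_⟩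
    rw [mem_centralizer_iff]
    intro v hv
    -- `w` and `x l` commute on `zc Q`
    have hv1 : (x l)⁻¹ * (w⁻¹ * v * w) * x l ∈ zc Q := conj_mem' (D.xN l) (conj_mem' (D.SN hw.2) hv)
    have h3 := D.comm_x' hw.1 hw.2 hl hv1
    have h4 : x l * ((x l)⁻¹ * (w⁻¹ * v * w) * x l) * (x l)⁻¹ = w⁻¹ * v * w := by group
    rw [h4] at h3
    have h5 : v = x l * (w * ((x l)⁻¹ * (w⁻¹ * v * w) * x l) * w⁻¹) * (x l)⁻¹ := by
      rw [← h3]; group
    have h6 : v = (x l * w * (x l)⁻¹ * w⁻¹) * v * (x l * w * (x l)⁻¹ * w⁻¹)⁻¹ := by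
      calc v = x l * (w * ((x l)⁻¹ * (w⁻¹ * v * w) * x l) * w⁻¹) * (x l)⁻¹ := h5
        _ = _ := by group
    exact (mul_inv_eq_iff_eq_mul.mp h6.symm).symm
  have h3 := D.QS (D.inf_C_le_Q h2)
  have h4 : x l * w * (x l)⁻¹ = (x l * w * (x l)⁻¹ * w⁻¹) * w := by group
  rw [h4]
  exact mul_mem h3 hw.2

theorem x_nor_KQ {l : ι} (hl : l ≠ o) : x l ∈ normalizer (KQ S Q (z o) : Set G) := by
  refine mem_norm fun k hk => ?_
  have h1 := D.x_nor_K hl
  have h2 := D.xQ l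
  have key : KQ S Q (z o) ≤ (KQ S Q (z o)).comap (MulAut.conj (x l)).toMonoidHom := by
    refine sup_le (fun k hk => ?_) (fun k hk => ?_)
    · exact D.K_le_KQ (conj_mem h1 hk)
    · exact D.Q_le_KQ (conj_mem h2 hk)
  exact key hk

theorem S0_nor_KQ : S0 (S : Subgroup G) Z ≤ normalizer (KQ S Q (z o) : Set G) := by
  intro s hs
  refine mem_norm fun k hk => ?_
  have key : KQ S Q (z o) ≤ (KQ S Q (z o)).comap (MulAut.conj s).toMonoidHom := by
    refine sup_le (fun k hk => ?_) (fun k hk => ?_)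
    · rw [mem_inf] at hk
      exact D.K_le_KQ (mem_inf.mpr ⟨conj_mem (le_nor_WW _ (D.S0_le_C hs)) hk.1,
        mul_mem (mul_mem (S0_le hs) hk.2) (inv_mem (S0_le hs))⟩)
    · exact D.Q_le_KQ (conj_mem (D.SQ (S0_le hs)) hk)
  exact key hk

theorem x_nor_ZK {l : ι} (hl : l ≠ o) : x l ∈ normalizer (zc (KQ S Q (z o)) : Set G) :=
  normalizer_le_normalizer_zc _ (D.x_nor_KQ hl)

theorem S0_nor_ZK : S0 (S : Subgroup G) Z ≤ normalizer (zc (KQ S Q (z o)) : Set G) :=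
  fun _ hs => normalizer_le_normalizer_zc _ (D.S0_nor_KQ hs)

omit [Finite G] [Finite ι] D in
theorem Wp_le : Wp S Q (z o) ≤ WW (z o) := inf_le_left

omit [Finite G] [Finite ι] D in
theorem Wp_nor_ZK : Wp S Q (z o) ≤ normalizer (zc (KQ S Q (z o)) : Set G) :=
  fun _ hs => normalizer_le_normalizer_zc _ hs.2

theorem x_conj_Wp {l : ι} (hl : l ≠ o) {w : G} (hw : w ∈ Wp S Q (z o)) : x l * w * (x l)⁻¹ ∈ Wp S Q (z o) :=
  mem_inf.mpr ⟨conj_mem (le_nor_WW _ (D.x_mem_C hl)) (mem_inf.mp hw).1,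
    mul_mem (mul_mem (D.x_nor_KQ hl) (mem_inf.mp hw).2) (inv_mem (D.x_nor_KQ hl))⟩

theorem S0_conj_Wp {s : G} (hs : s ∈ S0 (S : Subgroup G) Z) {w : G} (hw : w ∈ Wp S Q (z o)) :
    s * w * s⁻¹ ∈ Wp S Q (z o) :=
  mem_inf.mpr ⟨conj_mem (le_nor_WW _ (D.S0_le_C hs)) (mem_inf.mp hw).1,
    mul_mem (mul_mem (D.S0_nor_KQ hs) (mem_inf.mp hw).2) (inv_mem (D.S0_nor_KQ hs))⟩

/-- `W' > K` if `W` is not contained in `S`. -/
theorem exists_Wp (h : ¬ WW (z o) ≤ (S : Subgroup G)) : ∃ w ∈ Wp S Q (z o), w ∉ (S : Subgroup G) := by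
  have hQn : Q ≤ normalizer (WW (z o) : Set G) := D.Q_le_C.trans (le_nor_WW _)
  have hA : IsPGroup 2 ↥(Q ⊔ WW (z o)) :=
    (S.2.to_le D.QS : IsPGroup 2 Q).to_sup_of_normal_right' (WW_two _) hQn
  have hBA : KQ S Q (z o) ≤ Q ⊔ WW (z o) := sup_le (inf_le_left.trans le_sup_right) le_sup_left
  have hne : ¬ (Q ⊔ WW (z o)) ≤ KQ S Q (z o) := fun hle =>
    h ((le_sup_right.trans hle).trans (sup_le inf_le_right D.QS))
  obtain ⟨n, hn, hn1, hn2⟩ := exists_normalizer hA hBA hne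
  have h1 : n ∈ (Q : Set G) * (WW (z o) : Set G) := by
    rw [← coe_mul_of_left_le_normalizer_right Q (WW (z o)) hQn]
    exact hn
  obtain ⟨q, hq, w, hw, rfl⟩ := h1
  have hq1 : q ∈ KQ S Q (z o) := D.Q_le_KQ hq
  have hw2 : w ∈ normalizer (KQ S Q (z o) : Set G) := by
    have := mul_mem (inv_mem (le_normalizer hq1)) hn2
    simpa using this
  refine ⟨w, ⟨hw, hw2⟩, fun hwS => hn1 ?_⟩
  exact mul_mem hq1 (D.K_le_KQ (mem_inf.mpr ⟨hw, hwS⟩))

/-- `C_{W'}(ZK) ≤ K`. -/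
theorem Wp_faith {w : G} (hw : w ∈ Wp S Q (z o)) (h : w ∈ centralizer (zc (KQ S Q (z o)) : Set G)) :
    w ∈ WW (z o) ⊓ (S : Subgroup G) := by
  have h1 : Wp S Q (z o) ⊓ centralizer (zc (KQ S Q (z o)) : Set G) ≤ S0 (S : Subgroup G) Z := by
    refine D.le_S0 ((WW_two (z o)).to_le (inf_le_left.trans Wp_le))
      (inf_le_right.trans (centralizer_le D.E_le_ZK)) ?_
    intro s hs
    refine mem_norm fun w hw => ?_
    rw [mem_inf] at hw ⊢
    refine ⟨D.S0_conj_Wp hs hw.1, ?_⟩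
    rw [mem_centralizer_iff]
    intro v hv
    have h3 := mem_centralizer_iff.mp hw.2 _ (conj_mem' (D.S0_nor_ZK hs) hv)
    calc v * (s * w * s⁻¹) = s * ((s⁻¹ * v * s) * w) * s⁻¹ := by group
      _ = s * (w * (s⁻¹ * v * s)) * s⁻¹ := by rw [h3]
      _ = s * w * s⁻¹ * v := by group
  exact mem_inf.mpr ⟨hw.1, S0_le (h1 (mem_inf.mpr ⟨hw, h⟩))⟩

theorem K_le_C : WW (z o) ⊓ (S : Subgroup G) ≤ centralizer (zc (KQ S Q (z o)) : Set G) :=
  D.K_le_KQ.trans (le_centralizer_zc _)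

/-- a 2-element of `N(S⁰) ∩ C(E)` lies in `S⁰`. -/
theorem mem_S0_of {c : G} (hc2 : ∃ n : ℕ, c ^ 2 ^ n = 1)
    (hcE : c ∈ centralizer (zc (S0 (S : Subgroup G) Z) : Set G))
    (hn : c ∈ normalizer (S0 (S : Subgroup G) Z : Set G)) : c ∈ S0 (S : Subgroup G) Z := by
  have h1 : IsPGroup 2 (zpowers c) := by
    obtain ⟨n, hn⟩ := hc2
    rintro ⟨_, k, rfl⟩
    refine ⟨n, Subtype.ext ?_⟩
    change (c ^ k) ^ 2 ^ n = 1
    rw [← zpow_natCast, ← zpow_mul, mul_comm, zpow_mul, zpow_natCast, hn, one_zpow]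
  have h2 : IsPGroup 2 ↥(zpowers c ⊔ S0 (S : Subgroup G) Z) :=
    h1.to_sup_of_normal_right' (S.2.to_le S0_le) (by rwa [zpowers_le])
  have h3 := D.le_S0 h2 (sup_le (by rwa [zpowers_le]) (le_centralizer_zc _)) (le_sup_right.trans le_normalizer)
  exact h3 (le_sup_left (α := Subgroup G) (mem_zpowers c))

end

end Dat

end Cfsg.Agent.Omega.ThmC

end

section


/-!
# THEOREM C for natural factors, `q = 2`, arbitrary `D = C_V(O²(P))` (bb OMEGA 19448): data and basics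

`DatD S Q Z x z` : as `ThmC.Dat`, but `Ω₁Z(Q)` need not be the product of the `Z l`: the projection `x l + (x l)²`
of `Ω₁Z(Q)` has values in `Z l`.  (`D⁺ = C_{Ω₁Z(Q)}(x l : l)` is a complement of `∏ Z l`.)
-/

set_option autoImplicit false
set_option linter.unusedSectionVars false

namespace Cfsg.Agent.Omega.IId.ThmCD

open Subgroup Cfsg Cfsg.Agent.MinSimple.VModule Cfsg.Agent.Omega.ThmC
open Cfsg.Agent.ZN (zc o2)
open Cfsg.Agent.Omega.IITwo.Count (conj_mem conj_mem' mem_norm)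

universe u

variable {G : Type u} [Group G]

/-- The data. -/
structure DatD (S : Sylow 2 G) (Q : Subgroup G) {ι : Type} (Z : ι → Subgroup G) (x z : ι → G) :
    Prop where
  QS : Q ≤ S
  SQ : (S : Subgroup G) ≤ normalizer (Q : Set G)
  SC : (S : Subgroup G) ⊓ centralizer (zc Q : Set G) ≤ Q
  CQ : centralizer (Q : Set G) ≤ Q
  xQ : ∀ l, x l ∈ normalizer (Q : Set G)
  le : ∀ l, Z l ≤ zc Q
  prj : ∀ l, ∀ v ∈ zc Q, pr (x l) v ∈ Z l
  nor : ∀ l, ∀ v ∈ Z l, x l * v * (x l)⁻¹ ∈ Z l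
  three : ∀ l, ∀ v ∈ Z l,
    v * (x l * v * (x l)⁻¹) * (x l * (x l * v * (x l)⁻¹) * (x l)⁻¹) = 1
  triv : ∀ l m, l ≠ m → ∀ v ∈ Z m, x l * v * (x l)⁻¹ = v
  perm : ∀ s ∈ (S : Subgroup G), ∀ l, ∃ m, (∀ v ∈ Z l, s * v * s⁻¹ ∈ Z m) ∧
    ((∀ v ∈ zc Q, (s * x l * s⁻¹) * v * (s * x l * s⁻¹)⁻¹ = x m * v * (x m)⁻¹) ∨
      (∀ v ∈ zc Q, (s * x l * s⁻¹) * v * (s * x l * s⁻¹)⁻¹ = (x m)⁻¹ * v * x m))
  trans : ∀ l m, ∃ s ∈ (S : Subgroup G), ∀ v ∈ Z l, s * v * s⁻¹ ∈ Z m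
  zm : ∀ l, z l ∈ Z l
  z1 : ∀ l, z l ≠ 1
  zfix : ∀ l, ∀ v ∈ Z l, (∀ s ∈ (S : Subgroup G), (∀ w ∈ Z l, s * w * s⁻¹ ∈ Z l) →
    s * v * s⁻¹ = v) → v = 1 ∨ v = z l
  inv : ∀ l, ∃ a ∈ (S : Subgroup G),
    (∀ v ∈ zc Q, (a * x l * a⁻¹) * v * (a * x l * a⁻¹)⁻¹ = (x l)⁻¹ * v * x l) ∧
      ∀ m, m ≠ l → ∀ v ∈ zc Q, (a * x m * a⁻¹) * v * (a * x m * a⁻¹)⁻¹ = x m * v * (x m)⁻¹

namespace DatD

variable {S : Sylow 2 G} {Q : Subgroup G} {ι : Type} {Z : ι → Subgroup G} {x z : ι → G}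

section basics
variable (D : DatD S Q Z x z)
include D

theorem xN (l : ι) : x l ∈ normalizer (zc Q : Set G) := normalizer_le_normalizer_zc Q (D.xQ l)

theorem sq {l : ι} {v : G} (hv : v ∈ Z l) : v * v = 1 := by
  have := zc_sq Q v (D.le l hv)
  rwa [pow_two] at this

theorem pr_self {l : ι} {v : G} (hv : v ∈ Z l) : pr (x l) v = v := by
  have h := D.three l v hv
  have h1 := D.nor l v hv
  have h2 := D.nor l _ h1
  unfold pr
  rw [mul_assoc] at h
  rw [← eq_inv_of_mul_eq_one_right h |>.symm]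
  exact inv_eq_of_mul_eq_one_right (D.sq hv)

theorem pr_other {l m : ι} (h : l ≠ m) {v : G} (hv : v ∈ Z m) : pr (x l) v = 1 := by
  unfold pr
  rw [D.triv l m h v hv, D.triv l m h v hv, D.sq hv]

/-- `π l` on `Md Q`. -/
def pi (l : ι) : Md Q →+ Md Q :=
  Md.lft (pr (x l)) (fun _ hv => pr_mem (D.xN l) hv) (fun _ hv _ hw => pr_mul (D.xN l) hv hw)

@[simp] theorem val_pi (l : ι) (a : Md Q) : (D.pi l a).val = pr (x l) a.val := rfl

theorem pi_self {l : ι} {a : Md Q} (ha : a.val ∈ Z l) : D.pi l a = a :=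
  Md.ext (by rw [val_pi, D.pr_self ha])

theorem pi_other {l m : ι} (h : l ≠ m) {a : Md Q} (ha : a.val ∈ Z m) : D.pi l a = 0 :=
  Md.ext (by rw [val_pi, D.pr_other h ha, Md.val_zero])

theorem pi_mem (l : ι) (a : Md Q) : (D.pi l a).val ∈ Z l := D.prj l _ a.val_mem

theorem pi_eq_iff {l : ι} {a : Md Q} : D.pi l a = a ↔ a.val ∈ Z l :=
  ⟨fun h => h ▸ D.pi_mem l a, D.pi_self⟩

theorem pi_idem (l : ι) (a : Md Q) : D.pi l (D.pi l a) = D.pi l a := D.pi_self (D.pi_mem l a)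

theorem pi_orth {l m : ι} (h : l ≠ m) (a : Md Q) : D.pi l (D.pi m a) = 0 :=
  D.pi_other h (D.pi_mem m a)

theorem disjZ {l m : ι} (h : l ≠ m) {v : G} (hv : v ∈ Z l) (hw : v ∈ Z m) : v = 1 := by
  rw [← D.pr_self hv, D.pr_other h hw]

/-- the automorphism `x l` of `zc Q`. -/
def X (l : ι) : MulAut ↥(zc Q) := Md.cjE (D.xN l)

@[simp] theorem val_X (l : ι) (a : Md Q) : (D.X l • a).val = x l * a.val * (x l)⁻¹ := rfl

theorem X_other {l m : ι} (h : l ≠ m) {a : Md Q} (ha : a.val ∈ Z m) : D.X l • a = a :=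
  Md.ext (by rw [val_X, D.triv l m h _ ha])

theorem X_mem {l : ι} {a : Md Q} (ha : a.val ∈ Z l) : (D.X l • a).val ∈ Z l := D.nor l _ ha

theorem X_three {l : ι} {a : Md Q} (ha : a.val ∈ Z l) : a + D.X l • a + D.X l • D.X l • a = 0 :=
  Md.ext (D.three l _ ha)

theorem X_pi (l : ι) (a : Md Q) : D.X l • a + D.X l • D.X l • a = D.pi l a := rfl

/-- the kernel of `π l` is centralised by `x l`. -/
theorem X_ker {l : ι} {a : Md Q} (h : D.pi l a = 0) : D.X l • a = a := by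
  rw [← D.X_pi] at h
  have h1 := neg_eq_of_add_eq_zero_right h
  rw [Md.neg_eq] at h1
  exact (smul_left_cancel _ h1).symm

theorem X_cube' {l : ι} {a : Md Q} (ha : a.val ∈ Z l) : D.X l • D.X l • D.X l • a = a := by
  have h1 := D.X_three ha
  have h2 := D.X_three (D.X_mem ha)
  rw [add_assoc] at h1
  have h3 : D.X l • a + D.X l • D.X l • a = a := by
    have := neg_eq_of_add_eq_zero_right h1
    rw [← this, Md.neg_eq]
  have h4 := neg_eq_of_add_eq_zero_right h2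
  rw [Md.neg_eq, h3] at h4
  exact h4.symm

theorem X_cube (l : ι) (a : Md Q) : D.X l • D.X l • D.X l • a = a := by
  obtain ⟨w, hw⟩ : ∃ w, w = a + D.pi l a := ⟨_, rfl⟩
  have h1 : D.X l • w = w := D.X_ker (by rw [hw, map_add, D.pi_idem, Md.two])
  have h3 := D.X_cube' (D.pi_mem l a)
  have h2 : a = w + D.pi l a := by rw [hw, add_assoc, Md.two, add_zero]
  generalize D.pi l a = b at h2 h3
  rw [h2, smul_add, smul_add, smul_add, h1, h1, h1, h3]

theorem X_comm (l m : ι) : D.X l * D.X m = D.X m * D.X l := by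
  rcases eq_or_ne l m with rfl | hlm
  · rfl
  apply Md.ext_smul
  intro a
  obtain ⟨w, hw⟩ : ∃ w, w = a + D.pi l a + D.pi m a := ⟨_, rfl⟩
  have hl : D.X l • w = w := D.X_ker (by
    rw [hw, map_add, map_add, D.pi_idem, D.pi_orth hlm, Md.two, zero_add])
  have hm : D.X m • w = w := D.X_ker (by
    rw [hw, map_add, map_add, D.pi_idem, D.pi_orth hlm.symm, add_zero, Md.two])
  have ha : a = w + D.pi l a + D.pi m a := by
    rw [hw]
    have e1 := Md.two (D.pi l a)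
    have e2 := Md.two (D.pi m a)
    calc a = a + (D.pi l a + D.pi l a) + (D.pi m a + D.pi m a) := by rw [e1, e2, add_zero, add_zero]
      _ = _ := by abel
  obtain ⟨b, hb, hbl⟩ : ∃ b, b = D.pi l a ∧ b.val ∈ Z l := ⟨_, rfl, D.pi_mem l a⟩
  obtain ⟨c, hc, hcm⟩ : ∃ c, c = D.pi m a ∧ c.val ∈ Z m := ⟨_, rfl, D.pi_mem m a⟩
  rw [← hb, ← hc] at ha
  rw [ha, mul_smul, mul_smul]
  simp only [smul_add]
  rw [hl, hm, D.X_other hlm.symm hbl, D.X_other hlm hcm, hl,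
    D.X_other hlm (D.X_mem hcm), D.X_other hlm.symm (D.X_mem hbl)]

theorem x_cube (l : ι) {v : G} (hv : v ∈ zc Q) :
    x l * (x l * (x l * v * (x l)⁻¹) * (x l)⁻¹) * (x l)⁻¹ = v :=
  congrArg Md.val (D.X_cube l (Md.mk v hv))

/-! ### the action of `S` -/

theorem SN : (S : Subgroup G) ≤ normalizer (zc Q : Set G) :=
  D.SQ.trans fun _ h => normalizer_le_normalizer_zc Q h

/-- the index of the factor `s (Z l) s⁻¹`. -/
noncomputable def sg (_ : DatD S Q Z x z) (s : G) (l : ι) : ι := by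
  classical
  exact if h : ∃ m, (∀ v ∈ Z l, s * v * s⁻¹ ∈ Z m) ∧
      ((∀ v ∈ zc Q, (s * x l * s⁻¹) * v * (s * x l * s⁻¹)⁻¹ = x m * v * (x m)⁻¹) ∨
        (∀ v ∈ zc Q, (s * x l * s⁻¹) * v * (s * x l * s⁻¹)⁻¹ = (x m)⁻¹ * v * x m)) then h.choose else l

theorem sg_spec {s : G} (hs : s ∈ (S : Subgroup G)) (l : ι) :
    (∀ v ∈ Z l, s * v * s⁻¹ ∈ Z (D.sg s l)) ∧
      ((∀ v ∈ zc Q, (s * x l * s⁻¹) * v * (s * x l * s⁻¹)⁻¹ = x (D.sg s l) * v * (x (D.sg s l))⁻¹) ∨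
        (∀ v ∈ zc Q, (s * x l * s⁻¹) * v * (s * x l * s⁻¹)⁻¹ = (x (D.sg s l))⁻¹ * v * x (D.sg s l))) := by
  have h := D.perm s hs l
  have : D.sg s l = h.choose := dif_pos h
  rw [this]
  exact h.choose_spec

theorem sg_eq {s : G} (hs : s ∈ (S : Subgroup G)) {l m : ι} {v : G} (hv : v ∈ Z l) (h1 : v ≠ 1)
    (h : s * v * s⁻¹ ∈ Z m) : D.sg s l = m := by
  by_contra hne
  have := D.disjZ hne ((D.sg_spec hs l).1 v hv) h
  exact h1 (by simpa using this)

theorem sg_eq' {s : G} (hs : s ∈ (S : Subgroup G)) {l m : ι} (h : ∀ v ∈ Z l, s * v * s⁻¹ ∈ Z m) :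
    D.sg s l = m := D.sg_eq hs (D.zm l) (D.z1 l) (h _ (D.zm l))

theorem sg_mul {s t : G} (hs : s ∈ (S : Subgroup G)) (ht : t ∈ (S : Subgroup G)) (l : ι) :
    D.sg (s * t) l = D.sg s (D.sg t l) := by
  refine D.sg_eq' (mul_mem hs ht) fun v hv => ?_
  have := (D.sg_spec hs _).1 _ ((D.sg_spec ht l).1 v hv)
  have h2 : s * t * v * (s * t)⁻¹ = s * (t * v * t⁻¹) * s⁻¹ := by group
  rwa [h2]

theorem sg_one (l : ι) : D.sg 1 l = l := D.sg_eq' (one_mem _) fun v hv => by simpa using hv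

theorem sg_inv {s : G} (hs : s ∈ (S : Subgroup G)) {l m : ι} (h : D.sg s l = m) : D.sg s⁻¹ m = l := by
  rw [← h, ← D.sg_mul (inv_mem hs) hs, inv_mul_cancel, D.sg_one]

theorem sg_inv_mem {s : G} (hs : s ∈ (S : Subgroup G)) {l : ι} {v : G} (hv : v ∈ Z (D.sg s l)) :
    s⁻¹ * v * s ∈ Z l := by
  have := (D.sg_spec (inv_mem hs) (D.sg s l)).1 v hv
  rwa [D.sg_inv hs rfl, inv_inv] at this

theorem mem_nor_iff [Finite G] {s : G} (hs : s ∈ (S : Subgroup G)) {l : ι} :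
    s ∈ normalizer (Z l : Set G) ↔ D.sg s l = l := by
  constructor
  · intro h
    exact D.sg_eq' hs fun v hv => conj_mem h hv
  · intro h
    refine mem_norm fun v hv => ?_
    have := (D.sg_spec hs l).1 v hv
    rwa [h] at this

theorem mem_S0_iff [Finite G] {s : G} (hs : s ∈ (S : Subgroup G)) :
    s ∈ S0 (S : Subgroup G) Z ↔ ∀ l, D.sg s l = l := by
  rw [mem_S0]
  exact ⟨fun h l => (D.mem_nor_iff hs).mp (h.2 l), fun h => ⟨hs, fun l => (D.mem_nor_iff hs).mpr (h l)⟩⟩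

/-- `s π_l = π_{s l} s`. -/
theorem pr_conj {s : G} (hs : s ∈ (S : Subgroup G)) (l : ι) {v : G} (hv : v ∈ zc Q) :
    s * pr (x l) v * s⁻¹ = pr (x (D.sg s l)) (s * v * s⁻¹) := by
  have hw : s * v * s⁻¹ ∈ zc Q := conj_mem (D.SN hs) hv
  have e1 : s * pr (x l) v * s⁻¹ = pr (s * x l * s⁻¹) (s * v * s⁻¹) := by
    unfold pr; group
  rw [e1]
  rcases (D.sg_spec hs l).2 with h | h
  · unfold pr
    rw [h _ hw, h _ (conj_mem (D.xN _) hw)]
  · unfold pr
    rw [h _ hw, h _ (conj_mem' (D.xN _) hw)]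
    -- `x⁻¹ + x⁻² = x² + x`
    generalize D.sg s l = m
    generalize s * v * s⁻¹ = w at *
    have h1 : x m * (x m * w * (x m)⁻¹) * (x m)⁻¹ ∈ zc Q := conj_mem (D.xN m) (conj_mem (D.xN m) hw)
    have h2 : x m * w * (x m)⁻¹ ∈ zc Q := conj_mem (D.xN m) hw
    have e2 : (x m)⁻¹ * w * x m = x m * (x m * w * (x m)⁻¹) * (x m)⁻¹ := by
      have h3 := D.x_cube m hw
      calc (x m)⁻¹ * w * x m =
          (x m)⁻¹ * (x m * (x m * (x m * w * (x m)⁻¹) * (x m)⁻¹) * (x m)⁻¹) * x m := by rw [h3]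
        _ = _ := by group
    have e3 : (x m)⁻¹ * ((x m)⁻¹ * w * x m) * x m = x m * w * (x m)⁻¹ := by
      rw [e2]; group
    rw [e3, e2]
    exact zc_comm Q _ h1 _ h2

/-- `z_l` is fixed by `N_S(Z_l)`. -/
theorem z_fix [Finite G] {s : G} (hs : s ∈ (S : Subgroup G)) {l : ι} (h : D.sg s l = l) :
    s * z l * s⁻¹ = z l := by
  have hV : IsPGroup 2 (Z l) := by
    intro v
    refine ⟨1, Subtype.ext ?_⟩
    have := D.sq v.2
    simpa [pow_two] using this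
  have hne : Z l ≠ ⊥ := by
    intro h0
    have := D.zm l
    rw [h0, mem_bot] at this
    exact D.z1 l this
  obtain ⟨v, hv, hv1, hv2⟩ := Half.exists_fixed (V := Z l)
    (T := (S : Subgroup G) ⊓ normalizer (Z l : Set G)) hV hne (S.2.to_le inf_le_left) inf_le_right
  have h3 := D.zfix l v hv (fun s hs h => hv2 s ⟨hs, mem_norm h⟩)
  rcases h3 with h3 | h3
  · exact absurd h3 hv1
  · rw [← h3]
    exact hv2 s ⟨hs, (D.mem_nor_iff hs).mpr h⟩

theorem z_conj [Finite G] {s : G} (hs : s ∈ (S : Subgroup G)) (l : ι) :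
    s * z l * s⁻¹ = z (D.sg s l) := by
  have h1 := D.zfix (D.sg s l) (s * z l * s⁻¹) ((D.sg_spec hs l).1 _ (D.zm l)) (fun t ht h => ?_)
  · rcases h1 with h1 | h1
    · exact absurd (by simpa using h1) (D.z1 l)
    · exact h1
  · have h2 : D.sg t (D.sg s l) = D.sg s l := D.sg_eq' ht h
    have h3 : s⁻¹ * t * s ∈ (S : Subgroup G) := mul_mem (mul_mem (inv_mem hs) ht) hs
    have h4 : D.sg (s⁻¹ * t * s) l = l := by
      rw [D.sg_mul (mul_mem (inv_mem hs) ht) hs, D.sg_mul (inv_mem hs) ht, h2, D.sg_inv hs rfl]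
    have h5 := D.z_fix h3 h4
    calc t * (s * z l * s⁻¹) * t⁻¹ = s * ((s⁻¹ * t * s) * z l * (s⁻¹ * t * s)⁻¹) * s⁻¹ := by group
      _ = s * z l * s⁻¹ := by rw [h5]

theorem z_inj {l m : ι} (h : z l = z m) : l = m := by
  by_contra hne
  exact D.z1 l (D.disjZ hne (D.zm l) (h ▸ D.zm m))

/-- an element of `S` centralising `z_l` normalises `Z_l`. -/
theorem sg_of_z [Finite G] {s : G} (hs : s ∈ (S : Subgroup G)) {l : ι} (h : s * z l = z l * s) :
    D.sg s l = l := by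
  apply D.z_inj
  rw [← D.z_conj hs l, h]; group

theorem sg_iff_z [Finite G] {s : G} (hs : s ∈ (S : Subgroup G)) {l : ι} :
    D.sg s l = l ↔ s ∈ centralizer ({z l} : Set G) := by
  rw [mem_centralizer_singleton_iff]
  constructor
  · intro h
    have := D.z_fix hs h
    exact (mul_inv_eq_iff_eq_mul.mp this)
  · exact fun h => D.sg_of_z hs h

/-! ### `E = Ω₁Z(S⁰)` -/

theorem Q_le_S0 : Q ≤ S0 (S : Subgroup G) Z := by
  intro q hq
  rw [mem_S0]
  refine ⟨D.QS hq, fun l => ?_⟩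
  rw [mem_normalizer_iff]
  have key : ∀ v ∈ Z l, q * v * q⁻¹ = v := fun v hv => by
    have : q * v = v * q := mem_centralizer_iff.mp (zc_le_centralizer Q (D.le l hv)) q hq
    rw [this]; group
  intro v
  constructor
  · intro hv; rwa [key v hv]
  · intro hv
    have h1 : q⁻¹ * (q * v * q⁻¹) * q = q * v * q⁻¹ := by
      have : q * (q * v * q⁻¹) = (q * v * q⁻¹) * q :=
        mem_centralizer_iff.mp (zc_le_centralizer Q (D.le l hv)) q hq
      rw [mul_assoc, ← this]; group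
    have h2 : v = q * v * q⁻¹ := by
      calc v = q⁻¹ * (q * v * q⁻¹) * q := by group
        _ = _ := h1
    rwa [h2]

theorem E_le : zc (S0 (S : Subgroup G) Z) ≤ zc Q := zc_le_of_le D.CQ D.Q_le_S0

theorem mem_E {v : G} : v ∈ zc (S0 (S : Subgroup G) Z) ↔
    v ∈ zc Q ∧ ∀ s ∈ S0 (S : Subgroup G) Z, s * v = v * s := mem_zc_iff_of_le D.CQ D.Q_le_S0

theorem z_mem_E [Finite G] (l : ι) : z l ∈ zc (S0 (S : Subgroup G) Z) := by
  rw [D.mem_E]
  refine ⟨D.le l (D.zm l), fun s hs => ?_⟩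
  have h1 := (D.mem_S0_iff (Dat.S0_le hs)).mp hs l
  have := (D.sg_iff_z (Dat.S0_le hs)).mp h1
  rw [mem_centralizer_singleton_iff] at this
  exact this

theorem S_le_nor_S0 [Finite G] : (S : Subgroup G) ≤ normalizer (S0 (S : Subgroup G) Z : Set G) := by
  intro s hs
  refine mem_norm fun t ht => ?_
  have ht1 := Dat.S0_le ht
  have h1 : s * t * s⁻¹ ∈ (S : Subgroup G) := mul_mem (mul_mem hs ht1) (inv_mem hs)
  rw [D.mem_S0_iff h1]
  intro l
  rw [D.sg_mul (mul_mem hs ht1) (inv_mem hs), D.sg_mul hs ht1, (D.mem_S0_iff ht1).mp ht,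
    ← D.sg_mul hs (inv_mem hs), mul_inv_cancel, D.sg_one]

theorem S_le_nor_E [Finite G] : (S : Subgroup G) ≤ normalizer (zc (S0 (S : Subgroup G) Z) : Set G) :=
  fun _ hs => normalizer_le_normalizer_zc _ (D.S_le_nor_S0 hs)

end basics

end DatD

end Cfsg.Agent.Omega.IId.ThmCD

end

section


/-!
# THEOREM C with `D`, `q = 2` (bb OMEGA 19448): (A1) and (A3)

`DatD.mem_S_of` : an element of `O₂(C_G(z o))` centralising all `z l` lies in `S`.
`DatD.chain` : an element `u` of `O₂(C_G(z o))` which normalises `F_l = Z l ∩ Ω₁Z(S⁰)` for all `l ≠ o` lies in `S`.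
-/

set_option autoImplicit false
set_option linter.unusedSectionVars false

namespace Cfsg.Agent.Omega.IId.ThmCD

open Subgroup Cfsg Cfsg.Agent.MinSimple.VModule Cfsg.Agent.Omega.ThmC
open Cfsg.Agent.ZN (zc o2)
open Cfsg.Agent.Omega.IITwo.Count (conj_mem conj_mem' mem_norm)

universe u

variable {G : Type u} [Group G]

/-- a 2-group normalised by a Sylow 2-subgroup lies in it. -/
theorem le_syl (S : Sylow 2 G) {X : Subgroup G} (hX : IsPGroup 2 X)
    (hn : (S : Subgroup G) ≤ normalizer (X : Set G)) : X ≤ (S : Subgroup G) := by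
  have h : IsPGroup 2 ↥((S : Subgroup G) ⊔ X) := S.2.to_sup_of_normal_right' hX hn
  exact le_sup_right.trans (S.3 h le_sup_left).le

/-- `C_G(z l : l ∈ Φ)`. -/
def CS {ι : Type} (z : ι → G) (Φ : Set ι) : Subgroup G := centralizer (z '' Φ)

theorem mem_CS {ι : Type} {z : ι → G} {Φ : Set ι} {g : G} : g ∈ CS z Φ ↔ ∀ l ∈ Φ, g * z l = z l * g := by
  rw [CS, mem_centralizer_iff]
  constructor
  · intro h l hl
    exact (h _ ⟨l, hl, rfl⟩).symm
  · rintro h _ ⟨l, hl, rfl⟩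
    exact (h l hl).symm

theorem CS_le {ι : Type} {z : ι → G} {Φ : Set ι} {o : ι} (ho : o ∈ Φ) : CS z Φ ≤ centralizer ({z o} : Set G) :=
  centralizer_le (Set.singleton_subset_iff.2 ⟨o, ho, rfl⟩)

/-- `O₂(C(z o)) ∩ C_G(z l : l ∈ Φ) ≤ O₂(C_G(z l : l ∈ Φ))` for `o ∈ Φ`. -/
theorem WW_inf_le {ι : Type} {z : ι → G} {Φ : Set ι} {o : ι} (ho : o ∈ Φ) :
    WW (z o) ⊓ CS z Φ ≤ o2 (CS z Φ) := by
  refine le_o2 inf_le_right ((WW_two (z o)).to_le inf_le_left) fun g hg => ?_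
  have h1 : g ∈ normalizer (WW (z o) : Set G) := le_nor_WW _ (CS_le ho hg)
  have h2 : g ∈ normalizer (CS z Φ : Set G) := le_normalizer hg
  exact Half.le_normalizer_inf (K := zpowers g) (zpowers_le.2 h1) (zpowers_le.2 h2) (mem_zpowers g)

namespace DatD

variable {S : Sylow 2 G} {Q : Subgroup G} {ι : Type} {Z : ι → Subgroup G} {x z : ι → G}

section
variable [Finite G] (D : DatD S Q Z x z)
include D

/-- elements of `S` which stabilise `Φ` normalise `C_G(z l : l ∈ Φ)`. -/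
theorem nor_CS {Φ : Set ι} {s : G} (hs : s ∈ (S : Subgroup G)) (h : ∀ l ∈ Φ, D.sg s⁻¹ l ∈ Φ) :
    s ∈ normalizer (CS z Φ : Set G) := by
  refine mem_norm fun g hg => ?_
  rw [mem_CS] at hg ⊢
  intro l hl
  have h1 := hg _ (h l hl)
  have h2 : s * z (D.sg s⁻¹ l) * s⁻¹ = z l := by
    rw [D.z_conj hs, ← D.sg_mul hs (inv_mem hs), mul_inv_cancel, D.sg_one]
  rw [← h2]
  calc s * g * s⁻¹ * (s * z (D.sg s⁻¹ l) * s⁻¹) = s * (g * z (D.sg s⁻¹ l)) * s⁻¹ := by group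
    _ = s * (z (D.sg s⁻¹ l) * g) * s⁻¹ := by rw [h1]
    _ = _ := by group

/-- `O₂(C_G(z l : all l)) ≤ S`. -/
theorem o2_CS_le : o2 (CS z Set.univ) ≤ (S : Subgroup G) :=
  le_syl S (o2_isPGroup _) fun _ hs =>
    Cfsg.Agent.ZN.normalizer_le_normalizer_o2 _ (D.nor_CS hs fun _ _ => Set.mem_univ _)

/-- **(A1)** -/
theorem mem_S_of {o : ι} {w : G} (hw : w ∈ WW (z o)) (h : ∀ l, w * z l = z l * w) : w ∈ (S : Subgroup G) :=
  D.o2_CS_le (WW_inf_le (Set.mem_univ o) (mem_inf.2 ⟨hw, mem_CS.2 fun l _ => h l⟩))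

/-- **(A3)** -/
theorem chain {o : ι} {u : G} (hu : u ∈ WW (z o))
    (hn : ∀ l, l ≠ o → u ∈ normalizer (Z l ⊓ zc (S0 (S : Subgroup G) Z) : Subgroup G)) :
    u ∈ (S : Subgroup G) := by
  set R0 : Subgroup G := (S : Subgroup G) ⊓ centralizer ({z o} : Set G) with hR0
  let Pr : Subgroup G → Prop := fun R => R0 ≤ R ∧ R ≤ (S : Subgroup G) ∧
    ∀ r ∈ R, u * z (D.sg r o) = z (D.sg r o) * u
  have h0 : Pr R0 := by
    refine ⟨le_rfl, inf_le_left, fun r hr => ?_⟩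
    rw [(D.sg_iff_z hr.1).2 hr.2]
    exact mem_cs.1 (WW_le _ hu)
  obtain ⟨R, ⟨hRm, hmax⟩⟩ := (Set.toFinite {R | Pr R}).exists_maximal ⟨R0, h0⟩
  obtain ⟨hR1, hR2, hR3⟩ : Pr R := hRm
  -- it suffices that `S ≤ R`
  have key : (S : Subgroup G) ≤ R := by
    by_contra hne
    obtain ⟨n, hnS, hnR, hnn⟩ := exists_normalizer S.2 hR2 hne
    have hR' : Pr ((S : Subgroup G) ⊓ normalizer (R : Set G)) := by
      refine ⟨le_inf inf_le_left (hR1.trans le_normalizer), inf_le_left, ?_⟩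
      rintro r' ⟨hr'S, hr'n⟩
      set l := D.sg r' o with hl
      by_cases hex : ∃ r ∈ R, D.sg r o = l
      · obtain ⟨r, hr, hrl⟩ := hex
        rw [← hrl]
        exact hR3 r hr
      push Not at hex
      have hlo : l ≠ o := fun h => hex 1 (one_mem _) (by rw [D.sg_one, h])
      set Φ : Set ι := {m | ∃ r ∈ R, D.sg r o = m} with hΦ
      have hoΦ : o ∈ Φ := ⟨1, one_mem _, D.sg_one o⟩
      -- `u ∈ O₂(C_G(z m : m ∈ Φ))`
      have hu2 : u ∈ o2 (CS z Φ) := by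
        refine WW_inf_le hoΦ (mem_inf.2 ⟨hu, mem_CS.2 ?_⟩)
        rintro m ⟨r, hr, rfl⟩
        exact hR3 r hr
      -- `T_l ≤ R`
      have hT : ∀ t ∈ (S : Subgroup G), D.sg t l = l → t ∈ R := by
        intro t ht htl
        have h1 : r'⁻¹ * t * r' ∈ (S : Subgroup G) := mul_mem (mul_mem (inv_mem hr'S) ht) hr'S
        have h2 : D.sg (r'⁻¹ * t * r') o = o := by
          rw [D.sg_mul (mul_mem (inv_mem hr'S) ht) hr'S, D.sg_mul (inv_mem hr'S) ht, ← hl, htl,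
            D.sg_inv hr'S rfl]
        have h3 : r'⁻¹ * t * r' ∈ R := hR1 (mem_inf.2 ⟨h1, (D.sg_iff_z h1).1 h2⟩)
        have h4 := conj_mem hr'n h3
        have e : r' * (r'⁻¹ * t * r') * r'⁻¹ = t := by group
        rwa [e] at h4
      set F : Subgroup G := Z l ⊓ zc (S0 (S : Subgroup G) Z) with hF
      set T : Subgroup G := (S : Subgroup G) ⊓ centralizer ({z l} : Set G) with hTd
      have hT' : ∀ t ∈ T, D.sg t l = l := fun t ht => (D.sg_iff_z ht.1).2 ht.2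
      set A : Subgroup G := o2 (CS z Φ) ⊓ normalizer (F : Set G) with hA
      have hA2 : IsPGroup 2 A := (o2_isPGroup _).to_le inf_le_left
      have hTF : T ≤ normalizer (F : Set G) := by
        intro t ht
        refine Half.le_normalizer_inf (K := zpowers t) (zpowers_le.2 ?_) (zpowers_le.2 ?_) (mem_zpowers t)
        · exact (D.mem_nor_iff ht.1).2 (hT' t ht)
        · exact D.S_le_nor_E ht.1
      have hTA : T ≤ normalizer (A : Set G) := by
        intro t ht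
        refine Half.le_normalizer_inf (K := zpowers t) (zpowers_le.2 ?_) (zpowers_le.2 ?_) (mem_zpowers t)
        · refine Cfsg.Agent.ZN.normalizer_le_normalizer_o2 _ (D.nor_CS ht.1 ?_)
          rintro m ⟨r, hr, rfl⟩
          have htR := hT t ht.1 (hT' t ht)
          exact ⟨t⁻¹ * r, mul_mem (inv_mem htR) hr, D.sg_mul (inv_mem ht.1) (hR2 hr) o⟩
        · exact le_normalizer (hTF ht)
      have hP : IsPGroup 2 ↥(T ⊔ A) := (S.2.to_le inf_le_left : IsPGroup 2 T).to_sup_of_normal_right' hA2 hTA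
      have hFp : IsPGroup 2 F := by
        intro v
        refine ⟨1, Subtype.ext ?_⟩
        have := D.sq v.2.1
        simpa [pow_two] using this
      have hFne : F ≠ ⊥ := by
        intro h
        have h1 : z l ∈ F := mem_inf.2 ⟨D.zm l, D.z_mem_E l⟩
        rw [h, mem_bot] at h1
        exact D.z1 l h1
      obtain ⟨v, hv, hv1, hv2⟩ := Half.exists_fixed hFp hFne hP (sup_le hTF inf_le_right)
      have hvz : v = z l := by
        refine (D.zfix l v hv.1 fun s hs h => ?_).resolve_left hv1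
        refine hv2 s (mem_sup_left (mem_inf.2 ⟨hs, (D.sg_iff_z hs).1 (D.sg_eq' hs h)⟩))
      have h5 := hv2 u (mem_sup_right (mem_inf.2 ⟨hu2, hn l hlo⟩))
      rw [hvz] at h5
      exact mul_inv_eq_iff_eq_mul.1 h5
    have h6 := hmax hR' (le_inf hR2 le_normalizer)
    exact hnR (h6 (mem_inf.2 ⟨hnS, hnn⟩))
  refine D.mem_S_of hu fun l => ?_
  obtain ⟨s, hs, hsl⟩ := D.trans o l
  have := hR3 s (key hs)
  rwa [D.sg_eq' hs hsl] at this

end

end DatD

end Cfsg.Agent.Omega.IId.ThmCD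

end

section


/-!
# THEOREM C, `q = 2`, step (2): the weights

`Dat.wdat` : `W'/K` acting on `Ω₁Z(KQ)` satisfies `TwoW.WDat`.
-/

set_option autoImplicit false
set_option linter.unusedSectionVars false

namespace Cfsg.Agent.Omega.ThmC

open scoped Pointwise
open Subgroup Cfsg Cfsg.Agent.MinSimple.VModule
open Cfsg.Agent.ZN (zc o2)
open Cfsg.Agent.Omega.IITwo.Count (conj_mem conj_mem' mem_norm)

universe u

variable {G : Type u} [Group G]

namespace Dat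

variable {S : Sylow 2 G} {Q : Subgroup G} {ι : Type} {Z : ι → Subgroup G} {x z : ι → G}

section
variable [Finite G] [Finite ι] (D : Dat S Q Z x z) {o : ι}

open Classical in
/-- `x l` on `Ω₁Z(KQ)`. -/
noncomputable def xh (D : Dat S Q Z x z) (o l : ι) : ↥(NG (KQ S Q (z o))) :=
  if h : l ≠ o then phi (D.x_nor_ZK h) else 1

theorem xh_eq {l : ι} (h : l ≠ o) : D.xh o l = phi (D.x_nor_ZK h) := dif_pos h

/-- the projections on `Ω₁Z(KQ)`. -/
abbrev pK (D : Dat S Q Z x z) (o l : ι) : Md (KQ S Q (z o)) →+ Md (KQ S Q (z o)) := D.pX D.ZK_le D.pr_ZK l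

include D in
theorem pr_comm_S0 {s : G} (hs : s ∈ S0 (S : Subgroup G) Z) (l : ι) {v : G} (hv : v ∈ zc Q) :
    s * pr (x l) v * s⁻¹ = pr (x l) (s * v * s⁻¹) := by
  have h2 := D.pr_conj (S0_le hs) l hv
  rwa [(D.mem_S0_iff (S0_le hs)).mp hs l] at h2

theorem Ux {u : ↥(NG (KQ S Q (z o)))} (hu : u ∈ img (KQ S Q (z o)) (S0 (S : Subgroup G) Z)) {l : ι}
    (hl : l ≠ o) : u * D.xh o l * u⁻¹ = D.xh o l ∨ u * D.xh o l * u⁻¹ = (D.xh o l)⁻¹ := by
  obtain ⟨s, hsN, hs, rfl⟩ := mem_img.mp hu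
  rw [D.xh_eq hl, phi_mul, phi_inv, phi_mul, phi_inv, phi_eq_iff, phi_eq_iff]
  have h1 := (D.sg_spec (S0_le hs) l).2
  rw [(D.mem_S0_iff (S0_le hs)).mp hs l] at h1
  rcases h1 with h1 | h1
  · exact Or.inl fun v hv => h1 v (D.ZK_le hv)
  · exact Or.inr fun v hv => by rw [inv_inv]; exact h1 v (D.ZK_le hv)

/-- the elements of `W'` commuting with all `x l`, `l ≠ o`, on `Ω₁Z(KQ)`. -/
def CX (S : Sylow 2 G) (Q : Subgroup G) (x z : ι → G) (o : ι) : Subgroup G where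
  carrier := {g | g ∈ Wp S Q (z o) ∧ ∀ l, l ≠ o → ∀ v ∈ zc (KQ S Q (z o)),
    g * (x l * v * (x l)⁻¹) * g⁻¹ = x l * (g * v * g⁻¹) * (x l)⁻¹}
  one_mem' := ⟨one_mem _, fun l _ v _ => by group⟩
  mul_mem' := by
    rintro a b ⟨ha1, ha2⟩ ⟨hb1, hb2⟩
    refine ⟨mul_mem ha1 hb1, fun l hl v hv => ?_⟩
    have h1 := hb2 l hl v hv
    have h2 := ha2 l hl _ (conj_mem (Wp_nor_ZK hb1) hv)
    calc a * b * (x l * v * (x l)⁻¹) * (a * b)⁻¹ = a * (b * (x l * v * (x l)⁻¹) * b⁻¹) * a⁻¹ := by group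
      _ = x l * (a * (b * v * b⁻¹) * a⁻¹) * (x l)⁻¹ := by rw [h1, h2]
      _ = _ := by group
  inv_mem' := by
    rintro a ⟨ha1, ha2⟩
    refine ⟨inv_mem ha1, fun l hl v hv => ?_⟩
    have h2 := ha2 l hl _ (conj_mem (Wp_nor_ZK (inv_mem ha1)) hv)
    calc a⁻¹ * (x l * v * (x l)⁻¹) * a⁻¹⁻¹ =
        a⁻¹ * (x l * (a * (a⁻¹ * v * a⁻¹⁻¹) * a⁻¹) * (x l)⁻¹) * a := by group
      _ = a⁻¹ * (a * (x l * (a⁻¹ * v * a⁻¹⁻¹) * (x l)⁻¹) * a⁻¹) * a := by rw [h2]
      _ = _ := by group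

theorem mem_CX {g : G} : g ∈ CX S Q x z o ↔ g ∈ Wp S Q (z o) ∧ ∀ l, l ≠ o → ∀ v ∈ zc (KQ S Q (z o)),
    g * (x l * v * (x l)⁻¹) * g⁻¹ = x l * (g * v * g⁻¹) * (x l)⁻¹ := Iff.rfl

theorem mem_CX' {g : G} (hg : g ∈ Wp S Q (z o)) :
    g ∈ CX S Q x z o ↔ ∀ l, l ≠ o → phi (Wp_nor_ZK hg) * D.xh o l = D.xh o l * phi (Wp_nor_ZK hg) := by
  rw [mem_CX]
  constructor
  · rintro ⟨-, h⟩ l hl
    rw [D.xh_eq hl, phi_mul, phi_mul, phi_eq_iff]
    intro v hv
    calc g * x l * v * (g * x l)⁻¹ = g * (x l * v * (x l)⁻¹) * g⁻¹ := by group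
      _ = _ := h l hl v hv
      _ = _ := by group
  · intro h
    refine ⟨hg, fun l hl v hv => ?_⟩
    have h1 := h l hl
    rw [D.xh_eq hl, phi_mul, phi_mul, phi_eq_iff] at h1
    calc g * (x l * v * (x l)⁻¹) * g⁻¹ = g * x l * v * (g * x l)⁻¹ := by group
      _ = _ := h1 v hv
      _ = _ := by group

include D in
theorem S0_nor_CX : S0 (S : Subgroup G) Z ≤ normalizer (CX S Q x z o : Set G) := by
  intro s hs
  refine mem_norm fun g hg => ?_
  have hgW : g ∈ Wp S Q (z o) := (mem_CX.mp hg).1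
  have hgN := Wp_nor_ZK hgW
  have hsN := D.S0_nor_ZK (o := o) hs
  rw [D.mem_CX' hgW] at hg
  rw [D.mem_CX' (D.S0_conj_Wp hs hgW)]
  intro l hl
  have h1 : phi (Wp_nor_ZK (D.S0_conj_Wp hs hgW)) = phi hsN * phi hgN * (phi hsN)⁻¹ := by
    rw [phi_mul, phi_inv, phi_mul]
  rw [h1]
  have hc : Commute (phi hgN) (D.xh o l) := hg l hl
  have hu : (phi hsN)⁻¹ ∈ img (KQ S Q (z o)) (S0 (S : Subgroup G) Z) := inv_mem (phi_mem_img hsN hs)
  have h2 : Commute (phi hgN) ((phi hsN)⁻¹ * D.xh o l * (phi hsN)⁻¹⁻¹) := by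
    rcases D.Ux hu hl with h | h
    · rw [h]; exact hc
    · rw [h]; exact hc.inv_right
  have h3 := (Commute.conj_iff (phi hsN)).mpr h2
  have h4 : phi hsN * ((phi hsN)⁻¹ * D.xh o l * (phi hsN)⁻¹⁻¹) * (phi hsN)⁻¹ = D.xh o l := by group
  rw [h4] at h3
  exact h3

include D in
/-- `w ∈ C_{W'}(D)` acts trivially on `Ω₁Z(KQ)`. -/
theorem CX_le [Fintype ι] : CX S Q x z o ≤ S0 (S : Subgroup G) Z := by
  by_contra hne
  have hA : IsPGroup 2 ↥(S0 (S : Subgroup G) Z ⊔ CX S Q x z o) :=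
    (S.2.to_le S0_le : IsPGroup 2 ↥(S0 (S : Subgroup G) Z)).to_sup_of_normal_right'
      ((WW_two (z o)).to_le (fun g hg => Wp_le (mem_CX.mp hg).1)) D.S0_nor_CX
  obtain ⟨n, hn, hn1, hn2⟩ := exists_normalizer hA le_sup_left (fun h => hne (le_sup_right.trans h))
  have h1 : n ∈ (S0 (S : Subgroup G) Z : Set G) * (CX S Q x z o : Set G) := by
    rw [← coe_mul_of_left_le_normalizer_right _ _ D.S0_nor_CX]
    exact hn
  obtain ⟨s, hs, c, hc, rfl⟩ := h1
  have hcN : c ∈ normalizer (S0 (S : Subgroup G) Z : Set G) := by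
    have := mul_mem (inv_mem (le_normalizer hs)) hn2
    simpa using this
  have hcS : c ∉ S0 (S : Subgroup G) Z := fun h => hn1 (mul_mem hs h)
  apply hcS
  have hcE : c ∈ normalizer (zc (S0 (S : Subgroup G) Z) : Set G) := normalizer_le_normalizer_zc _ hcN
  have hcW : c ∈ Wp S Q (z o) := (mem_CX.mp hc).1
  have hcK := Wp_nor_ZK hcW
  have hc2 : ∃ n : ℕ, c ^ 2 ^ n = 1 := by
    obtain ⟨n, hn⟩ := WW_two (z o) ⟨c, Wp_le hcW⟩
    exact ⟨n, congrArg Subtype.val hn⟩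
  refine D.mem_S0_of hc2 ?_ hcN
  rw [← phi_eq_one_iff hcE]
  have hcomm : ∀ l, l ≠ o → ∀ v ∈ zc (KQ S Q (z o)), c * pr (x l) v * c⁻¹ = pr (x l) (c * v * c⁻¹) := by
    intro l hl v hv
    have h1 := (mem_CX.mp hc).2 l hl
    have h2 := h1 v hv
    have h3 := h1 _ (conj_mem (D.x_nor_ZK hl) hv)
    unfold pr
    rw [← h2, ← h3]; group
  obtain ⟨n, hn⟩ := hc2
  refine TwoN.eq_one D.ndat ⟨n, ?_⟩ ?_
  · rw [pow_phi, phi_eq_one_iff, hn]; exact one_mem _
  · have hl0 : ∀ l, l ≠ o → ∀ a, phi hcE • D.pE l a = D.pE l (phi hcE • a) := by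
      intro l hl a
      apply Md.ext
      rw [val_phi, val_pX, val_pX, val_phi]
      exact hcomm l hl _ (D.E_le_ZK a.val_mem)
    intro l a
    rcases eq_or_ne l o with rfl | hl
    · classical
      have h1 := D.pX_sum (hX := D.E_le) (h := D.pr_E) a
      have h2 := D.pX_sum (hX := D.E_le) (h := D.pr_E) (phi hcE • a)
      rw [← Finset.add_sum_erase _ _ (Finset.mem_univ l)] at h1 h2
      have h3 := congrArg (fun b => phi hcE • b) h1
      simp only [smul_add, Finset.smul_sum] at h3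
      have h4 : ∑ m ∈ Finset.univ.erase l, phi hcE • D.pE m a = ∑ m ∈ Finset.univ.erase l, D.pE m (phi hcE • a) :=
        Finset.sum_congr rfl fun m hm => hl0 m (Finset.ne_of_mem_erase hm) a
      rw [h4] at h3
      exact add_right_cancel (h3.trans h2.symm)
    · exact hl0 l hl a

theorem wdat [Fintype ι] : TwoW.WDat o (D.pK o) (D.xh o) (img (KQ S Q (z o)) (Wp S Q (z o)))
    (img (KQ S Q (z o)) (S0 (S : Subgroup G) Z)) where
  two := Md.two
  faith _ h := NG_faith h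
  idem l a := D.pX_idem l a
  orth l m h a := D.pX_orth h a
  sum a := D.pX_sum a
  px := by
    intro l hl a
    rw [D.xh_eq hl]
    exact Md.ext rfl
  xt := by
    intro l hl m hm a
    rw [D.xh_eq hl]
    apply Md.ext
    rw [val_phi]
    exact D.triv l m hm.symm _ (D.pX_mem m a)
  H2 := img_isPGroup ((WW_two (z o)).to_le Wp_le)
  U2 := img_isPGroup (S.2.to_le S0_le)
  xH := by
    intro l hl h hh
    obtain ⟨w, hwN, hw, rfl⟩ := mem_img.mp hh
    rw [D.xh_eq hl, phi_mul, phi_inv, phi_mul]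
    exact phi_mem_img _ (D.x_conj_Wp hl hw)
  UH := by
    intro u hu h hh
    obtain ⟨w, hwN, hw, rfl⟩ := mem_img.mp hh
    obtain ⟨s, hsN, hs, rfl⟩ := mem_img.mp hu
    rw [phi_mul, phi_inv, phi_mul]
    exact phi_mem_img _ (D.S0_conj_Wp hs hw)
  Ux := fun u hu l hl => D.Ux hu hl
  Uπ := by
    intro u hu l a
    obtain ⟨s, hsN, hs, rfl⟩ := mem_img.mp hu
    apply Md.ext
    rw [val_phi, val_pX, val_pX, val_phi]
    exact D.pr_comm_S0 hs l (D.ZK_le a.val_mem)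
  CH := by
    intro h hh hc
    obtain ⟨w, hwN, hw, rfl⟩ := mem_img.mp hh
    have h1 : w ∈ CX S Q x z o := (D.mem_CX' hw).mpr hc
    rw [phi_eq_one_iff]
    exact D.K_le_C (mem_inf.mpr ⟨Wp_le hw, S0_le (D.CX_le h1)⟩)

include D in
/-- an element of `W'` commuting with `S⁰` on `Ω₁Z(KQ)` normalises `S⁰`. -/
theorem nor_S0_of {w : G} (hw : w ∈ Wp S Q (z o))
    (h : ∀ u : ↥(NG (KQ S Q (z o))), u ∈ img (KQ S Q (z o)) (S0 (S : Subgroup G) Z) →
      u * phi (Wp_nor_ZK hw) * u⁻¹ = phi (Wp_nor_ZK hw)) :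
    w ∈ normalizer (S0 (S : Subgroup G) Z : Set G) := by
  refine mem_norm fun s hs => ?_
  have hsN := D.S0_nor_ZK (o := o) hs
  have h1 := h _ (phi_mem_img hsN hs)
  have h2 : w * s * w⁻¹ * s⁻¹ ∈ Wp S Q (z o) := by
    have := mul_mem hw (D.S0_conj_Wp hs (inv_mem hw))
    have e : w * (s * w⁻¹ * s⁻¹) = w * s * w⁻¹ * s⁻¹ := by group
    rwa [e] at this
  have h3 : w * s * w⁻¹ * s⁻¹ ∈ centralizer (zc (KQ S Q (z o)) : Set G) := by
    rw [← phi_eq_one_iff (Wp_nor_ZK h2)]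
    have h4 : phi (Wp_nor_ZK h2) = phi (Wp_nor_ZK hw) * (phi hsN * phi (Wp_nor_ZK hw) * (phi hsN)⁻¹)⁻¹ := by
      rw [phi_mul, phi_inv, phi_mul, phi_inv, phi_mul]
      rw [phi_eq_iff]
      intro v _
      group
    rw [h4, h1, mul_inv_cancel]
  have h5 := D.inf_le_S0 (D.Wp_faith h2 h3)
  have h6 : w * s * w⁻¹ = (w * s * w⁻¹ * s⁻¹) * s := by group
  rw [h6]
  exact mul_mem h5 hs

end

end Dat

end Cfsg.Agent.Omega.ThmC

end

section


/-!
# THEOREM C with `D`, `q = 2` (bb OMEGA 19448), (A2): `K = W ∩ S`, `W = O₂(C_G(z o))`, and its action on `Ω₁Z(KQ)`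
(copy of `ThmC/TwoK.lean` for `DatD`)
-/

set_option autoImplicit false
set_option linter.unusedSectionVars false

namespace Cfsg.Agent.Omega.IId.ThmCD

open scoped Pointwise
open Subgroup Cfsg Cfsg.Agent.MinSimple.VModule Cfsg.Agent.Omega.ThmC
open Cfsg.Agent.ZN (zc o2)
open Cfsg.Agent.Omega.IITwo.Count (conj_mem conj_mem' mem_norm)
open Cfsg.Agent.Omega.ThmC.Dat (KQ Wp Wp_le Wp_nor_ZK)

universe u

variable {G : Type u} [Group G]

namespace DatD

variable {S : Sylow 2 G} {Q : Subgroup G} {ι : Type} {Z : ι → Subgroup G} {x z : ι → G}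

section
variable [Finite G] [Finite ι] (D : DatD S Q Z x z) {o : ι}

include D in
theorem x_mem_C {l : ι} (h : l ≠ o) : x l ∈ centralizer ({z o} : Set G) :=
  mem_cs'.mpr (D.triv l o h _ (D.zm o))

include D in
theorem S0_le_C : S0 (S : Subgroup G) Z ≤ centralizer ({z o} : Set G) := fun s hs =>
  mem_cs.mpr ((D.mem_E.mp (D.z_mem_E o)).2 s hs)

include D in
theorem Q_le_C : Q ≤ centralizer ({z o} : Set G) := D.Q_le_S0.trans D.S0_le_C

include D in
/-- `w ∈ W ∩ S` commutes with `x l`, `l ≠ o`, on `Ω₁Z(Q)`. -/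
theorem comm_x {w : G} (hw : w ∈ WW (z o)) (hs : w ∈ (S : Subgroup G)) {l : ι} (hl : l ≠ o) :
    Md.cjE (D.SN hs) * D.X l = D.X l * Md.cjE (D.SN hs) := by
  set A : MulAut ↥(zc Q) := Md.cjE (D.SN hs) with hA
  -- `A X A⁻¹`
  have h1 : A * D.X l * A⁻¹ = D.X (D.sg w l) ∨ A * D.X l * A⁻¹ = (D.X (D.sg w l))⁻¹ := by
    have hval : ∀ a : Md Q, ((A * D.X l * A⁻¹) • a).val = (w * x l * w⁻¹) * a.val * (w * x l * w⁻¹)⁻¹ := by
      intro a
      have h0 : A • A⁻¹ • a = a := smul_inv_smul _ _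
      have h2 : (A⁻¹ • a).val = w⁻¹ * a.val * w := by
        have h3 : w * (A⁻¹ • a).val * w⁻¹ = a.val := congrArg Md.val h0
        rw [← h3]
        generalize (A⁻¹ • a).val = b
        group
      have h4 : ((A * D.X l * A⁻¹) • a).val = w * (x l * (A⁻¹ • a).val * (x l)⁻¹) * w⁻¹ := by
        rw [mul_smul, mul_smul]; rfl
      rw [h4, h2]
      group
    rcases (D.sg_spec hs l).2 with h | h
    · left
      apply Md.ext_smul
      intro a
      exact Md.ext (by rw [hval, h _ a.val_mem, val_X])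
    · right
      apply Md.ext_smul
      intro a
      apply Md.ext
      rw [hval, h _ a.val_mem]
      have h0 : D.X (D.sg w l) • (D.X (D.sg w l))⁻¹ • a = a := smul_inv_smul _ _
      have h3 : x (D.sg w l) * ((D.X (D.sg w l))⁻¹ • a).val * (x (D.sg w l))⁻¹ = a.val := congrArg Md.val h0
      rw [← h3]
      generalize ((D.X (D.sg w l))⁻¹ • a).val = b
      group
  have hcube : ∀ m, (D.X m) ^ 3 = 1 := fun m => Md.faith (fun a => by
    rw [pow_succ, pow_two, mul_smul, mul_smul]; exact D.X_cube m a)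
  -- `C = [X⁻¹, A]`
  have hC3 : ((D.X l)⁻¹ * (A * D.X l * A⁻¹)) ^ 3 = 1 := by
    rcases h1 with h | h
    · rw [h]
      have hc0 : Commute (D.X l) (D.X (D.sg w l)) := D.X_comm l _
      have hc : Commute (D.X l)⁻¹ (D.X (D.sg w l)) := hc0.inv_left
      rw [hc.mul_pow, inv_pow, hcube, hcube, inv_one, one_mul]
    · rw [h]
      have hc0 : Commute (D.X l) (D.X (D.sg w l)) := D.X_comm l _
      have hc : Commute (D.X l)⁻¹ (D.X (D.sg w l))⁻¹ := hc0.inv_left.inv_right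
      rw [hc.mul_pow, inv_pow, inv_pow, hcube, hcube, inv_one, one_mul]
  have hwl : (x l)⁻¹ * w * x l ∈ WW (z o) := conj_mem' (le_nor_WW _ (D.x_mem_C hl)) hw
  have hc : (x l)⁻¹ * w * x l * w⁻¹ ∈ WW (z o) := mul_mem hwl (inv_mem hw)
  obtain ⟨n, hn⟩ := WW_two (z o) ⟨_, hc⟩
  have hn' : ((x l)⁻¹ * w * x l * w⁻¹) ^ 2 ^ n = 1 := congrArg Subtype.val hn
  have hcN : (x l)⁻¹ * w * x l * w⁻¹ ∈ normalizer (zc Q : Set G) :=
    mul_mem (mul_mem (mul_mem (inv_mem (D.xN l)) (D.SN hs)) (D.xN l)) (inv_mem (D.SN hs))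
  have hCe : (D.X l)⁻¹ * (A * D.X l * A⁻¹) = Md.cjE hcN := by
    have e1 : (⟨(x l)⁻¹ * w * x l * w⁻¹, hcN⟩ : normalizer (zc Q : Set G)) =
        (⟨x l, D.xN l⟩ : normalizer (zc Q : Set G))⁻¹ * (⟨w, D.SN hs⟩ * ⟨x l, D.xN l⟩ * ⟨w, D.SN hs⟩⁻¹) := by
      apply Subtype.ext
      simp [mul_assoc]
    have e2 := congrArg (zc Q).normalizerMonoidHom e1
    simp only [map_mul, map_inv] at e2
    exact e2.symm
  have hCn : ((D.X l)⁻¹ * (A * D.X l * A⁻¹)) ^ 2 ^ n = 1 := by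
    rw [hCe]
    have e1 : (⟨(x l)⁻¹ * w * x l * w⁻¹, hcN⟩ : normalizer (zc Q : Set G)) ^ 2 ^ n = 1 :=
      Subtype.ext (by simpa using hn')
    have e2 := congrArg (zc Q).normalizerMonoidHom e1
    rw [map_pow, map_one] at e2
    exact e2
  have h4 : (D.X l)⁻¹ * (A * D.X l * A⁻¹) = 1 := by
    have h5 : orderOf ((D.X l)⁻¹ * (A * D.X l * A⁻¹)) ∣ Nat.gcd 3 (2 ^ n) :=
      Nat.dvd_gcd (orderOf_dvd_of_pow_eq_one hC3) (orderOf_dvd_of_pow_eq_one hCn)
    have h6 : Nat.gcd 3 (2 ^ n) = 1 := Nat.Coprime.pow_right n (by decide)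
    rw [h6, Nat.dvd_one, orderOf_eq_one_iff] at h5
    exact h5
  have h5 := inv_mul_eq_one.mp h4
  rw [eq_mul_inv_iff_mul_eq] at h5
  exact h5.symm

include D in
theorem comm_x' {w : G} (hw : w ∈ WW (z o)) (hs : w ∈ (S : Subgroup G)) {l : ι} (hl : l ≠ o) {v : G}
    (hv : v ∈ zc Q) : w * (x l * v * (x l)⁻¹) * w⁻¹ = x l * (w * v * w⁻¹) * (x l)⁻¹ := by
  have h := D.comm_x hw hs hl
  have h1 : (Md.cjE (D.SN hs) * D.X l) • Md.mk v hv = (D.X l * Md.cjE (D.SN hs)) • Md.mk v hv := by rw [h]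
  rw [mul_smul, mul_smul] at h1
  exact congrArg Md.val h1

include D in
/-- `W ∩ S ≤ S⁰`. -/
theorem inf_le_S0 : WW (z o) ⊓ (S : Subgroup G) ≤ S0 (S : Subgroup G) Z := by
  intro w hw
  rw [mem_inf] at hw
  rw [D.mem_S0_iff hw.2]
  intro l
  rcases eq_or_ne l o with rfl | hl
  · exact D.sg_of_z hw.2 (mem_cs.mp (WW_le _ hw.1))
  · refine D.sg_eq' hw.2 fun v hv => ?_
    have h1 := D.comm_x' hw.1 hw.2 hl (D.le l hv)
    have h2 := D.comm_x' hw.1 hw.2 hl (conj_mem (D.xN l) (D.le l hv))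
    have h3 : pr (x l) (w * v * w⁻¹) = w * pr (x l) v * w⁻¹ := by
      unfold pr
      rw [← h1, ← h2]; group
    rw [D.pr_self hv] at h3
    have h4 := D.pi_mem l (Md.mk (w * v * w⁻¹) (conj_mem (D.SN hw.2) (D.le l hv)))
    rw [D.val_pi, Md.val_mk, h3] at h4
    exact h4

include D in
/-- `W ∩ C(Ω₁Z(Q)) ≤ Q`. -/
theorem inf_C_le_Q : WW (z o) ⊓ centralizer (zc Q : Set G) ≤ Q := by
  intro w hw
  rw [mem_inf] at hw
  refine D.SC (mem_inf.2 ⟨D.mem_S_of hw.1 fun l => ?_, hw.2⟩)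
  exact (mem_centralizer_iff.1 hw.2 _ (D.le l (D.zm l))).symm

end

/-! ### `K`, `KQ`, `W'` -/

section
variable [Finite G] [Finite ι] (D : DatD S Q Z x z) {o : ι}

include D

theorem K_le_KQ : WW (z o) ⊓ (S : Subgroup G) ≤ KQ S Q (z o) := le_sup_left

theorem Q_le_KQ : Q ≤ KQ S Q (z o) := le_sup_right

theorem KQ_le_S0 : KQ S Q (z o) ≤ S0 (S : Subgroup G) Z := sup_le D.inf_le_S0 D.Q_le_S0

theorem ZK_le : zc (KQ S Q (z o)) ≤ zc Q := zc_le_of_le D.CQ (D.Q_le_KQ)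

theorem E_le_ZK : zc (S0 (S : Subgroup G) Z) ≤ zc (KQ S Q (z o)) :=
  zc_le_of_le (((centralizer_le (D.Q_le_KQ (o := o))).trans D.CQ).trans D.Q_le_KQ) D.KQ_le_S0

theorem mem_ZK {v : G} : v ∈ zc (KQ S Q (z o)) ↔ v ∈ zc Q ∧ ∀ s ∈ KQ S Q (z o), s * v = v * s :=
  mem_zc_iff_of_le D.CQ D.Q_le_KQ

theorem pr_ZK (l : ι) : ∀ v ∈ zc (KQ S Q (z o)), pr (x l) v ∈ zc (KQ S Q (z o)) := by
  intro v hv
  have h1 := D.mem_ZK.mp hv
  rw [D.mem_ZK]
  refine ⟨pr_mem (D.xN l) h1.1, fun s hs => ?_⟩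
  have hs0 := D.KQ_le_S0 hs
  have h2 := D.pr_conj (Dat.S0_le hs0) l h1.1
  rw [(D.mem_S0_iff (Dat.S0_le hs0)).mp hs0 l] at h2
  have h3 : s * v * s⁻¹ = v := by rw [h1.2 s hs]; group
  rw [h3] at h2
  exact mul_inv_eq_iff_eq_mul.mp h2

/-- `x l` normalises `K`. -/
theorem x_nor_K {l : ι} (hl : l ≠ o) : x l ∈ normalizer (WW (z o) ⊓ (S : Subgroup G) : Subgroup G) := by
  refine mem_norm fun w hw => ?_
  rw [mem_inf] at hw ⊢
  have h1 : x l * w * (x l)⁻¹ ∈ WW (z o) := conj_mem (le_nor_WW _ (D.x_mem_C hl)) hw.1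
  refine ⟨h1, ?_⟩
  have h2 : x l * w * (x l)⁻¹ * w⁻¹ ∈ WW (z o) ⊓ centralizer (zc Q : Set G) := by
    refine mem_inf.mpr ⟨mul_mem h1 (inv_mem hw.1), ?_⟩
    rw [mem_centralizer_iff]
    intro v hv
    -- `w` and `x l` commute on `zc Q`
    have hv1 : (x l)⁻¹ * (w⁻¹ * v * w) * x l ∈ zc Q := conj_mem' (D.xN l) (conj_mem' (D.SN hw.2) hv)
    have h3 := D.comm_x' hw.1 hw.2 hl hv1
    have h4 : x l * ((x l)⁻¹ * (w⁻¹ * v * w) * x l) * (x l)⁻¹ = w⁻¹ * v * w := by group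
    rw [h4] at h3
    have h5 : v = x l * (w * ((x l)⁻¹ * (w⁻¹ * v * w) * x l) * w⁻¹) * (x l)⁻¹ := by
      rw [← h3]; group
    have h6 : v = (x l * w * (x l)⁻¹ * w⁻¹) * v * (x l * w * (x l)⁻¹ * w⁻¹)⁻¹ := by
      calc v = x l * (w * ((x l)⁻¹ * (w⁻¹ * v * w) * x l) * w⁻¹) * (x l)⁻¹ := h5
        _ = _ := by group
    exact (mul_inv_eq_iff_eq_mul.mp h6.symm).symm
  have h3 := D.QS (D.inf_C_le_Q h2)
  have h4 : x l * w * (x l)⁻¹ = (x l * w * (x l)⁻¹ * w⁻¹) * w := by group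
  rw [h4]
  exact mul_mem h3 hw.2

theorem x_nor_KQ {l : ι} (hl : l ≠ o) : x l ∈ normalizer (KQ S Q (z o) : Set G) := by
  refine mem_norm fun k hk => ?_
  have h1 := D.x_nor_K hl
  have h2 := D.xQ l
  have key : KQ S Q (z o) ≤ (KQ S Q (z o)).comap (MulAut.conj (x l)).toMonoidHom := by
    refine sup_le (fun k hk => ?_) (fun k hk => ?_)
    · exact D.K_le_KQ (conj_mem h1 hk)
    · exact D.Q_le_KQ (conj_mem h2 hk)
  exact key hk

theorem S0_nor_KQ : S0 (S : Subgroup G) Z ≤ normalizer (KQ S Q (z o) : Set G) := by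
  intro s hs
  refine mem_norm fun k hk => ?_
  have key : KQ S Q (z o) ≤ (KQ S Q (z o)).comap (MulAut.conj s).toMonoidHom := by
    refine sup_le (fun k hk => ?_) (fun k hk => ?_)
    · rw [mem_inf] at hk
      exact D.K_le_KQ (mem_inf.mpr ⟨conj_mem (le_nor_WW _ (D.S0_le_C hs)) hk.1,
        mul_mem (mul_mem (Dat.S0_le hs) hk.2) (inv_mem (Dat.S0_le hs))⟩)
    · exact D.Q_le_KQ (conj_mem (D.SQ (Dat.S0_le hs)) hk)
  exact key hk

theorem x_nor_ZK {l : ι} (hl : l ≠ o) : x l ∈ normalizer (zc (KQ S Q (z o)) : Set G) :=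
  normalizer_le_normalizer_zc _ (D.x_nor_KQ hl)

theorem S0_nor_ZK : S0 (S : Subgroup G) Z ≤ normalizer (zc (KQ S Q (z o)) : Set G) :=
  fun _ hs => normalizer_le_normalizer_zc _ (D.S0_nor_KQ hs)

theorem x_conj_Wp {l : ι} (hl : l ≠ o) {w : G} (hw : w ∈ Wp S Q (z o)) : x l * w * (x l)⁻¹ ∈ Wp S Q (z o) :=
  mem_inf.mpr ⟨conj_mem (le_nor_WW _ (D.x_mem_C hl)) (mem_inf.mp hw).1,
    mul_mem (mul_mem (D.x_nor_KQ hl) (mem_inf.mp hw).2) (inv_mem (D.x_nor_KQ hl))⟩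

theorem S0_conj_Wp {s : G} (hs : s ∈ S0 (S : Subgroup G) Z) {w : G} (hw : w ∈ Wp S Q (z o)) :
    s * w * s⁻¹ ∈ Wp S Q (z o) :=
  mem_inf.mpr ⟨conj_mem (le_nor_WW _ (D.S0_le_C hs)) (mem_inf.mp hw).1,
    mul_mem (mul_mem (D.S0_nor_KQ hs) (mem_inf.mp hw).2) (inv_mem (D.S0_nor_KQ hs))⟩

/-- `W' > K` if `W` is not contained in `S`. -/
theorem exists_Wp (h : ¬ WW (z o) ≤ (S : Subgroup G)) : ∃ w ∈ Wp S Q (z o), w ∉ (S : Subgroup G) := by
  have hQn : Q ≤ normalizer (WW (z o) : Set G) := D.Q_le_C.trans (le_nor_WW _)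
  have hA : IsPGroup 2 ↥(Q ⊔ WW (z o)) :=
    (S.2.to_le D.QS : IsPGroup 2 Q).to_sup_of_normal_right' (WW_two _) hQn
  have hBA : KQ S Q (z o) ≤ Q ⊔ WW (z o) := sup_le (inf_le_left.trans le_sup_right) le_sup_left
  have hne : ¬ (Q ⊔ WW (z o)) ≤ KQ S Q (z o) := fun hle =>
    h ((le_sup_right.trans hle).trans (sup_le inf_le_right D.QS))
  obtain ⟨n, hn, hn1, hn2⟩ := exists_normalizer hA hBA hne
  have h1 : n ∈ (Q : Set G) * (WW (z o) : Set G) := by
    rw [← coe_mul_of_left_le_normalizer_right Q (WW (z o)) hQn]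
    exact hn
  obtain ⟨q, hq, w, hw, rfl⟩ := h1
  have hq1 : q ∈ KQ S Q (z o) := D.Q_le_KQ hq
  have hw2 : w ∈ normalizer (KQ S Q (z o) : Set G) := by
    have := mul_mem (inv_mem (le_normalizer hq1)) hn2
    simpa using this
  refine ⟨w, ⟨hw, hw2⟩, fun hwS => hn1 ?_⟩
  exact mul_mem hq1 (D.K_le_KQ (mem_inf.mpr ⟨hw, hwS⟩))

/-- `C_{W'}(ZK) ≤ K`. -/
theorem Wp_faith {w : G} (hw : w ∈ Wp S Q (z o)) (h : w ∈ centralizer (zc (KQ S Q (z o)) : Set G)) :
    w ∈ WW (z o) ⊓ (S : Subgroup G) :=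
  mem_inf.mpr ⟨hw.1, D.mem_S_of hw.1 fun l => (mem_centralizer_iff.1 h _ (D.E_le_ZK (D.z_mem_E l))).symm⟩

theorem K_le_C : WW (z o) ⊓ (S : Subgroup G) ≤ centralizer (zc (KQ S Q (z o)) : Set G) :=
  D.K_le_KQ.trans (le_centralizer_zc _)

end

end DatD

end Cfsg.Agent.Omega.IId.ThmCD

end

section


/-!
# THEOREM C with `D`, `q = 2` (bb OMEGA 19448), (A3), (A4): `W'/K` on `Ω₁Z(KQ)` satisfies `TwoW.WDat`

The index `o` of `TwoW.WDat` takes everything fixed by all `x l`, `l ≠ o` (`D⁺` included).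
-/

set_option autoImplicit false
set_option linter.unusedSectionVars false

namespace Cfsg.Agent.Omega.IId.ThmCD

open scoped Pointwise
open Subgroup Cfsg Cfsg.Agent.MinSimple.VModule Cfsg.Agent.Omega.ThmC
open Cfsg.Agent.ZN (zc o2)
open Cfsg.Agent.Omega.IITwo.Count (conj_mem conj_mem' mem_norm)
open Cfsg.Agent.Omega.ThmC.Dat (KQ Wp Wp_le Wp_nor_ZK CX mem_CX)

universe u

variable {G : Type u} [Group G]

namespace DatD

variable {S : Sylow 2 G} {Q : Subgroup G} {ι : Type} {Z : ι → Subgroup G} {x z : ι → G}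

/-! ### projections on `Md X`, `zc X ≤ zc Q` -/

section proj

variable (D : DatD S Q Z x z)

/-- `π l` on `Md X`. -/
def pX (D : DatD S Q Z x z) {X : Subgroup G} (hX : zc X ≤ zc Q)
    (h : ∀ l, ∀ v ∈ zc X, pr (x l) v ∈ zc X) (l : ι) : Md X →+ Md X :=
  Md.lft (pr (x l)) (h l) (fun _ hv _ hw => pr_mul (D.xN l) (hX hv) (hX hw))

variable {X : Subgroup G} {hX : zc X ≤ zc Q} {h : ∀ l, ∀ v ∈ zc X, pr (x l) v ∈ zc X}

@[simp] theorem val_pX (l : ι) (a : Md X) : (D.pX hX h l a).val = pr (x l) a.val := rfl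

theorem inc_pX (l : ι) (a : Md X) : Md.inc hX (D.pX hX h l a) = D.pi l (Md.inc hX a) := rfl

theorem pX_idem (l : ι) (a : Md X) : D.pX hX h l (D.pX hX h l a) = D.pX hX h l a :=
  Md.inc_inj hX (by rw [inc_pX, inc_pX, D.pi_idem])

theorem pX_orth {l m : ι} (hlm : l ≠ m) (a : Md X) : D.pX hX h l (D.pX hX h m a) = 0 :=
  Md.inc_inj hX (by rw [inc_pX, inc_pX, D.pi_orth hlm, map_zero])

theorem pX_eq_iff {l : ι} {a : Md X} : D.pX hX h l a = a ↔ a.val ∈ Z l := by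
  rw [← Md.val_inj, val_pX, ← Md.val_inc hX a, ← D.val_pi, Md.val_inj, D.pi_eq_iff]

theorem pX_mem (l : ι) (a : Md X) : (D.pX hX h l a).val ∈ Z l :=
  D.pi_mem l (Md.inc hX a)

open Classical in
/-- the projections, the index `o` takes the complement. -/
noncomputable def pO [Fintype ι] (D : DatD S Q Z x z) {X : Subgroup G} (hX : zc X ≤ zc Q)
    (h : ∀ l, ∀ v ∈ zc X, pr (x l) v ∈ zc X) (o l : ι) : Md X →+ Md X :=
  if l = o then AddMonoidHom.id _ + ∑ m ∈ Finset.univ.erase o, D.pX hX h m else D.pX hX h l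

variable [Fintype ι]

theorem pO_ne {o l : ι} (hl : l ≠ o) (a : Md X) : D.pO hX h o l a = D.pX hX h l a := by
  rw [pO, if_neg hl]

open Classical in
theorem pO_self (o : ι) (a : Md X) :
    D.pO hX h o o a = a + ∑ m ∈ Finset.univ.erase o, D.pX hX h m a := by
  rw [pO, if_pos rfl, AddMonoidHom.add_apply, AddMonoidHom.id_apply, AddMonoidHom.finsetSum_apply]

theorem pX_pO {o l : ι} (hl : l ≠ o) (a : Md X) : D.pX hX h l (D.pO hX h o o a) = 0 := by
  classical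
  rw [pO_self, map_add, map_sum, Finset.sum_eq_single l, D.pX_idem, Md.two]
  · intro m _ hm
    exact D.pX_orth hm.symm a
  · intro hn
    exact absurd (Finset.mem_erase.2 ⟨hl, Finset.mem_univ l⟩) hn

theorem pO_idem (o l : ι) (a : Md X) : D.pO hX h o l (D.pO hX h o l a) = D.pO hX h o l a := by
  classical
  rcases eq_or_ne l o with rfl | hl
  · rw [pO_self (a := D.pO hX h l l a), Finset.sum_eq_zero, add_zero]
    intro m hm
    exact D.pX_pO (Finset.ne_of_mem_erase hm) a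
  · rw [D.pO_ne hl, D.pO_ne hl, D.pX_idem]

theorem pO_orth (o l m : ι) (hlm : l ≠ m) (a : Md X) : D.pO hX h o l (D.pO hX h o m a) = 0 := by
  classical
  rcases eq_or_ne l o with rfl | hl
  · rw [D.pO_ne (Ne.symm hlm), pO_self, Finset.sum_eq_single m, D.pX_idem, Md.two]
    · intro n _ hn
      exact D.pX_orth hn a
    · intro hn
      exact absurd (Finset.mem_erase.2 ⟨hlm.symm, Finset.mem_univ m⟩) hn
  · rw [D.pO_ne hl]
    rcases eq_or_ne m o with rfl | hm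
    · exact D.pX_pO hl a
    · rw [D.pO_ne hm, D.pX_orth hlm]

theorem pO_sum (o : ι) (a : Md X) : ∑ l, D.pO hX h o l a = a := by
  classical
  rw [← Finset.add_sum_erase _ _ (Finset.mem_univ o), pO_self,
    Finset.sum_congr rfl fun m hm => D.pO_ne (Finset.ne_of_mem_erase hm) a, add_assoc, Md.two, add_zero]

end proj

section
variable [Finite G] [Finite ι] (D : DatD S Q Z x z) {o : ι}

open Classical in
/-- `x l` on `Ω₁Z(KQ)`. -/
noncomputable def xh (D : DatD S Q Z x z) (o l : ι) : ↥(NG (KQ S Q (z o))) :=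
  if h : l ≠ o then phi (D.x_nor_ZK h) else 1

theorem xh_eq {l : ι} (h : l ≠ o) : D.xh o l = phi (D.x_nor_ZK h) := dif_pos h

/-- the projections on `Ω₁Z(KQ)`. -/
noncomputable abbrev pK [Fintype ι] (D : DatD S Q Z x z) (o l : ι) : Md (KQ S Q (z o)) →+ Md (KQ S Q (z o)) :=
  D.pO D.ZK_le D.pr_ZK o l

include D in
theorem pr_comm_S0 {s : G} (hs : s ∈ S0 (S : Subgroup G) Z) (l : ι) {v : G} (hv : v ∈ zc Q) :
    s * pr (x l) v * s⁻¹ = pr (x l) (s * v * s⁻¹) := by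
  have h2 := D.pr_conj (Dat.S0_le hs) l hv
  rwa [(D.mem_S0_iff (Dat.S0_le hs)).mp hs l] at h2

theorem Ux {u : ↥(NG (KQ S Q (z o)))} (hu : u ∈ img (KQ S Q (z o)) (S0 (S : Subgroup G) Z)) {l : ι}
    (hl : l ≠ o) : u * D.xh o l * u⁻¹ = D.xh o l ∨ u * D.xh o l * u⁻¹ = (D.xh o l)⁻¹ := by
  obtain ⟨s, hsN, hs, rfl⟩ := mem_img.mp hu
  rw [D.xh_eq hl, phi_mul, phi_inv, phi_mul, phi_inv, phi_eq_iff, phi_eq_iff]
  have h1 := (D.sg_spec (Dat.S0_le hs) l).2
  rw [(D.mem_S0_iff (Dat.S0_le hs)).mp hs l] at h1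
  rcases h1 with h1 | h1
  · exact Or.inl fun v hv => h1 v (D.ZK_le hv)
  · exact Or.inr fun v hv => by rw [inv_inv]; exact h1 v (D.ZK_le hv)

theorem mem_CX' {g : G} (hg : g ∈ Wp S Q (z o)) :
    g ∈ CX S Q x z o ↔ ∀ l, l ≠ o → phi (Wp_nor_ZK hg) * D.xh o l = D.xh o l * phi (Wp_nor_ZK hg) := by
  rw [mem_CX]
  constructor
  · rintro ⟨-, h⟩ l hl
    rw [D.xh_eq hl, phi_mul, phi_mul, phi_eq_iff]
    intro v hv
    calc g * x l * v * (g * x l)⁻¹ = g * (x l * v * (x l)⁻¹) * g⁻¹ := by group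
      _ = _ := h l hl v hv
      _ = _ := by group
  · intro h
    refine ⟨hg, fun l hl v hv => ?_⟩
    have h1 := h l hl
    rw [D.xh_eq hl, phi_mul, phi_mul, phi_eq_iff] at h1
    calc g * (x l * v * (x l)⁻¹) * g⁻¹ = g * x l * v * (g * x l)⁻¹ := by group
      _ = _ := h1 v hv
      _ = _ := by group

include D in
theorem S0_nor_CX : S0 (S : Subgroup G) Z ≤ normalizer (CX S Q x z o : Set G) := by
  intro s hs
  refine mem_norm fun g hg => ?_
  have hgW : g ∈ Wp S Q (z o) := (mem_CX.mp hg).1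
  have hgN := Wp_nor_ZK hgW
  have hsN := D.S0_nor_ZK (o := o) hs
  rw [D.mem_CX' hgW] at hg
  rw [D.mem_CX' (D.S0_conj_Wp hs hgW)]
  intro l hl
  have h1 : phi (Wp_nor_ZK (D.S0_conj_Wp hs hgW)) = phi hsN * phi hgN * (phi hsN)⁻¹ := by
    rw [phi_mul, phi_inv, phi_mul]
  rw [h1]
  have hc : Commute (phi hgN) (D.xh o l) := hg l hl
  have hu : (phi hsN)⁻¹ ∈ img (KQ S Q (z o)) (S0 (S : Subgroup G) Z) := inv_mem (phi_mem_img hsN hs)
  have h2 : Commute (phi hgN) ((phi hsN)⁻¹ * D.xh o l * (phi hsN)⁻¹⁻¹) := by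
    rcases D.Ux hu hl with h | h
    · rw [h]; exact hc
    · rw [h]; exact hc.inv_right
  have h3 := (Commute.conj_iff (phi hsN)).mpr h2
  have h4 : phi hsN * ((phi hsN)⁻¹ * D.xh o l * (phi hsN)⁻¹⁻¹) * (phi hsN)⁻¹ = D.xh o l := by group
  rw [h4] at h3
  exact h3

include D in
/-- **(A3)** `C_{W'}(x l : l ≠ o) ≤ S`. -/
theorem CX_le : CX S Q x z o ≤ (S : Subgroup G) := by
  by_contra hne
  have hA : IsPGroup 2 ↥(S0 (S : Subgroup G) Z ⊔ CX S Q x z o) :=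
    (S.2.to_le Dat.S0_le : IsPGroup 2 ↥(S0 (S : Subgroup G) Z)).to_sup_of_normal_right'
      ((WW_two (z o)).to_le (fun g hg => Wp_le (mem_CX.mp hg).1)) D.S0_nor_CX
  obtain ⟨n, hn, hn1, hn2⟩ := exists_normalizer hA le_sup_left
    (fun h => hne ((le_sup_right.trans h).trans Dat.S0_le))
  have h1 : n ∈ (S0 (S : Subgroup G) Z : Set G) * (CX S Q x z o : Set G) := by
    rw [← coe_mul_of_left_le_normalizer_right _ _ D.S0_nor_CX]
    exact hn
  obtain ⟨s, hs, c, hc, rfl⟩ := h1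
  have hcN : c ∈ normalizer (S0 (S : Subgroup G) Z : Set G) := by
    have := mul_mem (inv_mem (le_normalizer hs)) hn2
    simpa using this
  have hcS : c ∉ S0 (S : Subgroup G) Z := fun h => hn1 (mul_mem hs h)
  apply hcS
  have hcE : c ∈ normalizer (zc (S0 (S : Subgroup G) Z) : Set G) := normalizer_le_normalizer_zc _ hcN
  have hcW : c ∈ Wp S Q (z o) := (mem_CX.mp hc).1
  refine D.inf_le_S0 (mem_inf.2 ⟨Wp_le hcW, D.chain (Wp_le hcW) fun l hl => mem_norm fun v hv => ?_⟩)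
  rw [mem_inf] at hv ⊢
  have hvE := conj_mem hcE hv.2
  refine ⟨?_, hvE⟩
  have h1 := (mem_CX.mp hc).2 l hl
  have h2 := h1 v (D.E_le_ZK hv.2)
  have h3 := h1 _ (conj_mem (D.x_nor_ZK hl) (D.E_le_ZK hv.2))
  have h4 : c * pr (x l) v * c⁻¹ = pr (x l) (c * v * c⁻¹) := by
    unfold pr
    rw [← h2, ← h3]; group
  rw [D.pr_self hv.1] at h4
  rw [h4]
  exact D.prj l _ (D.E_le hvE)

include D in
/-- an element of `zc Q` killed by `π l` is centralised by `x l` -/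
theorem x_fix {l : ι} {v : G} (hv : v ∈ zc Q) (h : pr (x l) v = 1) : x l * v * (x l)⁻¹ = v :=
  congrArg Md.val (D.X_ker (a := Md.mk v hv) (Md.ext h))

theorem wdat [Fintype ι] : TwoW.WDat o (D.pK o) (D.xh o) (img (KQ S Q (z o)) (Wp S Q (z o)))
    (img (KQ S Q (z o)) (S0 (S : Subgroup G) Z)) where
  two := Md.two
  faith _ h := NG_faith h
  idem l a := D.pO_idem o l a
  orth l m h a := D.pO_orth o l m h a
  sum a := D.pO_sum o a
  px := by
    intro l hl a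
    rw [D.xh_eq hl, D.pO_ne hl]
    exact Md.ext rfl
  xt := by
    intro l hl m hm a
    rw [D.xh_eq hl]
    apply Md.ext
    rw [val_phi]
    refine D.x_fix (D.ZK_le (Md.val_mem _)) ?_
    have h1 := D.pO_orth (hX := D.ZK_le) (h := D.pr_ZK) o l m hm.symm a
    rw [D.pO_ne hl] at h1
    exact congrArg Md.val h1
  H2 := img_isPGroup ((WW_two (z o)).to_le Wp_le)
  U2 := img_isPGroup (S.2.to_le Dat.S0_le)
  xH := by
    intro l hl h hh
    obtain ⟨w, hwN, hw, rfl⟩ := mem_img.mp hh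
    rw [D.xh_eq hl, phi_mul, phi_inv, phi_mul]
    exact phi_mem_img _ (D.x_conj_Wp hl hw)
  UH := by
    intro u hu h hh
    obtain ⟨w, hwN, hw, rfl⟩ := mem_img.mp hh
    obtain ⟨s, hsN, hs, rfl⟩ := mem_img.mp hu
    rw [phi_mul, phi_inv, phi_mul]
    exact phi_mem_img _ (D.S0_conj_Wp hs hw)
  Ux := fun u hu l hl => D.Ux hu hl
  Uπ := by
    classical
    intro u hu
    obtain ⟨s, hsN, hs, rfl⟩ := mem_img.mp hu
    have h1 : ∀ (l : ι) (a : Md (KQ S Q (z o))), phi hsN • D.pX (X := KQ S Q (z o)) D.ZK_le D.pr_ZK l a =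
        D.pX (X := KQ S Q (z o)) D.ZK_le D.pr_ZK l (phi hsN • a) := by
      intro l a
      apply Md.ext
      rw [val_phi, val_pX, val_pX, val_phi]
      exact D.pr_comm_S0 hs l (D.ZK_le a.val_mem)
    intro l a
    rcases eq_or_ne l o with rfl | hl
    · rw [D.pO_self, D.pO_self, smul_add, Finset.smul_sum]
      congr 1
      exact Finset.sum_congr rfl fun m _ => h1 m a
    · rw [D.pO_ne hl, D.pO_ne hl]
      exact h1 l a
  CH := by
    intro h hh hc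
    obtain ⟨w, hwN, hw, rfl⟩ := mem_img.mp hh
    have h1 : w ∈ CX S Q x z o := (D.mem_CX' hw).mpr hc
    rw [phi_eq_one_iff]
    exact D.K_le_C (mem_inf.mpr ⟨Wp_le hw, D.CX_le h1⟩)

end

end DatD

end Cfsg.Agent.Omega.IId.ThmCD

end
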